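import Cfsg.Agent.Lib.helper2.PSL42

set_option autoImplicit false

namespace Cfsg.Agent.Lib.helper22.A7a

open Matrix

theorem exists_A7 {F : Type*} [Field F] [Fintype F] (hF : Fintype.card F = 2) :
    ∃ H : Subgroup (Matrix.GeneralLinearGroup (Fin 4) F),
      Nonempty (H ≃* alternatingGroup (Fin 7)) := by
  classical
  obtain ⟨e⟩ := Cfsg.Agent.Lib.helper2.PSL42.iso hF
  have hc : Subgroup.center (SpecialLinearGroup (Fin 4) F) = ⊥ := by
    have h := Cfsg.Agent.Lib.helper2.SLCard.card_center_SL F 4 (by norm_num)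
    rw [hF] at h
    exact Subgroup.eq_bot_of_card_eq _ (by simpa using h)
  let π : SpecialLinearGroup (Fin 4) F →* ProjectiveSpecialLinearGroup (Fin 4) F :=
    QuotientGroup.mk' _
  have hπinj : Function.Injective π := by
    rw [← MonoidHom.ker_eq_bot_iff, QuotientGroup.ker_mk', hc]
  have hπsurj : Function.Surjective π := QuotientGroup.mk'_surjective _
  let eπ : SpecialLinearGroup (Fin 4) F ≃* ProjectiveSpecialLinearGroup (Fin 4) F :=
    MulEquiv.ofBijective π ⟨hπinj, hπsurj⟩
  let ι : Equiv.Perm (Fin 7) →* Equiv.Perm (Fin 8) :=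
    Equiv.Perm.viaEmbeddingHom Fin.castSuccEmb
  have hι : Function.Injective ι := Equiv.Perm.viaEmbeddingHom_injective _
  have hsign : ∀ σ : Equiv.Perm (Fin 7), Equiv.Perm.sign (ι σ) = Equiv.Perm.sign σ := by
    intro σ
    letI : DecidablePred (· ∈ Set.range (Fin.castSuccEmb (n := 7)).toFun) :=
      fun a => Classical.propDecidable _
    exact Equiv.Perm.sign_extendDomain σ _
  let j : alternatingGroup (Fin 7) →* alternatingGroup (Fin 8) :=
    (ι.comp (alternatingGroup (Fin 7)).subtype).codRestrict (alternatingGroup (Fin 8))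
      (fun σ => by
        rw [Equiv.Perm.mem_alternatingGroup]
        show Equiv.Perm.sign (ι σ.1) = 1
        rw [hsign]
        exact Equiv.Perm.mem_alternatingGroup.mp σ.2)
  have hj : Function.Injective j := by
    intro a b hab
    have h1 : ι a.1 = ι b.1 := congrArg Subtype.val hab
    exact Subtype.ext (hι h1)
  let Φ : alternatingGroup (Fin 7) →* GL (Fin 4) F :=
    (SpecialLinearGroup.toGL).comp
      ((eπ.symm.toMonoidHom).comp ((e.symm.toMonoidHom).comp j))
  have hΦ : Function.Injective Φ := by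
    intro a b hab
    have h1 : eπ.symm (e.symm (j a)) = eπ.symm (e.symm (j b)) :=
      Matrix.SpecialLinearGroup.toGL_injective hab
    exact hj (e.symm.injective (eπ.symm.injective h1))
  exact ⟨Φ.range, ⟨(MonoidHom.ofInjective hΦ).symm⟩⟩

end Cfsg.Agent.Lib.helper22.A7a
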