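import Mathlib
import Cfsg.Agent.Lib.helper23.InducedHeight
import Cfsg.Agent.Lib.helper23.BPMaxChar
import Cfsg.Agent.Lib.helper23.BrauerFeit
import Cfsg.Agent.Lib.helper23.DefectBound
import Cfsg.Agent.Lib.helper5.ProjVanish
import Cfsg.Agent.Lib.helper22.SubsecNorm

set_option autoImplicit false

namespace Cfsg.Agent.Lib.helper22

open Cfsg Cfsg.Agent.Lib.helper24 Cfsg.Agent.Lib.helper23 Cfsg.Agent.Lib.helper5
open scoped ComplexConjugate

universe u

section single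

variable {K : Type u} [Group K] [Fintype K] [Fintype (IrrCharacter K)]
variable {p : ℕ} [hp : Fact p.Prime] {M : Ideal AlgInt}

noncomputable def nRed (p : ℕ) [Fact p.Prime] (ν₀ : ℕ) (ξ ξ' : IrrCharacter K) : ℤ :=
  nInt p ξ ξ' / (p : ℤ) ^ ν₀

noncomputable def rho (p q : ℕ) (ξ : IrrCharacter K) : ℂ :=
  ξ.1 1 * (p : ℂ) ^ q / (Nat.card K : ℂ)

omit [Fintype (IrrCharacter K)] in
theorem nRed_symm (ν₀ : ℕ) (ξ ξ' : IrrCharacter K) : nRed p ν₀ ξ ξ' = nRed p ν₀ ξ' ξ := by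
  unfold nRed
  rw [nInt_symm]

theorem nInt_eq_left {b : Set (IrrCharacter K)} {ν₀ : ℕ}
    (hht : ∀ ξ ∈ b, (charDegree ξ.1).factorization p = ν₀ + blockHeight p b ξ.1)
    {ξ : IrrCharacter K} (hξ : ξ ∈ b) (ξ' : IrrCharacter K) :
    nInt p ξ ξ' = (p : ℤ) ^ ν₀ * nRed p ν₀ ξ ξ' := by
  have h1 := pow_dvd_inner_ptrunc p ξ ξ' (nInt p ξ ξ') (nInt_spec p ξ ξ')
  have h2 : (p : ℤ) ^ ν₀ ∣ nInt p ξ ξ' := by
    refine dvd_trans (pow_dvd_pow _ ?_) h1
    rw [hht ξ hξ]
    omega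
  unfold nRed
  rw [Int.mul_ediv_cancel' h2]

theorem nInt_eq_right {b : Set (IrrCharacter K)} {ν₀ : ℕ}
    (hht : ∀ ξ ∈ b, (charDegree ξ.1).factorization p = ν₀ + blockHeight p b ξ.1)
    {ξ' : IrrCharacter K} (hξ' : ξ' ∈ b) (ξ : IrrCharacter K) :
    nInt p ξ ξ' = (p : ℤ) ^ ν₀ * nRed p ν₀ ξ ξ' := by
  rw [nInt_symm, nInt_eq_left hht hξ' ξ, nRed_symm]

omit hp in
theorem coord_rho (q ν₀ : ℕ) (hν : ν₀ + q = (Nat.card K).factorization p) (f : K → ℂ)
    (ξ : IrrCharacter K) :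
    coord (regConj p f) ξ * rho p q ξ * (p : ℂ) ^ ν₀ = classInner (ptrunc p ξ.1) f := by
  have h := coord_regConj_fun p ξ f
  have hne : (Nat.card K : ℂ) ≠ 0 := NeZero.ne _
  unfold rho
  rw [← hν] at h
  push_cast at h
  field_simp
  linear_combination h

omit [Fintype (IrrCharacter K)] in
theorem rho_mul (b : Set (IrrCharacter K)) (q ν₀ : ℕ)
    (hν : ν₀ + q = (Nat.card K).factorization p)
    (hht : ∀ ξ ∈ b, (charDegree ξ.1).factorization p = ν₀ + blockHeight p b ξ.1)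
    {ξ : IrrCharacter K} (hξ : ξ ∈ b) :
    rho p q ξ * ((Nat.card K / p ^ (Nat.card K).factorization p : ℕ) : ℂ)
      = ((p ^ blockHeight p b ξ.1
          * (charDegree ξ.1 / p ^ (charDegree ξ.1).factorization p) : ℕ) : ℂ) := by
  have hK : Nat.card K = p ^ (ν₀ + q) * (Nat.card K / p ^ (Nat.card K).factorization p) := by
    rw [hν]
    exact (Nat.ordProj_mul_ordCompl_eq_self (Nat.card K) p).symm
  have hd : charDegree ξ.1 = p ^ (ν₀ + blockHeight p b ξ.1)
      * (charDegree ξ.1 / p ^ (charDegree ξ.1).factorization p) := by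
    rw [← hht ξ hξ]
    exact (Nat.ordProj_mul_ordCompl_eq_self _ p).symm
  obtain ⟨h', hh'⟩ : ∃ h' : ℕ, h' = Nat.card K / p ^ (Nat.card K).factorization p := ⟨_, rfl⟩
  obtain ⟨d, hd'⟩ : ∃ d : ℕ, d = charDegree ξ.1 / p ^ (charDegree ξ.1).factorization p :=
    ⟨_, rfl⟩
  rw [← hh'] at hK ⊢
  rw [← hd'] at hd ⊢
  have hp0 : (p : ℂ) ≠ 0 := by exact_mod_cast hp.out.ne_zero
  have hK0 : (Nat.card K : ℂ) ≠ 0 := NeZero.ne _
  have hKc : (Nat.card K : ℂ) = (p : ℂ) ^ (ν₀ + q) * (h' : ℂ) := by exact_mod_cast hK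
  have hdc : ξ.1 1 = (p : ℂ) ^ (ν₀ + blockHeight p b ξ.1) * (d : ℂ) := by
    rw [← charDegree_cast]
    exact_mod_cast hd
  have hh0 : (h' : ℂ) ≠ 0 := by
    intro h0
    rw [h0, mul_zero] at hKc
    exact hK0 hKc
  unfold rho
  rw [hdc, hKc]
  push_cast
  field_simp
  ring

omit [Fintype (IrrCharacter K)] in
theorem rho_memLocalRing (hM : IsPModular p M) (b : Set (IrrCharacter K)) (q ν₀ : ℕ)
    (hν : ν₀ + q = (Nat.card K).factorization p)
    (hht : ∀ ξ ∈ b, (charDegree ξ.1).factorization p = ν₀ + blockHeight p b ξ.1)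
    {ξ : IrrCharacter K} (hξ : ξ ∈ b) : MemLocalRing M (rho p q ξ) := by
  have hMp := isPModular_isPrime hM
  have h := rho_mul b q ν₀ hν hht hξ
  have hpm : ¬ p ∣ Nat.card K / p ^ (Nat.card K).factorization p :=
    Nat.not_dvd_ordCompl hp.out Nat.card_pos.ne'
  have hinv := memLocalRing_inv_natCast hM _ hpm
  have hh0 : ((Nat.card K / p ^ (Nat.card K).factorization p : ℕ) : ℂ) ≠ 0 := by
    intro h0
    apply hpm
    have h1 : (Nat.card K / p ^ (Nat.card K).factorization p) = 0 := by exact_mod_cast h0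
    rw [h1]
    exact dvd_zero p
  have e : rho p q ξ = ((p ^ blockHeight p b ξ.1
      * (charDegree ξ.1 / p ^ (charDegree ξ.1).factorization p) : ℕ) : ℂ)
      * ((Nat.card K / p ^ (Nat.card K).factorization p : ℕ) : ℂ)⁻¹ := by
    rw [← h]
    field_simp
  rw [e]
  exact memLocalRing_mul hMp (memLocalRing_natCast hMp.ne_top _) hinv

omit [Fintype (IrrCharacter K)] in
theorem rho_not_memLocalIdeal (hM : IsPModular p M) (b : Set (IrrCharacter K)) (q ν₀ : ℕ)
    (hν : ν₀ + q = (Nat.card K).factorization p)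
    (hht : ∀ ξ ∈ b, (charDegree ξ.1).factorization p = ν₀ + blockHeight p b ξ.1)
    {ξ : IrrCharacter K} (hξ : ξ ∈ b) (h0 : blockHeight p b ξ.1 = 0) :
    ¬ MemLocalIdeal M (rho p q ξ) := by
  intro hmem
  have hMp := isPModular_isPrime hM
  have h := rho_mul b q ν₀ hν hht hξ
  rw [h0, pow_zero, one_mul] at h
  have h1 := memLocalIdeal_mul_right hMp hmem
    (memLocalRing_natCast hMp.ne_top (Nat.card K / p ^ (Nat.card K).factorization p))
  rw [h, memLocalIdeal_natCast_iff hM] at h1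
  exact Nat.not_dvd_ordCompl hp.out (charDegree_ne_zero' ξ) h1

theorem nRed_eq_coord (b : Set (IrrCharacter K)) (q ν₀ : ℕ)
    (hν : ν₀ + q = (Nat.card K).factorization p)
    (hht : ∀ ξ ∈ b, (charDegree ξ.1).factorization p = ν₀ + blockHeight p b ξ.1)
    {ξ₀ : IrrCharacter K} (hξ₀ : ξ₀ ∈ b) (ξ : IrrCharacter K) :
    (nRed p ν₀ ξ ξ₀ : ℂ) = coord (regConj p ξ₀.1) ξ * rho p q ξ := by
  have hp0 : (p : ℂ) ^ ν₀ ≠ 0 := pow_ne_zero _ (by exact_mod_cast hp.out.ne_zero)
  apply mul_right_cancel₀ hp0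
  rw [coord_rho q ν₀ hν, nInt_spec, nInt_eq_right hht hξ₀ ξ]
  push_cast
  ring

end single

section central

variable {K : Type u} [Group K] [Fintype K]

theorem central_pow (ψ : IrrCharacter K) (t : K) (hcen : ∀ x : K, x * t = t * x) (j : ℕ)
    (g : K) : ψ.1 (t ^ j * g) = ((ψ.1 1)⁻¹ * ψ.1 t) ^ j * ψ.1 g := by
  induction j generalizing g with
  | zero => simp
  | succ j ih =>
    rw [pow_succ, mul_assoc, ih, irr_central_mul' ψ hcen, pow_succ]
    ring

theorem eps_pow (ψ : IrrCharacter K) (t : K) (hcen : ∀ x : K, x * t = t * x) (j : ℕ) :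
    (ψ.1 1)⁻¹ * ψ.1 (t ^ j) = ((ψ.1 1)⁻¹ * ψ.1 t) ^ j := by
  have h := central_pow ψ t hcen j 1
  rw [mul_one] at h
  rw [h]
  have h1 := irr_one_ne_zero ψ
  field_simp

theorem eps_root (ψ : IrrCharacter K) (t : K) (hcen : ∀ x : K, x * t = t * x) (N : ℕ)
    (ht : t ^ N = 1) : ((ψ.1 1)⁻¹ * ψ.1 t) ^ N = 1 := by
  rw [← eps_pow ψ t hcen N, ht]
  exact inv_mul_cancel₀ (irr_one_ne_zero ψ)

theorem sum_reg_eq [Fintype (IrrCharacter K)] (p : ℕ) [hp : Fact p.Prime]
    (ξ ξ' : IrrCharacter K) :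
    ∑ s : K, (if p ∣ orderOf s then (0 : ℂ) else ξ.1 s * conj (ξ'.1 s))
      = (Nat.card K : ℂ) * (nInt p ξ ξ' : ℂ)
        / ((p ^ (Nat.card K).factorization p : ℕ) : ℂ) := by
  have h := card_mul_inner_ptrunc p ξ.1 ξ'.1
  rw [nInt_spec] at h
  have hpa : ((p ^ (Nat.card K).factorization p : ℕ) : ℂ) ≠ 0 := by
    exact_mod_cast (pow_pos hp.out.pos _).ne'
  rw [h]
  field_simp

theorem blockPart_idem [Fintype (IrrCharacter K)] (b : Set (IrrCharacter K)) (F : K → ℂ)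
    (y : K) : blockPart b (blockPart b F) y = blockPart b F y := by
  classical
  have e : blockPart b F = ∑ ξ ∈ (Finset.univ : Finset (IrrCharacter K)),
      (b.indicator (fun _ => (1 : ℂ)) ξ * classInner F ξ.1) • ξ.1 := by
    funext z
    rw [blockPart_eq_ind, Finset.sum_apply]
    apply Finset.sum_congr rfl
    intro ξ _
    simp [mul_assoc]
  conv_lhs => rw [e]
  rw [blockPart_sum_smul, blockPart_eq_ind]
  apply Finset.sum_congr rfl
  intro ξ _
  by_cases hξ : ξ ∈ b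
  · rw [blockPart_self b hξ, Set.indicator_of_mem hξ]
    ring
  · rw [Set.indicator_of_notMem hξ]
    simp

omit [Fintype K] in
theorem ind_cast (b : Set (IrrCharacter K)) (ξ : IrrCharacter K) :
    ((b.indicator (fun _ => (1 : ℤ)) ξ : ℤ) : ℂ) = b.indicator (fun _ => (1 : ℂ)) ξ := by
  by_cases hξ : ξ ∈ b
  · rw [Set.indicator_of_mem hξ, Set.indicator_of_mem hξ]
    simp
  · rw [Set.indicator_of_notMem hξ, Set.indicator_of_notMem hξ]
    simp

end central

section contrib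

variable {G : Type u} [Group G] [Fintype G] [Fintype (IrrCharacter G)]
variable (H : Subgroup G) [Fintype H] [Fintype (IrrCharacter H)]
variable {p : ℕ} [hp : Fact p.Prime] {M : Ideal AlgInt}

noncomputable def resMult (χ : IrrCharacter G) (ξ : IrrCharacter H) : ℕ :=
  (isCharacter_inner_irr_nat
    (Cfsg.Agent.Lib.helper24.isCharacter_restrict H (isCharacter_irr χ)) ξ).choose

omit [Fintype G] [Fintype (IrrCharacter G)] [Fintype (IrrCharacter H)] in
theorem resMult_spec (χ : IrrCharacter G) (ξ : IrrCharacter H) :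
    classInner (fun h : H => χ.1 h) ξ.1 = (resMult H χ ξ : ℂ) :=
  (isCharacter_inner_irr_nat
    (Cfsg.Agent.Lib.helper24.isCharacter_restrict H (isCharacter_irr χ)) ξ).choose_spec

omit [Fintype G] [Fintype (IrrCharacter G)] in
theorem res_expand (χ : IrrCharacter G) (c : H) :
    χ.1 (c : G) = ∑ ξ : IrrCharacter H, (resMult H χ ξ : ℂ) * ξ.1 c := by
  have hclass : IsClassFunction H (fun h : H => χ.1 h) := by
    intro g h
    exact isClassFunction_irr χ (g : G) (h : G)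
  have h := classFunction_expansion_apply hclass c
  simp only [resMult_spec] at h
  exact h

omit [Fintype G] [Fintype (IrrCharacter G)] in
theorem sum_nRed_eq (hM : IsPModular p M) (b : Set (IrrCharacter H)) (hb : IsPBlock M b)
    (q ν₀ : ℕ) (hν : ν₀ + q = (Nat.card H).factorization p)
    (hht : ∀ ξ ∈ b, (charDegree ξ.1).factorization p = ν₀ + blockHeight p b ξ.1)
    (χ : IrrCharacter G) {ξ' : IrrCharacter H} (hξ' : ξ' ∈ b) :
    ∑ ξ : IrrCharacter H, b.indicator (fun _ => (1 : ℂ)) ξ * (resMult H χ ξ : ℂ)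
        * (nRed p ν₀ ξ' ξ : ℂ)
      = coord (regConj p (fun h : H => χ.1 h)) ξ' * rho p q ξ' := by
  have hp0 : (p : ℂ) ^ ν₀ ≠ 0 := pow_ne_zero _ (by exact_mod_cast hp.out.ne_zero)
  apply mul_right_cancel₀ hp0
  rw [coord_rho q ν₀ hν]
  have hexp : (fun h : H => χ.1 h) = ∑ ξ : IrrCharacter H, (resMult H χ ξ : ℂ) • ξ.1 := by
    funext c
    rw [res_expand H χ c, Finset.sum_apply]
    rfl
  rw [hexp, classInner_sum_right, Finset.sum_mul]
  apply Finset.sum_congr rfl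
  intro ξ _
  rw [classInner_smul_right, Complex.conj_natCast, nInt_spec]
  by_cases hξ : ξ ∈ b
  · rw [Set.indicator_of_mem hξ, nInt_eq_left hht hξ' ξ]
    push_cast
    ring
  · rw [Set.indicator_of_notMem hξ]
    obtain ⟨ξ₁, rfl⟩ := hb
    have h0 := inner_ptrunc_eq_zero_of_not_mem hM ξ₁ ξ' ξ hξ' hξ
    rw [nInt_spec] at h0
    rw [h0]
    simp

theorem coord_res_not_mem (hM : IsPModular p M) {b : Set (IrrCharacter H)}
    {B : Set (IrrCharacter G)} (hind : IsInducedBlock M H b B) (χ : IrrCharacter G)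
    (hχ : χ ∈ B) (h0 : blockHeight p B χ.1 = 0) {ξ : IrrCharacter H} (hξ : ξ ∈ b) :
    ¬ MemLocalIdeal M (coord (regConj p (fun h : H => χ.1 h)) ξ) := by
  have hMp := isPModular_isPrime hM
  have hQ : HtPair p χ χ := ((height_zero_iff hM B hind.2.1 χ hχ).2.mp h0) χ hχ
  intro hmem
  have h1 := induced_coord_congr H hM hind hξ hχ χ
  have h2 := memLocalIdeal_sub hMp hmem h1
  rw [sub_sub_cancel] at h2
  exact (htPair_iff hM χ χ).mp hQ h2

theorem broue_odd (hM : IsPModular p M) {b : Set (IrrCharacter H)}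
    {B : Set (IrrCharacter G)} (hind : IsInducedBlock M H b B) (q ν₀ : ℕ)
    (hν : ν₀ + q = (Nat.card H).factorization p)
    (hht : ∀ ξ ∈ b, (charDegree ξ.1).factorization p = ν₀ + blockHeight p b ξ.1)
    (ξ₀ : IrrCharacter H) (hξ₀ : ξ₀ ∈ b) (hξ₀0 : blockHeight p b ξ₀.1 = 0)
    (χ ψ : IrrCharacter G) (hχ : χ ∈ B) (hψ : ψ ∈ B)
    (h0χ : blockHeight p B χ.1 = 0) (h0ψ : blockHeight p B ψ.1 = 0) :
    ¬ MemLocalIdeal M (∑ ξ : IrrCharacter H, ∑ ξ' : IrrCharacter H,
        b.indicator (fun _ => (1 : ℂ)) ξ * b.indicator (fun _ => (1 : ℂ)) ξ'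
          * (resMult H χ ξ : ℂ) * (resMult H ψ ξ' : ℂ) * (nRed p ν₀ ξ ξ' : ℂ)) := by
  classical
  have hMp := isPModular_isPrime hM
  have hb : IsPBlock M b := hind.1
  intro hmem
  obtain ⟨Wχ, hWχ⟩ : ∃ W : IrrCharacter H → ℂ,
      W = fun ξ => coord (regConj p (fun h : H => χ.1 h)) ξ := ⟨_, rfl⟩
  obtain ⟨Wψ, hWψ⟩ : ∃ W : ℂ, W = coord (regConj p (fun h : H => ψ.1 h)) ξ₀ := ⟨_, rfl⟩
  obtain ⟨w, hw⟩ : ∃ w : IrrCharacter H → ℂ, w = fun ξ => coord (regConj p ξ₀.1) ξ :=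
    ⟨_, rfl⟩
  obtain ⟨S, hS⟩ : ∃ S : ℂ, S = ∑ ξ : IrrCharacter H,
      b.indicator (fun _ => (1 : ℂ)) ξ * (resMult H ψ ξ : ℂ) * rho p q ξ := ⟨_, rfl⟩
  have hχH : IsCharacter H (fun h : H => χ.1 h) :=
    Cfsg.Agent.Lib.helper24.isCharacter_restrict H (isCharacter_irr χ)
  have hclassχ : IsClassFunction H (fun h : H => χ.1 h) := by
    intro g h
    exact isClassFunction_irr χ (g : G) (h : G)
  have hOχ := coord_mem_osimaRing hMp (regConj_isClassFunction p hclassχ)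
    (regConj_memLocalRing hMp.ne_top p hχH)
  have hO0 := coord_mem_osimaRing hMp (regConj_isClassFunction p (isClassFunction_irr ξ₀))
    (regConj_memLocalRing hMp.ne_top p (isCharacter_irr ξ₀))
  have hWχR : ∀ ξ, MemLocalRing M (Wχ ξ) := by
    intro ξ
    rw [hWχ]
    exact memLocalRing_coord hMp hOχ ξ
  have hwR : ∀ ξ, MemLocalRing M (w ξ) := by
    intro ξ
    rw [hw]
    exact memLocalRing_coord hMp hO0 ξ
  have hsame : ∀ ξ ∈ b, SameBlock M ξ.1 ξ₀.1 := by
    obtain ⟨ξ₁, rfl⟩ := hb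
    intro ξ hξ
    exact sameBlock_trans hMp (sameBlock_symm hξ) hξ₀
  have hWχc : ∀ ξ ∈ b, MemLocalIdeal M (Wχ ξ - Wχ ξ₀) := by
    intro ξ hξ
    rw [hWχ]
    exact memLocalIdeal_coord_sub hMp hOχ (hsame ξ hξ)
  have hwc : ∀ ξ ∈ b, MemLocalIdeal M (w ξ - w ξ₀) := by
    intro ξ hξ
    rw [hw]
    exact memLocalIdeal_coord_sub hMp hO0 (hsame ξ hξ)
  have hρR : ∀ ξ ∈ b, MemLocalRing M (rho p q ξ) :=
    fun ξ hξ => rho_memLocalRing hM b q ν₀ hν hht hξ
  have hSR : MemLocalRing M S := by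
    rw [hS]
    apply memLocalRing_sum hMp
    intro ξ _
    by_cases hξ : ξ ∈ b
    · rw [Set.indicator_of_mem hξ, one_mul]
      exact memLocalRing_mul hMp (memLocalRing_natCast hMp.ne_top _) (hρR ξ hξ)
    · rw [Set.indicator_of_notMem hξ, zero_mul, zero_mul]
      exact memLocalRing_zero hMp.ne_top
  have hid1 : (∑ ξ : IrrCharacter H, ∑ ξ' : IrrCharacter H,
        b.indicator (fun _ => (1 : ℂ)) ξ * b.indicator (fun _ => (1 : ℂ)) ξ'
          * (resMult H χ ξ : ℂ) * (resMult H ψ ξ' : ℂ) * (nRed p ν₀ ξ ξ' : ℂ))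
      = ∑ ξ' : IrrCharacter H, b.indicator (fun _ => (1 : ℂ)) ξ' * (resMult H ψ ξ' : ℂ)
          * rho p q ξ' * Wχ ξ' := by
    rw [Finset.sum_comm]
    apply Finset.sum_congr rfl
    intro ξ' _
    by_cases hξ' : ξ' ∈ b
    · have h := sum_nRed_eq H hM b hb q ν₀ hν hht χ hξ'
      rw [Set.indicator_of_mem hξ', hWχ]
      simp only []
      calc ∑ ξ : IrrCharacter H, b.indicator (fun _ => (1 : ℂ)) ξ * 1
              * (resMult H χ ξ : ℂ) * (resMult H ψ ξ' : ℂ) * (nRed p ν₀ ξ ξ' : ℂ)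
          = (resMult H ψ ξ' : ℂ) * ∑ ξ : IrrCharacter H, b.indicator (fun _ => (1 : ℂ)) ξ
              * (resMult H χ ξ : ℂ) * (nRed p ν₀ ξ' ξ : ℂ) := by
            rw [Finset.mul_sum]
            apply Finset.sum_congr rfl
            intro ξ _
            rw [nRed_symm ν₀ ξ ξ']
            ring
        _ = _ := by
            rw [h]
            ring
    · rw [Set.indicator_of_notMem hξ']
      simp
  have hid2 : Wψ * rho p q ξ₀ = ∑ ξ : IrrCharacter H, b.indicator (fun _ => (1 : ℂ)) ξ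
      * (resMult H ψ ξ : ℂ) * rho p q ξ * w ξ := by
    have h := sum_nRed_eq H hM b hb q ν₀ hν hht ψ hξ₀
    rw [hWψ, ← h]
    apply Finset.sum_congr rfl
    intro ξ _
    rw [nRed_symm ν₀ ξ₀ ξ, nRed_eq_coord b q ν₀ hν hht hξ₀ ξ, hw]
    ring
  have hd1 : MemLocalIdeal M ((∑ ξ' : IrrCharacter H, b.indicator (fun _ => (1 : ℂ)) ξ'
      * (resMult H ψ ξ' : ℂ) * rho p q ξ' * Wχ ξ') - S * Wχ ξ₀) := by
    rw [hS, Finset.sum_mul, ← Finset.sum_sub_distrib]
    apply memLocalIdeal_sum hMp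
    intro ξ _
    by_cases hξ : ξ ∈ b
    · rw [Set.indicator_of_mem hξ, one_mul, ← mul_sub]
      exact memLocalIdeal_mul_left hMp
        (memLocalRing_mul hMp (memLocalRing_natCast hMp.ne_top _) (hρR ξ hξ)) (hWχc ξ hξ)
    · rw [Set.indicator_of_notMem hξ]
      simp only [zero_mul, sub_zero]
      exact memLocalIdeal_zero hMp.ne_top
  have hd2 : MemLocalIdeal M ((∑ ξ : IrrCharacter H, b.indicator (fun _ => (1 : ℂ)) ξ
      * (resMult H ψ ξ : ℂ) * rho p q ξ * w ξ) - S * w ξ₀) := by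
    rw [hS, Finset.sum_mul, ← Finset.sum_sub_distrib]
    apply memLocalIdeal_sum hMp
    intro ξ _
    by_cases hξ : ξ ∈ b
    · rw [Set.indicator_of_mem hξ, one_mul, ← mul_sub]
      exact memLocalIdeal_mul_left hMp
        (memLocalRing_mul hMp (memLocalRing_natCast hMp.ne_top _) (hρR ξ hξ)) (hwc ξ hξ)
    · rw [Set.indicator_of_notMem hξ]
      simp only [zero_mul, sub_zero]
      exact memLocalIdeal_zero hMp.ne_top
  have hWχ0 : ¬ MemLocalIdeal M (Wχ ξ₀) := by
    rw [hWχ]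
    exact coord_res_not_mem H hM hind χ hχ h0χ hξ₀
  have hWψ0 : ¬ MemLocalIdeal M Wψ := by
    rw [hWψ]
    exact coord_res_not_mem H hM hind ψ hψ h0ψ hξ₀
  have hρ0 : ¬ MemLocalIdeal M (rho p q ξ₀) :=
    rho_not_memLocalIdeal hM b q ν₀ hν hht hξ₀ hξ₀0
  have hWψR : MemLocalRing M Wψ := by
    rw [hWψ]
    have hψH : IsCharacter H (fun h : H => ψ.1 h) :=
      Cfsg.Agent.Lib.helper24.isCharacter_restrict H (isCharacter_irr ψ)
    have hclassψ : IsClassFunction H (fun h : H => ψ.1 h) := by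
      intro g h
      exact isClassFunction_irr ψ (g : G) (h : G)
    exact memLocalRing_coord_of_classFunction hMp (regConj_isClassFunction p hclassψ)
      (regConj_memLocalRing hMp.ne_top p hψH) ξ₀
  have hS0 : ¬ MemLocalIdeal M S := by
    intro hSm
    have h1 : MemLocalIdeal M (S * w ξ₀) := memLocalIdeal_mul_right hMp hSm (hwR ξ₀)
    have h2 := memLocalIdeal_add hMp hd2 h1
    rw [sub_add_cancel, ← hid2] at h2
    rcases memLocalIdeal_or_of_mul hMp hWψR (hρR ξ₀ hξ₀) h2 with h3 | h3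
    · exact hWψ0 h3
    · exact hρ0 h3
  rw [hid1] at hmem
  have h3 := memLocalIdeal_sub hMp hmem hd1
  rw [sub_sub_cancel] at h3
  rcases memLocalIdeal_or_of_mul hMp hSR (hWχR ξ₀) h3 with h4 | h4
  · exact hS0 h4
  · exact hWχ0 h4

noncomputable def contribC (b : Set (IrrCharacter H)) (p : ℕ) (t : H) (χ ψ : IrrCharacter G) :
    ℂ :=
  (Nat.card H : ℂ)⁻¹ * ∑ s : H, (if p ∣ orderOf s then (0 : ℂ) else
    blockPart b (fun c : H => χ.1 ((t : G) * (c : G))) s
      * conj (blockPart b (fun c : H => ψ.1 ((t : G) * (c : G))) s))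

noncomputable def kInt (b : Set (IrrCharacter H)) (p : ℕ) [Fact p.Prime] (ν₀ : ℕ)
    (χ ψ : IrrCharacter G) (P : IrrCharacter H × IrrCharacter H) : ℤ :=
  b.indicator (fun _ => (1 : ℤ)) P.1 * b.indicator (fun _ => (1 : ℤ)) P.2
    * (resMult H χ P.1 : ℤ) * (resMult H ψ P.2 : ℤ) * nRed p ν₀ P.1 P.2

omit [Fintype (IrrCharacter G)] in
theorem theta_expand (b : Set (IrrCharacter H)) (t : H) (htc : ∀ c : H, c * t = t * c)
    (χ : IrrCharacter G) (y : H) :
    blockPart b (fun c : H => χ.1 ((t : G) * (c : G))) y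
      = ∑ ξ : IrrCharacter H, b.indicator (fun _ => (1 : ℂ)) ξ
          * (((resMult H χ ξ : ℂ) * ((ξ.1 1)⁻¹ * ξ.1 t)) * ξ.1 y) := by
  classical
  have hϑ : ∀ c : H, χ.1 ((t : G) * (c : G))
      = ∑ ξ : IrrCharacter H, ((resMult H χ ξ : ℂ) * ((ξ.1 1)⁻¹ * ξ.1 t)) * ξ.1 c := by
    intro c
    have h := res_expand H χ (t * c)
    have e : ((t * c : H) : G) = (t : G) * (c : G) := rfl
    rw [e] at h
    rw [h]
    apply Finset.sum_congr rfl
    intro ξ _
    rw [irr_central_mul' ξ htc]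
    ring
  have e : (fun c : H => χ.1 ((t : G) * (c : G)))
      = ∑ ξ : IrrCharacter H, ((resMult H χ ξ : ℂ) * ((ξ.1 1)⁻¹ * ξ.1 t)) • ξ.1 := by
    funext c
    rw [hϑ c, Finset.sum_apply]
    rfl
  rw [blockPart_eq_ind]
  apply Finset.sum_congr rfl
  intro ξ _
  congr 2
  rw [e, classInner_sum_left]
  simp only [classInner_smul_left, irr_orthonormal]
  simp

omit [Fintype (IrrCharacter G)] in
theorem contrib_formula (b : Set (IrrCharacter H)) (q ν₀ : ℕ)
    (hν : ν₀ + q = (Nat.card H).factorization p)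
    (hht : ∀ ξ ∈ b, (charDegree ξ.1).factorization p = ν₀ + blockHeight p b ξ.1)
    (t : H) (htc : ∀ c : H, c * t = t * c) (χ ψ : IrrCharacter G) :
    (p : ℂ) ^ q * contribC H b p t χ ψ
      = ∑ P : IrrCharacter H × IrrCharacter H, (kInt H b p ν₀ χ ψ P : ℂ)
          * (((P.1.1 1)⁻¹ * P.1.1 t) * conj ((P.2.1 1)⁻¹ * P.2.1 t)) := by
  classical
  have hne : (Nat.card H : ℂ) ≠ 0 := NeZero.ne _
  have hp0 : (p : ℂ) ≠ 0 := by exact_mod_cast hp.out.ne_zero
  obtain ⟨ε, hε⟩ : ∃ ε : IrrCharacter H → ℂ, ε = fun ξ => (ξ.1 1)⁻¹ * ξ.1 t := ⟨_, rfl⟩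
  obtain ⟨ib, hib⟩ : ∃ ib : IrrCharacter H → ℂ, ib = b.indicator (fun _ => (1 : ℂ)) :=
    ⟨_, rfl⟩
  have hibc : ∀ ξ, conj (ib ξ) = ib ξ := by
    intro ξ
    rw [hib]
    by_cases hξ : ξ ∈ b
    · rw [Set.indicator_of_mem hξ, map_one]
    · rw [Set.indicator_of_notMem hξ, map_zero]
  have step1 : ∀ s : H, (if p ∣ orderOf s then (0 : ℂ) else
      blockPart b (fun c : H => χ.1 ((t : G) * (c : G))) s
        * conj (blockPart b (fun c : H => ψ.1 ((t : G) * (c : G))) s))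
      = ∑ ξ : IrrCharacter H, ∑ ξ' : IrrCharacter H,
          (ib ξ * ib ξ' * ((resMult H χ ξ : ℂ) * ε ξ) * ((resMult H ψ ξ' : ℂ) * conj (ε ξ')))
            * (if p ∣ orderOf s then (0 : ℂ) else ξ.1 s * conj (ξ'.1 s)) := by
    intro s
    by_cases hs : p ∣ orderOf s
    · simp [hs]
    · simp only [hs, if_false]
      rw [theta_expand H b t htc χ s, theta_expand H b t htc ψ s, map_sum, Finset.sum_mul]
      apply Finset.sum_congr rfl
      intro ξ _
      rw [Finset.mul_sum]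
      apply Finset.sum_congr rfl
      intro ξ' _
      rw [map_mul, map_mul, map_mul, Complex.conj_natCast, ← hib, hibc, hε]
      ring
  unfold contribC
  simp only [step1]
  rw [Finset.sum_comm, Fintype.sum_prod_type, Finset.mul_sum, Finset.mul_sum]
  apply Finset.sum_congr rfl
  intro ξ _
  rw [Finset.sum_comm, Finset.mul_sum, Finset.mul_sum]
  apply Finset.sum_congr rfl
  intro ξ' _
  rw [← Finset.mul_sum, sum_reg_eq p ξ ξ']
  have hpa : ((p ^ (Nat.card H).factorization p : ℕ) : ℂ) = (p : ℂ) ^ ν₀ * (p : ℂ) ^ q := by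
    rw [← pow_add, hν]
    push_cast
    rfl
  have hpν : (p : ℂ) ^ ν₀ ≠ 0 := pow_ne_zero _ hp0
  have hpq : (p : ℂ) ^ q ≠ 0 := pow_ne_zero _ hp0
  rw [hpa]
  unfold kInt
  push_cast
  rw [ind_cast, ind_cast, ← hib, hε]
  by_cases hξ : ξ ∈ b
  · rw [nInt_eq_left hht hξ ξ']
    push_cast
    field_simp
  · have h0 : ib ξ = 0 := by
      rw [hib, Set.indicator_of_notMem hξ]
    rw [h0]
    simp

theorem contrib_idem (hM : IsPModular p M) (b : Set (IrrCharacter H)) (hb : IsPBlock M b)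
    (t : H) (htc : ∀ c : H, c * t = t * c) (ht : ∃ k : ℕ, orderOf (t : G) = p ^ k)
    (hH2 : Subgroup.centralizer ({(t : G)} : Set G) ≤ H) (χ : IrrCharacter G) :
    ∑ ψ : IrrCharacter G, contribC H b p t χ ψ * conj (contribC H b p t χ ψ)
      = contribC H b p t χ χ := by
  classical
  have hne : (Nat.card H : ℂ) ≠ 0 := NeZero.ne _
  have hH1 : ∀ h : H, (h : G) * (t : G) = (t : G) * (h : G) :=
    fun h => congrArg Subtype.val (htc h)
  obtain ⟨θ, hθ⟩ : ∃ θ : IrrCharacter G → H → ℂ,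
      θ = fun χ => blockPart b (fun c : H => χ.1 ((t : G) * (c : G))) := ⟨_, rfl⟩
  obtain ⟨R, hR⟩ : ∃ R : H → ℂ, R = fun s => if p ∣ orderOf s then (0 : ℂ) else 1 :=
    ⟨_, rfl⟩
  obtain ⟨Γ, hΓ⟩ : ∃ Γ : H → H → ℂ, Γ = fun s' s => ∑ ξ : IrrCharacter H,
      b.indicator (fun _ => (1 : ℂ)) ξ * (ξ.1 s' * conj (ξ.1 s)) := ⟨_, rfl⟩
  have hR0 : ∀ s, p ∣ orderOf s → R s = 0 := by
    intro s hs
    rw [hR]
    simp [hs]
  have hR1 : ∀ s, ¬ p ∣ orderOf s → R s = 1 := by
    intro s hs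
    rw [hR]
    simp [hs]
  have hRc : ∀ s, conj (R s) = R s := by
    intro s
    by_cases hs : p ∣ orderOf s
    · rw [hR0 s hs, map_zero]
    · rw [hR1 s hs, map_one]
  have hmm : ∀ ψ, contribC H b p t χ ψ
      = (Nat.card H : ℂ)⁻¹ * ∑ s : H, R s * (θ χ s * conj (θ ψ s)) := by
    intro ψ
    unfold contribC
    congr 1
    apply Finset.sum_congr rfl
    intro s _
    by_cases hs : p ∣ orderOf s
    · rw [hR0 s hs]
      simp [hs]
    · rw [hR1 s hs, hθ]
      simp [hs]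
  have hgram : ∀ s s', R s * R s' * ∑ ψ : IrrCharacter G, θ ψ s' * conj (θ ψ s)
      = R s * R s' * Γ s' s := by
    intro s s'
    by_cases hs : p ∣ orderOf s
    · rw [hR0 s hs]
      simp
    · by_cases hs' : p ∣ orderOf s'
      · rw [hR0 s' hs']
        simp
      · congr 1
        rw [hθ, hΓ]
        exact subsec_gram H hM (t : G) ht hH1 hH2 b hb s' s hs' hs
  have hkey : ∀ s, R s * ∑ s' : H, R s' * (conj (θ χ s') * Γ s' s)
      = R s * ((Nat.card H : ℂ) * conj (θ χ s)) := by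
    intro s
    by_cases hs : p ∣ orderOf s
    · rw [hR0 s hs]
      simp
    · congr 1
      have h1 : ∀ s' : H, R s' * (conj (θ χ s') * Γ s' s) = conj (θ χ s') * Γ s' s := by
        intro s'
        by_cases hs' : p ∣ orderOf s'
        · have hz : Γ s' s = 0 := by
            rw [hΓ]
            have h := block_delta_vanish hM b hb s s' hs hs'
            rw [← h]
            apply Finset.sum_congr rfl
            intro ξ _
            ring
          rw [hz]
          simp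
        · rw [hR1 s' hs', one_mul]
      simp only [h1]
      have h2 : ∑ s' : H, conj (θ χ s') * Γ s' s
          = ∑ ξ : IrrCharacter H, b.indicator (fun _ => (1 : ℂ)) ξ
            * (conj (ξ.1 s) * ((Nat.card H : ℂ) * conj (classInner (θ χ) ξ.1))) := by
        rw [hΓ]
        simp only [Finset.mul_sum]
        rw [Finset.sum_comm]
        apply Finset.sum_congr rfl
        intro ξ _
        have h3 : (Nat.card H : ℂ) * conj (classInner (θ χ) ξ.1)
            = ∑ s' : H, conj (θ χ s') * ξ.1 s' := by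
          rw [← map_natCast (starRingEnd ℂ) (Nat.card H), ← map_mul,
            ← sum_mul_conj_eq_classInner, map_sum]
          apply Finset.sum_congr rfl
          intro s' _
          rw [map_mul, Complex.conj_conj]
        rw [h3, Finset.mul_sum, Finset.mul_sum]
        apply Finset.sum_congr rfl
        intro s' _
        ring
      have h5 : conj (θ χ s) = ∑ ξ : IrrCharacter H, b.indicator (fun _ => (1 : ℂ)) ξ
          * (conj (classInner (θ χ) ξ.1) * conj (ξ.1 s)) := by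
        have h4 : θ χ s = blockPart b (θ χ) s := by
          rw [hθ]
          exact (blockPart_idem b _ s).symm
        rw [h4, blockPart_eq_ind, map_sum]
        apply Finset.sum_congr rfl
        intro ξ _
        rw [map_mul, map_mul]
        congr 1
        by_cases hξ : ξ ∈ b
        · rw [Set.indicator_of_mem hξ, map_one]
        · rw [Set.indicator_of_notMem hξ, map_zero]
      rw [h2, h5, Finset.mul_sum]
      apply Finset.sum_congr rfl
      intro ξ _
      ring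
  simp only [hmm]
  have e1 : ∀ ψ : IrrCharacter G,
      ((Nat.card H : ℂ)⁻¹ * ∑ s : H, R s * (θ χ s * conj (θ ψ s)))
        * conj ((Nat.card H : ℂ)⁻¹ * ∑ s : H, R s * (θ χ s * conj (θ ψ s)))
      = (Nat.card H : ℂ)⁻¹ * (Nat.card H : ℂ)⁻¹ * ∑ s : H, ∑ s' : H,
          θ χ s * conj (θ χ s') * (R s * R s' * (θ ψ s' * conj (θ ψ s))) := by
    intro ψ
    rw [map_mul, map_inv₀, Complex.conj_natCast, map_sum]
    have : ∀ s' : H, conj (R s' * (θ χ s' * conj (θ ψ s')))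
        = R s' * (conj (θ χ s') * θ ψ s') := by
      intro s'
      rw [map_mul, map_mul, hRc, Complex.conj_conj]
    simp only [this]
    rw [mul_mul_mul_comm, Finset.sum_mul_sum]
    congr 1
    apply Finset.sum_congr rfl
    intro s _
    apply Finset.sum_congr rfl
    intro s' _
    ring
  simp only [e1]
  rw [← Finset.mul_sum, Finset.sum_comm]
  have e2 : ∀ s : H, ∑ ψ : IrrCharacter G, ∑ s' : H,
      θ χ s * conj (θ χ s') * (R s * R s' * (θ ψ s' * conj (θ ψ s)))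
      = θ χ s * (R s * ((Nat.card H : ℂ) * conj (θ χ s))) := by
    intro s
    rw [Finset.sum_comm, ← hkey s, Finset.mul_sum, Finset.mul_sum]
    apply Finset.sum_congr rfl
    intro s' _
    rw [← Finset.mul_sum, ← Finset.mul_sum, hgram s s']
    ring
  simp only [e2]
  rw [mul_assoc, Finset.mul_sum]
  congr 1
  apply Finset.sum_congr rfl
  intro s _
  field_simp

theorem contrib_trace (hM : IsPModular p M) (b : Set (IrrCharacter H)) (hb : IsPBlock M b)
    (B : Set (IrrCharacter G)) (hind : IsInducedBlock M H b B)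
    (t : H) (htc : ∀ c : H, c * t = t * c) (ht : ∃ k : ℕ, orderOf (t : G) = p ^ k)
    (hH2 : Subgroup.centralizer ({(t : G)} : Set G) ≤ H) :
    ∑ χ : IrrCharacter G, B.indicator (fun _ => (1 : ℂ)) χ * contribC H b p t χ χ
      = (blockRank p b : ℂ) := by
  classical
  have hne : (Nat.card H : ℂ) ≠ 0 := NeZero.ne _
  have hH1 : ∀ h : H, (h : G) * (t : G) = (t : G) * (h : G) :=
    fun h => congrArg Subtype.val (htc h)
  have h := subsec_trace H hM (t : G) ht hH1 hH2 b hb B hind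
  apply mul_left_cancel₀ hne
  rw [← h, Finset.mul_sum]
  apply Finset.sum_congr rfl
  intro χ _
  unfold contribC
  field_simp

end contrib

end Cfsg.Agent.Lib.helper22
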