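import Cfsg.Agent.Lib.helper22.CharZ

set_option autoImplicit false

namespace Cfsg.Agent.Lib.helper22

open Cfsg Cfsg.Agent.Lib.helper24
open scoped ComplexConjugate commutatorElement

universe u

variable {G : Type u} [Group G]

theorem irr_linear_commutator [Finite G] (χ : IrrCharacter G) (hd : charDegree χ.1 = 1) (a b : G) :
    χ.1 ⁅a, b⁆ = χ.1 1 := by
  have h1 : χ.1 1 = 1 := by
    have := charDegree_cast χ
    rw [hd] at this
    rw [← this]
    simp
  have h2 := irrLinHom_apply χ h1 ⁅a, b⁆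
  rw [← h2, h1, commutatorElement_def, map_mul, map_mul, map_mul, map_inv, map_inv,
    mul_comm (irrLinHom χ h1 a) (irrLinHom χ h1 b), mul_inv_cancel_right, mul_inv_cancel]
  rfl

theorem sum_ite_mem_subgroup [Fintype G] (H : Subgroup G) [DecidablePred (· ∈ H)] [Fintype H]
    (f : G → ℝ) : ∑ g : G, (if g ∈ H then f g else 0) = ∑ h : H, f h := by
  rw [← Finset.sum_filter]
  exact Finset.sum_subtype (Finset.univ.filter (· ∈ H)) (by simp) f

theorem homStab_index_dvd [Finite G] (p : ℕ)
    (hcd : ∀ χ : IrrCharacter G, charDegree χ.1 = 1 ∨ charDegree χ.1 = p)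
    (Z : Subgroup G) [hZ : Z.Normal] (lam : Z →* ℂˣ) : (homStab Z lam).index ∣ p := by
  have hirr : IsIrrCharacter Z (homFun lam) := isIrrCharacter_of_hom lam
  obtain ⟨χ, hχ⟩ := exists_irr_over Z hirr
  obtain ⟨e, he0, he⟩ := clifford_degree Z χ hirr hχ
  have h1 : (homStab Z lam).index ∣ charDegree χ.1 := by
    rw [he]
    unfold homStab
    exact ⟨e * charDegree (homFun lam), by ring⟩
  rcases hcd χ with h | h
  · rw [h] at h1
    exact dvd_trans h1 (one_dvd p)
  · rw [h] at h1
    exact h1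

theorem zchar_sup_zpowers_ne_top [Finite G] (χ₀ : IrrCharacter G)
    (hC : ∀ a b c : G, ⁅⁅a, b⁆, c⁆ ∈ irrKer χ₀) (hd : charDegree χ₀.1 ≠ 1) (x : G) :
    zchar χ₀ ⊔ Subgroup.zpowers x ≠ ⊤ := by
  intro htop
  have hS : zchar χ₀ ⊔ Subgroup.zpowers x ≤
      (Subgroup.centralizer ({(QuotientGroup.mk' (irrKer χ₀)) x} : Set (G ⧸ irrKer χ₀))).comap
        (QuotientGroup.mk' (irrKer χ₀)) := by
    apply sup_le
    · intro z hz
      rw [Subgroup.mem_comap, Subgroup.mem_centralizer_iff]
      intro h hh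
      rw [Set.mem_singleton_iff] at hh
      rw [hh]
      have hz' : (QuotientGroup.mk' (irrKer χ₀)) z ∈ Subgroup.center (G ⧸ irrKer χ₀) := hz
      exact (Subgroup.mem_center_iff.mp hz') _
    · rw [Subgroup.zpowers_le, Subgroup.mem_comap, Subgroup.mem_centralizer_iff]
      intro h hh
      rw [Set.mem_singleton_iff] at hh
      rw [hh]
  rw [htop] at hS
  have hx : x ∈ zchar χ₀ := by
    show (QuotientGroup.mk' (irrKer χ₀)) x ∈ Subgroup.center (G ⧸ irrKer χ₀)
    rw [Subgroup.mem_center_iff]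
    intro y
    obtain ⟨g, rfl⟩ := QuotientGroup.mk'_surjective (irrKer χ₀) y
    have h1 := hS (Subgroup.mem_top g)
    rw [Subgroup.mem_comap, Subgroup.mem_centralizer_iff] at h1
    exact (h1 _ rfl).symm
  have h2 : zchar χ₀ ⊔ Subgroup.zpowers x = zchar χ₀ := by
    apply sup_eq_left.mpr
    rw [Subgroup.zpowers_le]
    exact hx
  rw [h2] at htop
  have h3 := zchar_index χ₀ hC
  rw [htop, Subgroup.index_top] at h3
  apply hd
  have := Nat.pow_eq_one.mp h3.symm
  rcases this with h | h
  · exact h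
  · omega

theorem zchar_comm [Finite G] (p : ℕ) (hp : p.Prime)
    (hcd : ∀ χ : IrrCharacter G, charDegree χ.1 = 1 ∨ charDegree χ.1 = p)
    (χ₀ : IrrCharacter G) (h0 : charDegree χ₀.1 = p)
    (hC : ∀ a b c : G, ⁅⁅a, b⁆, c⁆ ∈ irrKer χ₀) :
    ∀ a ∈ zchar χ₀, ∀ b ∈ zchar χ₀, a * b = b * a := by
  classical
  have := Fintype.ofFinite G
  have hfZ := Fintype.ofFinite (zchar χ₀)
  have hidx : (zchar χ₀).index = p ^ 2 := by rw [zchar_index χ₀ hC, h0]
  intro a ha b hb
  have hmem : ⁅a, b⁆ ∈ zchar χ₀ := by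
    rw [commutatorElement_def]
    exact Subgroup.mul_mem _ (Subgroup.mul_mem _ (Subgroup.mul_mem _ ha hb) (Subgroup.inv_mem _ ha))
      (Subgroup.inv_mem _ hb)
  have hker : ∀ χ : IrrCharacter G, χ.1 ⁅a, b⁆ = χ.1 1 := by
    intro χ
    rcases hcd χ with hd | hd
    · exact irr_linear_commutator χ hd a b
    · obtain ⟨l, hl⟩ := isCharacter_iff_exists_list.mp
        (isCharacter_restrict (zchar χ₀) (isCharacter_irr χ))
      have hcon : ∀ θ ∈ l, charDegree θ.1 = 1 ∨ charDegree θ.1 = p := by
        intro θ hθ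
        have h1 : ∀ [Fintype (zchar χ₀)], classInner (fun n : zchar χ₀ => χ.1 n) θ.1 ≠ 0 := by
          intro inst
          have e : inst = hfZ := Subsingleton.elim _ _
          subst e
          rw [hl, classInner_irr_list]
          exact_mod_cast (List.count_pos_iff.mpr hθ).ne'
        obtain ⟨e, he0, he⟩ := clifford_degree (zchar χ₀) χ θ.2 h1
        rw [hd] at he
        have : charDegree θ.1 ∣ p := ⟨e * (conjStab (zchar χ₀) θ.1).index, by rw [he]; ring⟩
        exact (Nat.dvd_prime hp).mp this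
      have hval : ∀ z : zchar χ₀, χ.1 z
          = (l.map (fun ψ : IrrCharacter (zchar χ₀) => ψ.1 z)).sum := by
        intro z
        have h1 := congrFun hl z
        rw [list_sum_fun_apply, List.map_map] at h1
        exact h1
      by_cases hall : ∀ θ ∈ l, charDegree θ.1 = 1
      · have e1 := hval ⟨⁅a, b⁆, hmem⟩
        have e2 := hval 1
        show χ.1 ((⟨⁅a, b⁆, hmem⟩ : zchar χ₀) : G) = χ.1 ((1 : zchar χ₀) : G)
        rw [e1, e2]
        congr 1
        apply List.map_congr_left
        intro θ hθ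
        have h3 : (⟨⁅a, b⁆, hmem⟩ : zchar χ₀) = ⁅(⟨a, ha⟩ : zchar χ₀), ⟨b, hb⟩⁆ := rfl
        rw [h3]
        exact irr_linear_commutator θ (hall θ hθ) _ _
      · exfalso
        push Not at hall
        obtain ⟨θ, hθl, hθ1⟩ := hall
        have hθp : charDegree θ.1 = p := (hcon θ hθl).resolve_left hθ1
        have hperm := List.perm_cons_erase hθl
        have hsumdeg : (l.map (fun ψ : IrrCharacter (zchar χ₀) => charDegree ψ.1)).sum = p := by
          have h1 := hval 1
          have h2 : χ.1 ((1 : zchar χ₀) : G) = (p : ℂ) := by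
            rw [← hd]
            exact (charDegree_cast χ).symm
          rw [h2] at h1
          have h3 : (l.map (fun ψ : IrrCharacter (zchar χ₀) => ψ.1 1))
              = (l.map (fun ψ : IrrCharacter (zchar χ₀) => charDegree ψ.1)).map
                (fun n : ℕ => (n : ℂ)) := by
            rw [List.map_map]
            apply List.map_congr_left
            intro ψ _
            exact (charDegree_cast ψ).symm
          rw [h3] at h1
          have h4 : ((l.map (fun ψ : IrrCharacter (zchar χ₀) => charDegree ψ.1)).map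
                (fun n : ℕ => (n : ℂ))).sum
              = (((l.map (fun ψ : IrrCharacter (zchar χ₀) => charDegree ψ.1)).sum : ℕ) : ℂ) := by
            rw [Nat.cast_list_sum]
          rw [h4] at h1
          exact_mod_cast h1.symm
        have hsum2 := (hperm.map (fun ψ : IrrCharacter (zchar χ₀) => charDegree ψ.1)).sum_eq
        rw [hsumdeg, List.map_cons, List.sum_cons, hθp] at hsum2
        have hrest : ((l.erase θ).map (fun ψ : IrrCharacter (zchar χ₀) => charDegree ψ.1)).sum = 0 := by
          omega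
        have hnil : l.erase θ = [] := by
          rw [List.eq_nil_iff_forall_not_mem]
          intro ψ hψ
          have h1 := List.sum_eq_zero_iff.mp hrest (charDegree ψ.1) (List.mem_map.mpr ⟨ψ, hψ, rfl⟩)
          have := charDegree_pos ψ
          omega
        rw [hnil] at hperm
        have hl1 : l = [θ] := List.perm_singleton.mp hperm
        have hres : (fun h : zchar χ₀ => χ.1 h) = θ.1 := by
          rw [hl, hl1]
          simp
        have hsumZ : ∑ z : zchar χ₀, Complex.normSq (χ.1 z) = (Nat.card (zchar χ₀) : ℝ) := by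
          have h1 := sum_normSq_irr θ
          rw [← hres] at h1
          exact h1
        have hχc : IsCharacter G (χ.1 * χ₀.1) :=
          isCharacter_mul (isCharacter_irr χ) (isCharacter_irr χ₀)
        have hreal : ∑ g : G, Complex.normSq (χ.1 g) * Complex.normSq (χ₀.1 g)
            = (Nat.card G : ℝ) := by
          have h1 : ∑ g : G, Complex.normSq (χ.1 g) * Complex.normSq (χ₀.1 g)
              = ∑ g : G, (if g ∈ zchar χ₀ then Complex.normSq (χ.1 g) * (p : ℝ) ^ 2 else 0) := by
            apply Finset.sum_congr rfl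
            intro g _
            split_ifs with hg
            · rw [irr_normSq_on_zchar χ₀ g hg, h0]
            · rw [irr_vanish_off_zchar χ₀ hC g hg, map_zero, mul_zero]
          rw [h1, sum_ite_mem_subgroup (zchar χ₀) (fun g => Complex.normSq (χ.1 g) * (p : ℝ) ^ 2),
            ← Finset.sum_mul, hsumZ]
          have h2 := Subgroup.card_mul_index (zchar χ₀)
          rw [hidx] at h2
          rw [← h2]
          push_cast
          ring
        have hinner : classInner (χ.1 * χ₀.1) (χ.1 * χ₀.1) = 1 := by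
          unfold classInner
          have hne : (Nat.card G : ℂ) ≠ 0 := by exact_mod_cast (Nat.card_pos (α := G)).ne'
          rw [inv_mul_eq_one₀ hne]
          have h1 : ((∑ g : G, Complex.normSq (χ.1 g) * Complex.normSq (χ₀.1 g) : ℝ) : ℂ)
              = ((Nat.card G : ℝ) : ℂ) := by rw [hreal]
          push_cast at h1
          rw [← h1]
          apply Finset.sum_congr rfl
          intro g _
          simp only [Pi.mul_apply, map_mul]
          rw [← Complex.mul_conj, ← Complex.mul_conj]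
          ring
        have hirr : IsIrrCharacter G (χ.1 * χ₀.1) := isIrrCharacter_of_inner_self_eq_one hχc hinner
        have hdeg : charDegree (χ.1 * χ₀.1) = p * p := by
          have h1 := charDegree_cast (⟨χ.1 * χ₀.1, hirr⟩ : IrrCharacter G)
          have h2 : (χ.1 * χ₀.1) 1 = ((p * p : ℕ) : ℂ) := by
            show χ.1 1 * χ₀.1 1 = _
            rw [← charDegree_cast χ, ← charDegree_cast χ₀, hd, h0]
            push_cast
            ring
          have h3 : ((charDegree (χ.1 * χ₀.1) : ℕ) : ℂ) = ((p * p : ℕ) : ℂ) := by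
            rw [← h2]
            exact h1
          exact_mod_cast h3
        have h2le := hp.two_le
        rcases hcd ⟨χ.1 * χ₀.1, hirr⟩ with h | h
        · rw [hdeg] at h
          nlinarith
        · rw [hdeg] at h
          nlinarith
  have h1 : IsConj ⁅a, b⁆ (1 : G) := (isConj_iff_irr_eq _ _).mpr hker
  have h2 : ⁅a, b⁆ = 1 := isConj_one_left.mp h1
  rw [commutatorElement_def] at h2
  have : a * b = (a * b * a⁻¹ * b⁻¹) * (b * a) := by group
  rw [this, h2, one_mul]

theorem sum_indicator_subgroup_nat [Fintype G] (H : Subgroup G) [DecidablePred (· ∈ H)] (c : ℕ) :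
    ∑ g : G, (if g ∈ H then c else 0) = Nat.card H * c := by
  rw [← Finset.sum_filter, Finset.sum_const, smul_eq_mul]
  congr 1
  rw [Nat.card_eq_fintype_card, Fintype.card_subtype]

theorem card_hom_trivial_on {A : Type*} [Group A] [Finite A] (hA : ∀ a b : A, a * b = b * a)
    (R : Subgroup A) : Nat.card {lam : A →* ℂˣ // ∀ r ∈ R, lam r = 1} = R.index := by
  let _ : CommGroup A := { ‹Group A› with mul_comm := hA }
  have h1 := CommGroup.card_domRestrictHom_ker (G := A) ℂ R
  rw [Subgroup.index_eq_card, ← h1]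
  apply Nat.card_congr
  refine Equiv.subtypeEquivRight ?_
  intro lam
  rw [MonoidHom.mem_ker, MonoidHom.domRestrictHom_apply, MonoidHom.domRestrict_eq_one_iff]

theorem card_hom_comm {A : Type*} [Group A] [Finite A] (hA : ∀ a b : A, a * b = b * a) :
    Nat.card (A →* ℂˣ) = Nat.card A := by
  let _ : CommGroup A := { ‹Group A› with mul_comm := hA }
  exact CommGroup.card_monoidHom_of_hasEnoughRootsOfUnity A ℂ

theorem exists_hom_ne_one₂ {A : Type*} [Group A] [Finite A] (hA : ∀ a b : A, a * b = b * a)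
    (a b : A) (ha : a ≠ 1) (hb : b ≠ 1) : ∃ lam : A →* ℂˣ, lam a ≠ 1 ∧ lam b ≠ 1 := by
  let _ : CommGroup A := { ‹Group A› with mul_comm := hA }
  obtain ⟨l1, h1⟩ := CommGroup.exists_apply_ne_one_of_hasEnoughRootsOfUnity A ℂ ha
  obtain ⟨l2, h2⟩ := CommGroup.exists_apply_ne_one_of_hasEnoughRootsOfUnity A ℂ hb
  by_cases h3 : l1 b = 1
  · by_cases h4 : l2 a = 1
    · refine ⟨l1 * l2, ?_, ?_⟩
      · rw [MonoidHom.mul_apply, h4, mul_one]
        exact h1
      · rw [MonoidHom.mul_apply, h3, one_mul]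
        exact h2
    · exact ⟨l2, h4, h2⟩
  · exact ⟨l1, h1, h3⟩

theorem normal_of_commutator_le (H : Subgroup G) (h : commutator G ≤ H) : H.Normal := by
  constructor
  intro t ht x
  have h1 : ⁅x, t⁆ ∈ H := by
    apply h
    rw [commutator_def]
    exact Subgroup.commutator_mem_commutator (Subgroup.mem_top x) (Subgroup.mem_top t)
  have h2 : x * t * x⁻¹ = ⁅x, t⁆ * t := by
    rw [commutatorElement_def]; group
  rw [h2]
  exact Subgroup.mul_mem _ h1 ht

theorem normal_prime_card_le_center [Finite G] (p k : ℕ) (hp : p.Prime)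
    (hk : (Subgroup.center G).index = p ^ k) (D : Subgroup G) [hD : D.Normal]
    (hDc : Nat.card D = p) : D ≤ Subgroup.center G := by
  have : Fact p.Prime := ⟨hp⟩
  have hcyc : IsCyclic D := isCyclic_of_prime_card hDc
  have h1 : Subgroup.center G ≤ (MulAut.conjNormal : G →* MulAut D).ker := by
    intro z hz
    rw [MonoidHom.mem_ker]
    ext d
    rw [MulAut.conjNormal_apply]
    show z * (d : G) * z⁻¹ = d
    have := (Subgroup.mem_center_iff.mp hz) d
    rw [← this]
    group
  have h2 : (MulAut.conjNormal : G →* MulAut D).ker.index ∣ p ^ k := by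
    rw [← hk]
    exact Subgroup.index_dvd_of_le h1
  have h3 : (MulAut.conjNormal : G →* MulAut D).ker.index
      = Nat.card (MulAut.conjNormal : G →* MulAut D).range := Subgroup.index_ker _
  have h4 : Nat.card (MulAut.conjNormal : G →* MulAut D).range ∣ Nat.card (MulAut D) :=
    Subgroup.card_subgroup_dvd_card _
  rw [IsCyclic.card_mulAut, hDc, Nat.totient_prime hp] at h4
  have h5 : (MulAut.conjNormal : G →* MulAut D).ker.index = 1 := by
    rw [h3] at h2 ⊢
    obtain ⟨j, -, hj⟩ := (Nat.dvd_prime_pow hp).mp h2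
    rw [hj] at h4 ⊢
    rcases Nat.eq_zero_or_pos j with h0 | h0
    · rw [h0, pow_zero]
    · exfalso
      have h6 : p ∣ p - 1 := dvd_trans (dvd_pow_self p h0.ne') h4
      have h7 := hp.two_le
      have h8 := Nat.le_of_dvd (by omega) h6
      omega
  have h6 : (MulAut.conjNormal : G →* MulAut D).ker = ⊤ := Subgroup.index_eq_one.mp h5
  intro d hd
  rw [Subgroup.mem_center_iff]
  intro g
  have h7 : (MulAut.conjNormal : G →* MulAut D) g = 1 := by
    have : g ∈ (MulAut.conjNormal : G →* MulAut D).ker := by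
      rw [h6]
      exact Subgroup.mem_top g
    exact this
  have h8 := MulAut.conjNormal_apply g (⟨d, hd⟩ : D)
  rw [h7] at h8
  have h9 : d = g * d * g⁻¹ := h8
  calc g * d = (g * d * g⁻¹) * g := by group
    _ = d * g := by rw [← h9]

theorem sup_zpowers_index [Finite G] (Z : Subgroup G) (p : ℕ) (hp : p.Prime) (hidx : Z.index = p ^ 2)
    (hnc : ∀ x : G, Z ⊔ Subgroup.zpowers x ≠ ⊤) (g : G) (hg : g ∉ Z) :
    (Z ⊔ Subgroup.zpowers g).index = p := by
  have hlt : Z < Z ⊔ Subgroup.zpowers g := by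
    apply lt_of_le_of_ne le_sup_left
    intro h
    apply hg
    rw [h]
    exact (le_sup_right : Subgroup.zpowers g ≤ _) (Subgroup.mem_zpowers g)
  have h1 : (Z ⊔ Subgroup.zpowers g).index ∣ p ^ 2 := by
    rw [← hidx]
    exact Subgroup.index_dvd_of_le le_sup_left
  obtain ⟨i, hi, hi2⟩ := (Nat.dvd_prime_pow hp).mp h1
  have h2 := Subgroup.index_strictAnti hlt
  rw [hidx, hi2] at h2
  have h3 : (Z ⊔ Subgroup.zpowers g).index ≠ 1 := fun h => hnc g (Subgroup.index_eq_one.mp h)
  rw [hi2] at h3
  have hi1 : i = 1 := by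
    rcases Nat.lt_or_ge i 1 with h | h
    · exfalso
      apply h3
      have : i = 0 := by omega
      rw [this, pow_zero]
    · rcases Nat.lt_or_ge i 2 with h' | h'
      · omega
      · exfalso
        have : i = 2 := by omega
        rw [this] at h2
        exact lt_irrefl _ h2
  rw [hi2, hi1, pow_one]

theorem sup_zpowers_comm (Z : Subgroup G) (hab : ∀ a ∈ Z, ∀ b ∈ Z, a * b = b * a) (g : G)
    (hg : ∀ z ∈ Z, g * z = z * g) :
    ∀ a ∈ Z ⊔ Subgroup.zpowers g, ∀ b ∈ Z ⊔ Subgroup.zpowers g, a * b = b * a := by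
  have hC : Z ⊔ Subgroup.zpowers g ≤ Subgroup.centralizer ((Z : Set G) ∪ {g}) := by
    apply sup_le
    · intro z hz
      rw [Subgroup.mem_centralizer_iff]
      rintro h (hh | hh)
      · exact hab h hh z hz
      · rw [Set.mem_singleton_iff] at hh
        rw [hh]
        exact hg z hz
    · rw [Subgroup.zpowers_le, Subgroup.mem_centralizer_iff]
      rintro h (hh | hh)
      · exact (hg h hh).symm
      · rw [Set.mem_singleton_iff] at hh
        rw [hh]
  intro a ha b hb
  have ha' := Subgroup.mem_centralizer_iff.mp (hC ha)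
  have hle : Z ⊔ Subgroup.zpowers g ≤ Subgroup.centralizer ({a} : Set G) := by
    apply sup_le
    · intro z hz
      rw [Subgroup.mem_centralizer_iff]
      intro h hh
      rw [Set.mem_singleton_iff] at hh
      rw [hh]
      exact (ha' z (Or.inl hz)).symm
    · rw [Subgroup.zpowers_le, Subgroup.mem_centralizer_iff]
      intro h hh
      rw [Set.mem_singleton_iff] at hh
      rw [hh]
      exact (ha' g (Or.inr rfl)).symm
  exact Subgroup.mem_centralizer_iff.mp (hle hb) a rfl

section Count

variable (Z : Subgroup G) [hZ : Z.Normal] (hab : ∀ a ∈ Z, ∀ b ∈ Z, a * b = b * a)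

noncomputable def commHom (g : G) : Z →* Z where
  toFun z := ⟨g * z * g⁻¹ * (z : G)⁻¹, Z.mul_mem (hZ.conj_mem z z.2 g) (Z.inv_mem z.2)⟩
  map_one' := by
    apply Subtype.ext
    simp
  map_mul' := by
    intro a b
    apply Subtype.ext
    show g * ((a : G) * b) * g⁻¹ * ((a : G) * b)⁻¹
      = (g * a * g⁻¹ * (a : G)⁻¹) * (g * b * g⁻¹ * (b : G)⁻¹)
    have h1 : (g * b * g⁻¹ * (b : G)⁻¹) * (a : G)⁻¹ = (a : G)⁻¹ * (g * b * g⁻¹ * (b : G)⁻¹) :=
      hab _ (Z.mul_mem (hZ.conj_mem b b.2 g) (Z.inv_mem b.2)) _ (Z.inv_mem a.2)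
    calc g * ((a : G) * b) * g⁻¹ * ((a : G) * b)⁻¹
        = (g * a * g⁻¹) * ((g * b * g⁻¹ * (b : G)⁻¹) * (a : G)⁻¹) := by group
      _ = (g * a * g⁻¹) * ((a : G)⁻¹ * (g * b * g⁻¹ * (b : G)⁻¹)) := by rw [h1]
      _ = (g * a * g⁻¹ * (a : G)⁻¹) * (g * b * g⁻¹ * (b : G)⁻¹) := by group

theorem commHom_coe (g : G) (t : Z) :
    ((commHom Z hab g t : Z) : G) = g * t * g⁻¹ * (t : G)⁻¹ := rfl

theorem commHom_eq_one_iff (g : G) (t : Z) : commHom Z hab g t = 1 ↔ g * t = t * g := by
  constructor
  · intro h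
    have h2 : g * (t : G) * g⁻¹ * (t : G)⁻¹ = 1 := congrArg Subtype.val h
    calc g * t = (g * t * g⁻¹ * (t : G)⁻¹) * (t * g) := by group
      _ = t * g := by rw [h2, one_mul]
  · intro h
    apply Subtype.ext
    show g * (t : G) * g⁻¹ * (t : G)⁻¹ = 1
    rw [h]
    group

theorem mem_homStab_iff_commHom (lam : Z →* ℂˣ) (g : G) :
    g ∈ homStab Z lam ↔ ∀ t : Z, lam (commHom Z hab g t) = 1 := by
  rw [mem_homStab]
  have key : ∀ t : Z, commHom Z hab g t = ⟨g * t * g⁻¹, hZ.conj_mem t t.2 g⟩ * t⁻¹ := by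
    intro t
    apply Subtype.ext
    rfl
  constructor
  · intro h t
    rw [key, map_mul, h t, map_inv, mul_inv_cancel]
  · intro h t
    have h1 := h t
    rw [key, map_mul, map_inv] at h1
    exact mul_inv_eq_one.mp h1

theorem card_stab_mul [Finite G] (g : G) :
    Nat.card {lam : Z →* ℂˣ // g ∈ homStab Z lam} * Nat.card (commHom Z hab g).range
      = Nat.card Z := by
  have hA : ∀ a b : Z, a * b = b * a := fun a b => Subtype.ext (hab a a.2 b b.2)
  have h1 := card_hom_trivial_on hA (commHom Z hab g).range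
  have h2 : Nat.card {lam : Z →* ℂˣ // g ∈ homStab Z lam}
      = Nat.card {lam : Z →* ℂˣ // ∀ r ∈ (commHom Z hab g).range, lam r = 1} := by
    apply Nat.card_congr
    refine Equiv.subtypeEquivRight ?_
    intro lam
    rw [mem_homStab_iff_commHom Z hab]
    constructor
    · rintro h r ⟨t, rfl⟩
      exact h t
    · intro h t
      exact h _ ⟨t, rfl⟩
  rw [h2, h1, mul_comm]
  exact Subgroup.card_mul_index _

theorem commHom_range_card_pow [Finite G] (p k : ℕ) (hp : p.Prime)
    (hk : (Subgroup.center G).index = p ^ k) (g : G) :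
    ∃ j : ℕ, Nat.card (commHom Z hab g).range = p ^ j := by
  have h1 : Nat.card (commHom Z hab g).range = (commHom Z hab g).ker.index :=
    (Subgroup.index_ker _).symm
  have h2 : (Subgroup.center G).subgroupOf Z ≤ (commHom Z hab g).ker := by
    intro z hz
    rw [MonoidHom.mem_ker, commHom_eq_one_iff]
    have hz' : (z : G) ∈ Subgroup.center G := hz
    exact (Subgroup.mem_center_iff.mp hz' g)
  have h3 : (commHom Z hab g).ker.index ∣ ((Subgroup.center G).subgroupOf Z).index :=
    Subgroup.index_dvd_of_le h2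
  have h4 : ((Subgroup.center G).subgroupOf Z).index ∣ (Subgroup.center G).index :=
    Subgroup.relIndex_dvd_index_of_normal _ _
  rw [hk] at h4
  obtain ⟨j, -, hj⟩ := (Nat.dvd_prime_pow hp).mp (dvd_trans h3 h4)
  exact ⟨j, by rw [h1, hj]⟩

theorem sum_card_stab [Fintype G] [Fintype (Z →* ℂˣ)] :
    ∑ lam : Z →* ℂˣ, Nat.card (homStab Z lam)
      = ∑ g : G, Nat.card {lam : Z →* ℂˣ // g ∈ homStab Z lam} := by
  classical
  have h1 : ∀ lam : Z →* ℂˣ, Nat.card (homStab Z lam)
      = ∑ g : G, if g ∈ homStab Z lam then 1 else 0 := by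
    intro lam
    rw [Nat.card_eq_fintype_card, Fintype.card_subtype, Finset.card_filter]
  have h2 : ∀ g : G, Nat.card {lam : Z →* ℂˣ // g ∈ homStab Z lam}
      = ∑ lam : Z →* ℂˣ, if g ∈ homStab Z lam then 1 else 0 := by
    intro g
    rw [Nat.card_eq_fintype_card, Fintype.card_subtype, Finset.card_filter]
  simp_rw [h1, h2]
  exact Finset.sum_comm

theorem exists_small_commHom [Finite G] (p : ℕ) (hp : p.Prime) (hidx : Z.index = p ^ 2)
    (hstab : ∀ lam : Z →* ℂˣ, (homStab Z lam).index ∣ p)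
    (hd : ∀ g : G, ∃ j : ℕ, Nat.card (commHom Z hab g).range = p ^ j)
    (hno : ∀ g : G, g ∉ Z → Nat.card (commHom Z hab g).range ≠ 1)
    (M : Subgroup G) (hZM : Z ≤ M) (hM : Nat.card M ≤ p * Nat.card Z) :
    ∃ g : G, g ∉ M ∧ Nat.card (commHom Z hab g).range = p := by
  classical
  have := Fintype.ofFinite G
  have := Fintype.ofFinite (Z →* ℂˣ)
  by_contra hcon
  push Not at hcon
  obtain ⟨q, rfl⟩ : ∃ q, p = q + 2 := ⟨p - 2, by have := hp.two_le; omega⟩
  have hzpos : 0 < Nat.card Z := Nat.card_pos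
  have hGcard : Nat.card G = Nat.card Z * (q + 2) ^ 2 := by
    rw [← hidx]
    exact (Subgroup.card_mul_index Z).symm
  have hF : ∀ g : G, (q + 2) ^ 2 * Nat.card {lam : Z →* ℂˣ // g ∈ homStab Z lam}
      ≤ Nat.card Z * (1 + (if g ∈ M then q + 1 else 0)
          + (if g ∈ Z then (q + 2) * (q + 1) else 0)) := by
    intro g
    have h1 := card_stab_mul Z hab g
    obtain ⟨j, hj⟩ := hd g
    rw [hj] at h1
    by_cases hgZ : g ∈ Z
    · have hgM : g ∈ M := hZM hgZ
      rw [if_pos hgM, if_pos hgZ]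
      have hFle : Nat.card {lam : Z →* ℂˣ // g ∈ homStab Z lam} ≤ Nat.card Z := by
        calc Nat.card {lam : Z →* ℂˣ // g ∈ homStab Z lam}
            ≤ Nat.card {lam : Z →* ℂˣ // g ∈ homStab Z lam} * (q + 2) ^ j :=
              Nat.le_mul_of_pos_right _ (by positivity)
          _ = Nat.card Z := h1
      calc (q + 2) ^ 2 * Nat.card {lam : Z →* ℂˣ // g ∈ homStab Z lam}
          ≤ (q + 2) ^ 2 * Nat.card Z := Nat.mul_le_mul_left _ hFle
        _ = Nat.card Z * (1 + (q + 1) + (q + 2) * (q + 1)) := by ring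
    · have hj0 : j ≠ 0 := by
        intro h0
        rw [h0, pow_zero] at hj
        exact hno g hgZ hj
      rw [if_neg hgZ]
      by_cases hgM : g ∈ M
      · rw [if_pos hgM]
        obtain ⟨j', rfl⟩ := Nat.exists_eq_succ_of_ne_zero hj0
        have h2 : Nat.card {lam : Z →* ℂˣ // g ∈ homStab Z lam} * (q + 2) ≤ Nat.card Z := by
          calc Nat.card {lam : Z →* ℂˣ // g ∈ homStab Z lam} * (q + 2)
              ≤ Nat.card {lam : Z →* ℂˣ // g ∈ homStab Z lam} * (q + 2) * (q + 2) ^ j' :=
                Nat.le_mul_of_pos_right _ (by positivity)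
            _ = Nat.card Z := by rw [← h1, pow_succ]; ring
        calc (q + 2) ^ 2 * Nat.card {lam : Z →* ℂˣ // g ∈ homStab Z lam}
            = (q + 2) * (Nat.card {lam : Z →* ℂˣ // g ∈ homStab Z lam} * (q + 2)) := by ring
          _ ≤ (q + 2) * Nat.card Z := Nat.mul_le_mul_left _ h2
          _ = Nat.card Z * (1 + (q + 1) + 0) := by ring
      · rw [if_neg hgM]
        have hj1 : j ≠ 1 := by
          intro h1'
          rw [h1', pow_one] at hj
          exact hcon g hgM hj
        obtain ⟨j', rfl⟩ : ∃ j', j = j' + 2 := ⟨j - 2, by omega⟩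
        have h2 : Nat.card {lam : Z →* ℂˣ // g ∈ homStab Z lam} * (q + 2) ^ 2 ≤ Nat.card Z := by
          calc Nat.card {lam : Z →* ℂˣ // g ∈ homStab Z lam} * (q + 2) ^ 2
              ≤ Nat.card {lam : Z →* ℂˣ // g ∈ homStab Z lam} * (q + 2) ^ 2 * (q + 2) ^ j' :=
                Nat.le_mul_of_pos_right _ (by positivity)
            _ = Nat.card Z := by rw [← h1, pow_add]; ring
        calc (q + 2) ^ 2 * Nat.card {lam : Z →* ℂˣ // g ∈ homStab Z lam}
            = Nat.card {lam : Z →* ℂˣ // g ∈ homStab Z lam} * (q + 2) ^ 2 := by ring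
          _ ≤ Nat.card Z := h2
          _ = Nat.card Z * (1 + 0 + 0) := by ring
  have hsumB : ∑ g : G, (1 + (if g ∈ M then q + 1 else 0)
        + (if g ∈ Z then (q + 2) * (q + 1) else 0))
      = Nat.card G + Nat.card M * (q + 1) + Nat.card Z * ((q + 2) * (q + 1)) := by
    rw [Finset.sum_add_distrib, Finset.sum_add_distrib, sum_indicator_subgroup_nat,
      sum_indicator_subgroup_nat, Finset.sum_const, Finset.card_univ, smul_eq_mul, mul_one,
      Nat.card_eq_fintype_card (α := G)]
  have hT : ∀ lam : Z →* ℂˣ, Nat.card Z * (q + 2)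
        + (if lam = 1 then Nat.card Z * ((q + 2) * (q + 1)) else 0)
      ≤ Nat.card (homStab Z lam) := by
    intro lam
    have h1 := Subgroup.card_mul_index (homStab Z lam)
    rw [hGcard] at h1
    by_cases hl : lam = 1
    · rw [if_pos hl]
      have htop : homStab Z lam = ⊤ := by
        rw [hl, eq_top_iff]
        intro g _
        rw [mem_homStab]
        intro r
        simp
      rw [htop, Subgroup.card_top, hGcard]
      apply le_of_eq
      ring
    · rw [if_neg hl, add_zero]
      rcases (Nat.dvd_prime hp).mp (hstab lam) with h | h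
      · rw [h, mul_one] at h1
        rw [h1]
        nlinarith
      · rw [h] at h1
        have h2 : Nat.card (homStab Z lam) * (q + 2) = (Nat.card Z * (q + 2)) * (q + 2) := by
          rw [h1]; ring
        exact (Nat.eq_of_mul_eq_mul_right (by omega) h2).ge
  have hcardhom : Fintype.card (Z →* ℂˣ) = Nat.card Z := by
    rw [← Nat.card_eq_fintype_card]
    exact card_hom_comm (fun a b => Subtype.ext (hab a a.2 b b.2))
  have hsumT : Nat.card Z * (Nat.card Z * (q + 2)) + Nat.card Z * ((q + 2) * (q + 1))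
      ≤ ∑ lam : Z →* ℂˣ, Nat.card (homStab Z lam) := by
    calc Nat.card Z * (Nat.card Z * (q + 2)) + Nat.card Z * ((q + 2) * (q + 1))
        = ∑ lam : Z →* ℂˣ, (Nat.card Z * (q + 2)
            + (if lam = 1 then Nat.card Z * ((q + 2) * (q + 1)) else 0)) := by
          rw [Finset.sum_add_distrib, Finset.sum_const, Finset.card_univ, smul_eq_mul, hcardhom,
            Finset.sum_ite_eq' Finset.univ (1 : Z →* ℂˣ)
              (fun _ => Nat.card Z * ((q + 2) * (q + 1))), if_pos (Finset.mem_univ _)]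
      _ ≤ ∑ lam : Z →* ℂˣ, Nat.card (homStab Z lam) := Finset.sum_le_sum (fun lam _ => hT lam)
  have hdc := sum_card_stab Z
  have h5 : (q + 2) ^ 2 * ∑ g : G, Nat.card {lam : Z →* ℂˣ // g ∈ homStab Z lam}
      ≤ Nat.card Z * (Nat.card G + Nat.card M * (q + 1)
          + Nat.card Z * ((q + 2) * (q + 1))) := by
    rw [← hsumB, Finset.mul_sum, Finset.mul_sum]
    exact Finset.sum_le_sum (fun g _ => hF g)
  rw [← hdc] at h5
  have h6 : (q + 2) ^ 2 * (Nat.card Z * (Nat.card Z * (q + 2))
        + Nat.card Z * ((q + 2) * (q + 1)))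
      ≤ Nat.card Z * (Nat.card Z * (q + 2) ^ 2 + ((q + 2) * Nat.card Z) * (q + 1)
          + Nat.card Z * ((q + 2) * (q + 1))) := by
    calc (q + 2) ^ 2 * (Nat.card Z * (Nat.card Z * (q + 2))
          + Nat.card Z * ((q + 2) * (q + 1)))
        ≤ (q + 2) ^ 2 * ∑ lam : Z →* ℂˣ, Nat.card (homStab Z lam) :=
          Nat.mul_le_mul_left _ hsumT
      _ ≤ Nat.card Z * (Nat.card G + Nat.card M * (q + 1)
          + Nat.card Z * ((q + 2) * (q + 1))) := h5
      _ ≤ Nat.card Z * (Nat.card Z * (q + 2) ^ 2 + ((q + 2) * Nat.card Z) * (q + 1)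
          + Nat.card Z * ((q + 2) * (q + 1))) := by
          rw [hGcard]
          apply Nat.mul_le_mul_left
          apply Nat.add_le_add_right
          apply Nat.add_le_add_left
          exact Nat.mul_le_mul_right _ hM
  have e : (q + 2) ^ 2 * (Nat.card Z * (Nat.card Z * (q + 2))
        + Nat.card Z * ((q + 2) * (q + 1)))
      = Nat.card Z * (Nat.card Z * (q + 2) ^ 2 + ((q + 2) * Nat.card Z) * (q + 1)
          + Nat.card Z * ((q + 2) * (q + 1)))
        + (Nat.card Z * Nat.card Z * (q + 2) * (q * q + q)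
          + Nat.card Z * (q + 2) ^ 3 * (q + 1)) := by ring
  rw [e] at h6
  have hpos : 0 < Nat.card Z * (q + 2) ^ 3 * (q + 1) := by positivity
  omega

theorem commHom_range_normal (hcomm : commutator G ≤ Z) (x : G) :
    ((commHom Z hab x).range.map Z.subtype).Normal := by
  constructor
  rintro d ⟨r, ⟨t, rfl⟩, rfl⟩ g
  have hc : ⁅g, x⁆ ∈ Z := hcomm (by
    rw [commutator_def]
    exact Subgroup.commutator_mem_commutator (Subgroup.mem_top g) (Subgroup.mem_top x))
  have ht' : g * t * g⁻¹ ∈ Z := hZ.conj_mem t t.2 g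
  refine ⟨commHom Z hab x ⟨g * t * g⁻¹, ht'⟩, ⟨_, rfl⟩, ?_⟩
  show x * (g * t * g⁻¹) * x⁻¹ * (g * t * g⁻¹)⁻¹ = g * (x * t * x⁻¹ * (t : G)⁻¹) * g⁻¹
  have h1 : ⁅g, x⁆ * (x * (g * t * g⁻¹) * x⁻¹) = (x * (g * t * g⁻¹) * x⁻¹) * ⁅g, x⁆ :=
    hab _ hc _ (hZ.conj_mem _ ht' x)
  calc x * (g * t * g⁻¹) * x⁻¹ * (g * t * g⁻¹)⁻¹
      = ((x * (g * t * g⁻¹) * x⁻¹) * ⁅g, x⁆) * ⁅g, x⁆⁻¹ * (g * t * g⁻¹)⁻¹ := by group
    _ = (⁅g, x⁆ * (x * (g * t * g⁻¹) * x⁻¹)) * ⁅g, x⁆⁻¹ * (g * t * g⁻¹)⁻¹ := by rw [h1]
    _ = g * (x * t * x⁻¹ * (t : G)⁻¹) * g⁻¹ := by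
      rw [commutatorElement_def]; group

end Count

theorem degp_main [Finite G] (Z : Subgroup G) [hZ : Z.Normal]
    (hab : ∀ a ∈ Z, ∀ b ∈ Z, a * b = b * a) (p : ℕ) (hp : p.Prime) (hidx : Z.index = p ^ 2)
    (hZc : Subgroup.center G ≤ Z) (hcomm : commutator G ≤ Z)
    (hk : ∃ k : ℕ, (Subgroup.center G).index = p ^ k)
    (hnc : ∀ x : G, Z ⊔ Subgroup.zpowers x ≠ ⊤)
    (hstab : ∀ lam : Z →* ℂˣ, (homStab Z lam).index ∣ p) :
    (∃ A : Subgroup G, A.Normal ∧ (∀ a ∈ A, ∀ b ∈ A, a * b = b * a) ∧ A.index = p) ∨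
      (Subgroup.center G).index = p ^ 3 := by
  classical
  obtain ⟨k, hk⟩ := hk
  have hd := commHom_range_card_pow Z hab p k hp hk
  by_cases hno : ∀ g : G, g ∉ Z → Nat.card (commHom Z hab g).range ≠ 1
  swap
  · left
    push Not at hno
    obtain ⟨g, hgZ, hg1⟩ := hno
    have hgc : ∀ z ∈ Z, g * z = z * g := by
      intro z hz
      have h1 : (commHom Z hab g).range = ⊥ := Subgroup.card_eq_one.mp hg1
      have h2 : commHom Z hab g ⟨z, hz⟩ ∈ (commHom Z hab g).range := ⟨_, rfl⟩
      rw [h1, Subgroup.mem_bot] at h2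
      exact (commHom_eq_one_iff Z hab g ⟨z, hz⟩).mp h2
    exact ⟨Z ⊔ Subgroup.zpowers g, normal_of_commutator_le _ (hcomm.trans le_sup_left),
      sup_zpowers_comm Z hab g hgc, sup_zpowers_index Z p hp hidx hnc g hgZ⟩
  right
  have hzcard : Nat.card G = Nat.card Z * p ^ 2 := by
    rw [← hidx]
    exact (Subgroup.card_mul_index Z).symm
  obtain ⟨x, hxZ, hdx⟩ := exists_small_commHom Z hab p hp hidx hstab hd hno Z le_rfl
    (Nat.le_mul_of_pos_left _ hp.pos)
  have hMx := sup_zpowers_index Z p hp hidx hnc x hxZ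
  have hMxcard : Nat.card (Z ⊔ Subgroup.zpowers x : Subgroup G) = p * Nat.card Z := by
    have h1 := Subgroup.card_mul_index (Z ⊔ Subgroup.zpowers x)
    rw [hMx, hzcard] at h1
    have h2 : Nat.card (Z ⊔ Subgroup.zpowers x : Subgroup G) * p = (p * Nat.card Z) * p := by
      rw [h1]; ring
    exact Nat.eq_of_mul_eq_mul_right hp.pos h2
  obtain ⟨y, hyM, hdy⟩ := exists_small_commHom Z hab p hp hidx hstab hd hno
    (Z ⊔ Subgroup.zpowers x) le_sup_left hMxcard.le
  have hgen : ∀ H : Subgroup G, Z ≤ H → x ∈ H → y ∈ H → H = ⊤ := by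
    intro H hZH hxH hyH
    have hle : Z ⊔ Subgroup.zpowers x ≤ H := sup_le hZH (by rw [Subgroup.zpowers_le]; exact hxH)
    have hlt : Z ⊔ Subgroup.zpowers x < H := lt_of_le_of_ne hle (fun h => hyM (h ▸ hyH))
    have h1 := Subgroup.index_strictAnti hlt
    rw [hMx] at h1
    have h2 : H.index ∣ p := by
      rw [← hMx]
      exact Subgroup.index_dvd_of_le hle
    rcases (Nat.dvd_prime hp).mp h2 with h | h
    · exact Subgroup.index_eq_one.mp h
    · omega
  have hKx : (commHom Z hab x).ker.index = p := by rw [Subgroup.index_ker, hdx]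
  have hKy : (commHom Z hab y).ker.index = p := by rw [Subgroup.index_ker, hdy]
  have hcen : ∀ t : Z, t ∈ (commHom Z hab x).ker → t ∈ (commHom Z hab y).ker →
      (t : G) ∈ Subgroup.center G := by
    intro t htx hty
    rw [MonoidHom.mem_ker, commHom_eq_one_iff] at htx hty
    have h1 := hgen (Subgroup.centralizer ({(t : G)} : Set G)) (by
        intro z hz
        rw [Subgroup.mem_centralizer_iff]
        intro h hh
        rw [Set.mem_singleton_iff] at hh
        rw [hh]
        exact hab t t.2 z hz) (by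
        rw [Subgroup.mem_centralizer_iff]
        intro h hh
        rw [Set.mem_singleton_iff] at hh
        rw [hh]
        exact htx.symm) (by
        rw [Subgroup.mem_centralizer_iff]
        intro h hh
        rw [Set.mem_singleton_iff] at hh
        rw [hh]
        exact hty.symm)
    rw [Subgroup.mem_center_iff]
    intro g
    have h2 : g ∈ Subgroup.centralizer ({(t : G)} : Set G) := by
      rw [h1]
      exact Subgroup.mem_top g
    exact (Subgroup.mem_centralizer_iff.mp h2 (t : G) rfl).symm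
  by_cases hK : (commHom Z hab x).ker = (commHom Z hab y).ker
  · have h1 : (Subgroup.center G).subgroupOf Z = (commHom Z hab x).ker := by
      ext t
      rw [Subgroup.mem_subgroupOf]
      constructor
      · intro ht
        rw [MonoidHom.mem_ker, commHom_eq_one_iff]
        exact (Subgroup.mem_center_iff.mp ht x)
      · intro ht
        exact hcen t ht (hK ▸ ht)
    have h2 : (Subgroup.center G).relIndex Z = p := by
      show ((Subgroup.center G).subgroupOf Z).index = p
      rw [h1, hKx]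
    have h3 := Subgroup.relIndex_mul_index hZc
    rw [h2, hidx] at h3
    rw [← h3]
    ring
  · exfalso
    have hcardK : Nat.card (commHom Z hab x).ker = Nat.card (commHom Z hab y).ker := by
      have h1 := Subgroup.card_mul_index (commHom Z hab x).ker
      have h2 := Subgroup.card_mul_index (commHom Z hab y).ker
      rw [hKx] at h1
      rw [hKy] at h2
      exact Nat.eq_of_mul_eq_mul_right hp.pos (h1.trans h2.symm)
    have hu : ∃ u : Z, u ∈ (commHom Z hab y).ker ∧ u ∉ (commHom Z hab x).ker := by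
      by_contra hall
      push Not at hall
      exact hK (Subgroup.eq_of_le_of_card_ge hall hcardK.le).symm
    have hv : ∃ v : Z, v ∈ (commHom Z hab x).ker ∧ v ∉ (commHom Z hab y).ker := by
      by_contra hall
      push Not at hall
      exact hK (Subgroup.eq_of_le_of_card_ge hall hcardK.ge)
    obtain ⟨u, huy, hux⟩ := hu
    obtain ⟨v, hvx, hvy⟩ := hv
    have hDx : (commHom Z hab x).range.map Z.subtype ≤ Subgroup.center G := by
      have hn := commHom_range_normal Z hab hcomm x
      apply normal_prime_card_le_center p k hp hk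
      rw [Subgroup.card_map_of_injective Z.subtype_injective, hdx]
    have hDy : (commHom Z hab y).range.map Z.subtype ≤ Subgroup.center G := by
      have hn := commHom_range_normal Z hab hcomm y
      apply normal_prime_card_le_center p k hp hk
      rw [Subgroup.card_map_of_injective Z.subtype_injective, hdy]
    have hSmem : ∀ w : G, (∀ t : Z, ((commHom Z hab w t : Z) : G) ∈ Subgroup.center G) →
        w ∈ (Subgroup.centralizer ((Z.map (QuotientGroup.mk' (Subgroup.center G)) :
          Subgroup (G ⧸ Subgroup.center G)) : Set (G ⧸ Subgroup.center G))).comap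
          (QuotientGroup.mk' (Subgroup.center G)) := by
      intro w hw
      rw [Subgroup.mem_comap, Subgroup.mem_centralizer_iff]
      rintro h ⟨t, ht, rfl⟩
      have h2 : (QuotientGroup.mk' (Subgroup.center G)) (w * t * w⁻¹ * t⁻¹) = 1 :=
        (QuotientGroup.eq_one_iff _).mpr (hw ⟨t, ht⟩)
      rw [map_mul, map_mul, map_mul, map_inv, map_inv] at h2
      calc (QuotientGroup.mk' (Subgroup.center G)) t * (QuotientGroup.mk' (Subgroup.center G)) w
          = ((QuotientGroup.mk' (Subgroup.center G)) w * (QuotientGroup.mk' (Subgroup.center G)) t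
              * ((QuotientGroup.mk' (Subgroup.center G)) w)⁻¹
              * ((QuotientGroup.mk' (Subgroup.center G)) t)⁻¹)⁻¹
            * ((QuotientGroup.mk' (Subgroup.center G)) w
              * (QuotientGroup.mk' (Subgroup.center G)) t) := by group
        _ = (QuotientGroup.mk' (Subgroup.center G)) w
              * (QuotientGroup.mk' (Subgroup.center G)) t := by rw [h2, inv_one, one_mul]
    have hS := hgen ((Subgroup.centralizer ((Z.map (QuotientGroup.mk' (Subgroup.center G)) :
          Subgroup (G ⧸ Subgroup.center G)) : Set (G ⧸ Subgroup.center G))).comap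
          (QuotientGroup.mk' (Subgroup.center G))) (by
        intro z hz
        apply hSmem
        intro t
        have h1 : commHom Z hab z t = 1 := by
          rw [commHom_eq_one_iff]
          exact hab z hz t t.2
        rw [h1]
        exact Subgroup.one_mem _) (by
        apply hSmem
        intro t
        exact hDx ⟨_, ⟨t, rfl⟩, rfl⟩) (by
        apply hSmem
        intro t
        exact hDy ⟨_, ⟨t, rfl⟩, rfl⟩)
    have hcent : ∀ g : G, ∀ t : Z, ((commHom Z hab g t : Z) : G) ∈ Subgroup.center G := by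
      intro g t
      have hg : g ∈ (Subgroup.centralizer ((Z.map (QuotientGroup.mk' (Subgroup.center G)) :
          Subgroup (G ⧸ Subgroup.center G)) : Set (G ⧸ Subgroup.center G))).comap
          (QuotientGroup.mk' (Subgroup.center G)) := by
        rw [hS]
        exact Subgroup.mem_top g
      rw [Subgroup.mem_comap, Subgroup.mem_centralizer_iff] at hg
      have h1 := hg ((QuotientGroup.mk' (Subgroup.center G)) t) ⟨t, t.2, rfl⟩
      apply (QuotientGroup.eq_one_iff _).mp
      show (QuotientGroup.mk' (Subgroup.center G)) (g * t * g⁻¹ * (t : G)⁻¹) = 1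
      rw [map_mul, map_mul, map_mul, map_inv, map_inv, ← h1]
      group
    have hmul : ∀ (t : Z) (g h : G),
        commHom Z hab (g * h) t = commHom Z hab h t * commHom Z hab g t := by
      intro t g h
      apply Subtype.ext
      show g * h * t * (g * h)⁻¹ * (t : G)⁻¹
        = (h * t * h⁻¹ * (t : G)⁻¹) * (g * t * g⁻¹ * (t : G)⁻¹)
      have hc' : g * (h * t * h⁻¹ * (t : G)⁻¹) = (h * t * h⁻¹ * (t : G)⁻¹) * g :=
        Subgroup.mem_center_iff.mp (hcent h t) g
      calc g * h * t * (g * h)⁻¹ * (t : G)⁻¹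
          = (g * (h * t * h⁻¹ * (t : G)⁻¹)) * (t * g⁻¹ * (t : G)⁻¹) := by group
        _ = ((h * t * h⁻¹ * (t : G)⁻¹) * g) * (t * g⁻¹ * (t : G)⁻¹) := by rw [hc']
        _ = (h * t * h⁻¹ * (t : G)⁻¹) * (g * t * g⁻¹ * (t : G)⁻¹) := by group
    have hA : ∀ a b : Z, a * b = b * a := fun a b => Subtype.ext (hab a a.2 b b.2)
    have hne1 : commHom Z hab x u ≠ 1 := hux
    have hne2 : commHom Z hab y v ≠ 1 := hvy
    obtain ⟨lam, hl1, hl2⟩ := exists_hom_ne_one₂ hA _ _ hne1 hne2
    have hone : ∀ t : Z, commHom Z hab 1 t = 1 := by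
      intro t
      rw [commHom_eq_one_iff, one_mul, mul_one]
    let φ : Z → (G →* ℂˣ) := fun t =>
      { toFun := fun g => lam (commHom Z hab g t)
        map_one' := by rw [hone, map_one]
        map_mul' := by
          intro g h
          rw [hmul, map_mul, mul_comm] }
    have hφ : ∀ (t : Z) (g : G), φ t g = lam (commHom Z hab g t) := fun t g => rfl
    have hT1 : homStab Z lam ≤ (φ u).ker ⊓ (φ v).ker := by
      intro g hg
      rw [mem_homStab_iff_commHom Z hab] at hg
      exact Subgroup.mem_inf.mpr ⟨by rw [MonoidHom.mem_ker, hφ]; exact hg u,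
        by rw [MonoidHom.mem_ker, hφ]; exact hg v⟩
    have hyK1 : y ∈ (φ u).ker := by
      rw [MonoidHom.mem_ker, hφ, MonoidHom.mem_ker.mp huy, map_one]
    have hxK1 : x ∉ (φ u).ker := by
      rw [MonoidHom.mem_ker, hφ]
      exact hl1
    have hyK2 : y ∉ (φ v).ker := by
      rw [MonoidHom.mem_ker, hφ]
      exact hl2
    have h1 : ((φ u).ker ⊓ (φ v).ker).index ∣ p :=
      dvd_trans (Subgroup.index_dvd_of_le hT1) (hstab lam)
    have h2 := Subgroup.relIndex_mul_index (inf_le_left : (φ u).ker ⊓ (φ v).ker ≤ (φ u).ker)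
    rw [← h2] at h1
    have h3 : (φ u).ker.index ≠ 1 := by
      intro h
      apply hxK1
      rw [Subgroup.index_eq_one.mp h]
      exact Subgroup.mem_top x
    have h4 : ((φ u).ker ⊓ (φ v).ker).relIndex (φ u).ker ≠ 1 := by
      intro h
      have h5 := Subgroup.relIndex_eq_one.mp h
      exact hyK2 (h5 hyK1).2
    have h5 : (φ u).ker.index ∣ p := dvd_trans (dvd_mul_left _ _) h1
    rcases (Nat.dvd_prime hp).mp h5 with h | h
    · exact h3 h
    · rw [h] at h1
      have h6 : ((φ u).ker ⊓ (φ v).ker).relIndex (φ u).ker ∣ 1 := by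
        apply Nat.dvd_of_mul_dvd_mul_right hp.pos
        rw [one_mul]
        exact h1
      exact h4 (Nat.dvd_one.mp h6)

theorem degp_pgroup_case [Finite G] (p : ℕ) (hp : p.Prime)
    (hcd : ∀ χ : IrrCharacter G, charDegree χ.1 = 1 ∨ charDegree χ.1 = p)
    (hna : ∃ a b : G, a * b ≠ b * a) (hk : ∃ k : ℕ, (Subgroup.center G).index = p ^ k) :
    (∃ A : Subgroup G, A.Normal ∧ (∀ a ∈ A, ∀ b ∈ A, a * b = b * a) ∧ A.index = p) ∨
      (Subgroup.center G).index = p ^ 3 := by
  have hfp : Fact p.Prime := ⟨hp⟩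
  obtain ⟨k, hk'⟩ := hk
  have hQp : IsPGroup p (G ⧸ Subgroup.center G) := IsPGroup.of_card (n := k) hk'
  have hQn : Group.IsNilpotent (G ⧸ Subgroup.center G) := hQp.isNilpotent
  have hGn : Group.IsNilpotent G := Group.of_quotient_center_nilpotent hQn
  obtain ⟨χ₀, hd1, hC⟩ := exists_class2_char hna
  have h0 : charDegree χ₀.1 = p := (hcd χ₀).resolve_left hd1
  have hidx : (zchar χ₀).index = p ^ 2 := by rw [zchar_index χ₀ hC, h0]
  exact degp_main (zchar χ₀) (zchar_comm p hp hcd χ₀ h0 hC) p hp hidx (center_le_zchar χ₀)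
    (commutator_le_zchar χ₀ hC) ⟨k, hk'⟩ (zchar_sup_zpowers_ne_top χ₀ hC hd1)
    (fun lam => homStab_index_dvd p hcd (zchar χ₀) lam)

end Cfsg.Agent.Lib.helper22
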