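import Cfsg.Agent.Lib.helper24.CharCyclicExt
import Cfsg.Agent.Lib.helper24.CharEquiv
import Cfsg.Agent.Lib.helper24.CharOps
import Cfsg.Agent.Lib.helper24.CharOrth

set_option autoImplicit false

namespace Cfsg.Agent.Lib.helper22

open Cfsg Cfsg.Agent.Lib.helper24
open scoped ComplexConjugate

universe u

theorem irreducible_of_irr_character {G : Type u} [Group G] [Finite G] {n : ℕ}
    (ρ : Representation ℂ G (Fin n → ℂ)) (h : IsIrrCharacter G ρ.character) :
    ρ.IsIrreducible := by
  obtain ⟨n', ρ', hirr', hch⟩ := h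
  have := hirr'
  obtain ⟨φ⟩ := equiv_of_character_eq ρ' ρ hch
  exact isIrreducible_of_equiv φ

theorem sum_twist_eq_zero {K M : Type u} [Group K] [Fintype K] [Group M] [Fintype M]
    (ψ : K → ℂ) (hψ : IsIrrCharacter K ψ) (ι : M →* K)
    (hφ : IsIrrCharacter M (ψ ∘ ι)) (a : M ≃* M)
    (h0 : ∑ m : M, ψ (ι m) * ψ (ι (a m)) = 0) (x : K) :
    ∑ m : M, ψ (x * ι (a m) * ι m) = 0 := by
  classical
  obtain ⟨k, ρ, hirr, rfl⟩ := hψ
  obtain ⟨B, hB⟩ : ∃ B : Representation ℂ M (Fin k → ℂ), B = ρ.comp ι := ⟨_, rfl⟩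
  obtain ⟨A, hA⟩ : ∃ A : Representation ℂ M (Fin k → ℂ), A = B.comp a.toMonoidHom := ⟨_, rfl⟩
  have hBm : ∀ m : M, B m = ρ (ι m) := fun m => by rw [hB]; rfl
  have hAm : ∀ m : M, A m = ρ (ι (a m)) := fun m => by rw [hA, hB]; rfl
  have hBc : ∀ m : M, B.character m = ρ.character (ι m) := fun m => by
    show LinearMap.trace ℂ _ (B m) = LinearMap.trace ℂ _ (ρ (ι m))
    rw [hBm]
  have hAc : ∀ m : M, A.character m = ρ.character (ι (a m)) := fun m => by
    show LinearMap.trace ℂ _ (A m) = LinearMap.trace ℂ _ (ρ (ι (a m)))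
    rw [hAm]
  have hBcf : B.character = ρ.character ∘ ι := funext hBc
  have hAcf : A.character = (ρ.character ∘ ι) ∘ a := funext hAc
  have hBirr : B.IsIrreducible := irreducible_of_irr_character B (by rw [hBcf]; exact hφ)
  have hAirr : A.IsIrreducible :=
    irreducible_of_irr_character A (by rw [hAcf]; exact isIrrCharacter_comp_equiv a hφ)
  have hk : (k : ℂ) ≠ 0 := by
    have h1 := finrank_pos_of_irreducible ρ
    rw [Module.finrank_fintype_fun_eq_card, Fintype.card_fin] at h1
    exact_mod_cast h1.ne'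
  have htr_id : LinearMap.trace ℂ (Fin k → ℂ) LinearMap.id = (k : ℂ) := by
    rw [LinearMap.trace_id, Module.finrank_fintype_fun_eq_card, Fintype.card_fin]
  have hclass : ∀ n m : M, B.character (n * m * n⁻¹) = B.character m := by
    intro n m
    exact Representation.char_conj B m n
  obtain ⟨P, hP⟩ : ∃ P : Module.End ℂ (Fin k → ℂ),
      P = ∑ m : M, conj (B.character m) • B m := ⟨_, rfl⟩
  have hPcomm : ∀ n : M, P ∘ₗ B n = B n ∘ₗ P := by
    intro n
    show P * B n = B n * P
    rw [hP, Finset.sum_mul, Finset.mul_sum]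
    rw [← Equiv.sum_comp (MulAut.conj n).toEquiv
      (fun m => conj (B.character m) • B m * B n)]
    apply Finset.sum_congr rfl
    intro m _
    simp only [MulEquiv.toEquiv_eq_coe, EquivLike.coe_coe, MulAut.conj_apply]
    rw [hclass, smul_mul_assoc, mul_smul_comm, ← map_mul, ← map_mul]
    congr 2
    group
  obtain ⟨c, hc⟩ := schur_scalar B P hPcomm
  have hc0 : c ≠ 0 := by
    intro h0'
    have h1 : LinearMap.trace ℂ (Fin k → ℂ) P = 0 := by
      rw [hc, h0', zero_smul, map_zero]
    rw [hP, map_sum] at h1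
    have h2 : ∑ m : M, LinearMap.trace ℂ (Fin k → ℂ) (conj (B.character m) • B m)
        = ∑ m : M, B.character m * conj (B.character m) := by
      apply Finset.sum_congr rfl
      intro m _
      rw [map_smul, smul_eq_mul, mul_comm]
      rfl
    rw [h2] at h1
    have h3 := isIrrCharacter_inner_self hφ
    unfold classInner at h3
    rw [← hBcf, h1, mul_zero] at h3
    exact zero_ne_one h3
  obtain ⟨E, hE⟩ : ∃ E : Module.End ℂ (Fin k → ℂ),
      E = ∑ m : M, B.character m • A m := ⟨_, rfl⟩
  have hEcomm : ∀ n : M, E ∘ₗ A n = A n ∘ₗ E := by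
    intro n
    show E * A n = A n * E
    rw [hE, Finset.sum_mul, Finset.mul_sum]
    rw [← Equiv.sum_comp (MulAut.conj n).toEquiv
      (fun m => B.character m • A m * A n)]
    apply Finset.sum_congr rfl
    intro m _
    simp only [MulEquiv.toEquiv_eq_coe, EquivLike.coe_coe, MulAut.conj_apply]
    rw [hclass, smul_mul_assoc, mul_smul_comm, ← map_mul, ← map_mul]
    congr 2
    group
  obtain ⟨c', hc'⟩ := schur_scalar A E hEcomm
  have hE0 : E = 0 := by
    have h1 : LinearMap.trace ℂ (Fin k → ℂ) E = c' * k := by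
      rw [hc', map_smul, htr_id, smul_eq_mul]
    rw [hE, map_sum] at h1
    have h2 : ∑ m : M, LinearMap.trace ℂ (Fin k → ℂ) (B.character m • A m)
        = ∑ m : M, ρ.character (ι m) * ρ.character (ι (a m)) := by
      apply Finset.sum_congr rfl
      intro m _
      rw [map_smul, smul_eq_mul, hBc, ← hAc]
      rfl
    rw [h2, h0] at h1
    have h3 : c' = 0 := by
      rcases mul_eq_zero.mp h1.symm with h4 | h4
      · exact h4
      · exact absurd h4 hk
    rw [hc', h3, zero_smul]
  obtain ⟨T, hT⟩ : ∃ T : Module.End ℂ (Fin k → ℂ), T = ∑ n : M, A n * B n := ⟨_, rfl⟩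
  have hT0 : T = 0 := by
    have h1 : T * P = ∑ n : M, A n * E * B n := by
      have hEalt : E = ∑ m : M, conj (B.character m) • A m⁻¹ := by
        rw [hE, ← Equiv.sum_comp (Equiv.inv M) (fun m => B.character m • A m)]
        apply Finset.sum_congr rfl
        intro m _
        simp only [Equiv.inv_apply]
        rw [char_inv_eq_conj]
      rw [hT, hP, Finset.sum_mul]
      have h2 : ∀ n : M, A n * B n * ∑ m : M, conj (B.character m) • B m
          = ∑ m : M, conj (B.character m) • (A n * B (n * m)) := by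
        intro n
        rw [Finset.mul_sum]
        apply Finset.sum_congr rfl
        intro m _
        rw [mul_smul_comm, map_mul, mul_assoc]
      have h3 : ∀ n : M, A n * E * B n
          = ∑ m : M, conj (B.character m) • (A (n * m⁻¹) * B n) := by
        intro n
        rw [hEalt, Finset.mul_sum, Finset.sum_mul]
        apply Finset.sum_congr rfl
        intro m _
        rw [mul_smul_comm, smul_mul_assoc, map_mul]
      rw [Finset.sum_congr rfl (fun n _ => h2 n), Finset.sum_congr rfl (fun n _ => h3 n),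
        Finset.sum_comm]
      rw [Finset.sum_comm (f := fun n m => conj (B.character m) • (A (n * m⁻¹) * B n))]
      apply Finset.sum_congr rfl
      intro m _
      rw [← Equiv.sum_comp (Equiv.mulRight m)
        (fun n => conj (B.character m) • (A (n * m⁻¹) * B n))]
      apply Finset.sum_congr rfl
      intro n _
      simp only [Equiv.coe_mulRight]
      rw [mul_inv_cancel_right]
    rw [hE0] at h1
    simp only [mul_zero, zero_mul, Finset.sum_const_zero] at h1
    rw [hc] at h1
    have h4 : c • T = 0 := by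
      rw [← h1]
      show c • T = T * (c • (1 : Module.End ℂ (Fin k → ℂ)))
      rw [mul_smul_comm, mul_one]
    rcases smul_eq_zero.mp h4 with h5 | h5
    · exact absurd h5 hc0
    · exact h5
  have hfin : ∑ m : M, ρ.character (x * ι (a m) * ι m)
      = LinearMap.trace ℂ (Fin k → ℂ) (ρ x * T) := by
    rw [hT, Finset.mul_sum, map_sum]
    apply Finset.sum_congr rfl
    intro m _
    have h1 : ρ (x * ι (a m) * ι m) = ρ x * (A m * B m) := by
      rw [hAm, hBm, ← map_mul ρ, ← map_mul ρ, mul_assoc]
    show LinearMap.trace ℂ _ (ρ (x * ι (a m) * ι m)) = _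
    rw [h1]
  rw [hfin, hT0, mul_zero, map_zero]

theorem sum_sq_extendByZero_clifford {G : Type u} [Group G] [Fintype G] (N : Subgroup G)
    [hN : N.Normal] [Fintype N] (φ : IrrCharacter N) (hreal : ∀ n : N, conj (φ.1 n) = φ.1 n)
    (I : Subgroup G) [Fintype I]
    (hT : ∀ g : G, g ∈ I ↔
      ∀ n : N, φ.1 ⟨g * n * g⁻¹, hN.conj_mem (n : G) n.2 g⟩ = φ.1 n)
    (hNI : N ≤ I) (ψ : IrrCharacter I)
    (hψ : ∀ n : N, ψ.1 (Subgroup.inclusion hNI n) = φ.1 n) :
    ∑ g : G, extendByZero I ψ.1 (g * g) = ∑ i : I, ψ.1 (i * i) := by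
  classical
  obtain ⟨W, hW⟩ : ∃ W : G → ℂ, W = fun g => if g ∈ I then 0 else extendByZero I ψ.1 (g * g) :=
    ⟨_, rfl⟩
  have hsplit : ∀ g : G, extendByZero I ψ.1 (g * g)
      = extendByZero I (fun i : I => ψ.1 (i * i)) g + W g := by
    intro g
    rw [hW]
    by_cases hg : g ∈ I
    · simp only [if_pos hg, add_zero]
      rw [extendByZero_apply_mem _ _ hg, extendByZero_apply_mem _ _ (I.mul_mem hg hg)]
      rfl
    · simp only [if_neg hg]
      rw [extendByZero_apply_not_mem _ _ hg, zero_add]
  have hcoset : ∀ g : G, ∑ n : N, W (g * n) = 0 := by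
    intro g
    by_cases hg : g ∈ I
    · apply Finset.sum_eq_zero
      intro n _
      rw [hW]
      simp only
      rw [if_pos (I.mul_mem hg (hNI n.2))]
    · have hgn : ∀ n : N, g * n ∉ I := by
        intro n h
        apply hg
        have := I.mul_mem h (I.inv_mem (hNI n.2))
        rwa [mul_inv_cancel_right] at this
      have hWn : ∀ n : N, W (g * n) = extendByZero I ψ.1 (g * n * (g * n)) := by
        intro n
        rw [hW]
        simp only
        rw [if_neg (hgn n)]
      rw [Finset.sum_congr rfl (fun n _ => hWn n)]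
      have hexp : ∀ n : N, g * n * (g * n) = g * g * (g⁻¹ * n * g) * n := by
        intro n
        group
      by_cases hgg : g * g ∈ I
      · obtain ⟨a, ha⟩ : ∃ a : N ≃* N, a = MulAut.conjNormal g⁻¹ := ⟨_, rfl⟩
        have haval : ∀ n : N, ((a n : N) : G) = g⁻¹ * n * g := by
          intro n
          rw [ha, MulAut.conjNormal_apply, inv_inv]
        have hterm : ∀ n : N, extendByZero I ψ.1 (g * n * (g * n))
            = ψ.1 (⟨g * g, hgg⟩ * Subgroup.inclusion hNI (a n) * Subgroup.inclusion hNI n) := by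
          intro n
          have hmem : g * n * (g * n) ∈ I := by
            rw [hexp]
            have h1 : g⁻¹ * n * g ∈ I := by
              rw [← haval]
              exact hNI (a n).2
            exact I.mul_mem (I.mul_mem hgg h1) (hNI n.2)
          rw [extendByZero_apply_mem _ _ hmem]
          have heq : (⟨g * n * (g * n), hmem⟩ : I)
              = ⟨g * g, hgg⟩ * Subgroup.inclusion hNI (a n) * Subgroup.inclusion hNI n := by
            apply Subtype.ext
            show g * n * (g * n) = g * g * ((a n : N) : G) * n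
            rw [haval, hexp]
          rw [heq]
        rw [Finset.sum_congr rfl (fun n _ => hterm n)]
        apply sum_twist_eq_zero ψ.1 ψ.2 (Subgroup.inclusion hNI)
        · have h1 : ψ.1 ∘ (Subgroup.inclusion hNI) = φ.1 := funext hψ
          rw [h1]
          exact φ.2
        · have h1 : ∀ n : N, ψ.1 (Subgroup.inclusion hNI n)
              * ψ.1 (Subgroup.inclusion hNI (a n)) = φ.1 (a n) * conj (φ.1 n) := by
            intro n
            rw [hψ, hψ, hreal, mul_comm]
          rw [Finset.sum_congr rfl (fun n _ => h1 n)]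
          have hirr : IsIrrCharacter N (φ.1 ∘ a) := isIrrCharacter_comp_equiv a φ.2
          have hne : (⟨φ.1 ∘ a, hirr⟩ : IrrCharacter N) ≠ φ := by
            intro heq
            apply hg
            have h2 : ∀ n : N, φ.1 (a n) = φ.1 n := fun n => congrFun (congrArg Subtype.val heq) n
            have h3 : g⁻¹ ∈ I := by
              rw [hT]
              intro n
              have h4 := h2 n
              have h5 : (⟨g⁻¹ * n * g⁻¹⁻¹, hN.conj_mem (n : G) n.2 g⁻¹⟩ : N) = a n := by
                apply Subtype.ext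
                show g⁻¹ * (n : G) * g⁻¹⁻¹ = ((a n : N) : G)
                rw [haval, inv_inv]
              rw [h5, h4]
            have := I.inv_mem h3
            rwa [inv_inv] at this
          have h6 := irr_inner_ne hne
          unfold classInner at h6
          have hN0 : (Nat.card N : ℂ) ≠ 0 := Nat.cast_ne_zero.mpr Nat.card_pos.ne'
          rcases mul_eq_zero.mp h6 with h7 | h7
          · exact absurd (inv_eq_zero.mp h7) hN0
          · exact h7
      · apply Finset.sum_eq_zero
        intro n _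
        apply extendByZero_apply_not_mem
        intro h
        apply hgg
        rw [hexp] at h
        have h1 : g⁻¹ * n * g ∈ I := hNI (hN.conj_mem (n : G) n.2 g⁻¹ |> fun h => by
          rwa [inv_inv] at h)
        have h2 := I.mul_mem h (I.inv_mem (hNI n.2))
        rw [mul_inv_cancel_right] at h2
        have h3 := I.mul_mem h2 (I.inv_mem h1)
        rwa [mul_inv_cancel_right] at h3
  have hWsum : ∑ g : G, W g = 0 := by
    have h1 : ∀ n : N, ∑ g : G, W (g * n) = ∑ g : G, W g := by
      intro n
      exact Equiv.sum_comp (Equiv.mulRight (n : G)) W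
    have h2 : ∑ n : N, ∑ g : G, W (g * n) = 0 := by
      rw [Finset.sum_comm]
      exact Finset.sum_eq_zero (fun g _ => hcoset g)
    rw [Finset.sum_congr rfl (fun n _ => h1 n), Finset.sum_const, Finset.card_univ,
      nsmul_eq_mul] at h2
    rcases mul_eq_zero.mp h2 with h3 | h3
    · exfalso
      have h4 : Fintype.card N ≠ 0 := Fintype.card_ne_zero
      exact h4 (by exact_mod_cast h3)
    · exact h3
  rw [Finset.sum_congr rfl (fun g _ => hsplit g), Finset.sum_add_distrib, hWsum, add_zero,
    sum_extendByZero]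

theorem fs_indFun_clifford {G : Type u} [Group G] [Fintype G] (N : Subgroup G)
    [hN : N.Normal] [Fintype N] (φ : IrrCharacter N) (hreal : ∀ n : N, conj (φ.1 n) = φ.1 n)
    (I : Subgroup G) [Fintype I]
    (hT : ∀ g : G, g ∈ I ↔
      ∀ n : N, φ.1 ⟨g * n * g⁻¹, hN.conj_mem (n : G) n.2 g⟩ = φ.1 n)
    (hNI : N ≤ I) (ψ : IrrCharacter I)
    (hψ : ∀ n : N, ψ.1 (Subgroup.inclusion hNI n) = φ.1 n) :
    (Nat.card G : ℂ)⁻¹ * ∑ g : G, indFun I ψ.1 (g * g)
      = (Nat.card I : ℂ)⁻¹ * ∑ i : I, ψ.1 (i * i) := by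
  classical
  have hG : (Nat.card G : ℂ) ≠ 0 := by exact_mod_cast Nat.card_pos.ne'
  have h1 : ∀ x : G, ∑ g : G, extendByZero I ψ.1 (x⁻¹ * (g * g) * x)
      = ∑ i : I, ψ.1 (i * i) := by
    intro x
    have h2 := Equiv.sum_comp (MulAut.conj x⁻¹).toEquiv
      (fun g : G => extendByZero I ψ.1 (g * g))
    have h3 : ∀ g : G, extendByZero I ψ.1 (x⁻¹ * (g * g) * x)
        = extendByZero I ψ.1 ((MulAut.conj x⁻¹).toEquiv g * (MulAut.conj x⁻¹).toEquiv g) := by
      intro g
      congr 1
      simp only [MulEquiv.toEquiv_eq_coe, EquivLike.coe_coe, MulAut.conj_apply, inv_inv]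
      group
    rw [Finset.sum_congr rfl (fun g _ => h3 g), h2]
    exact sum_sq_extendByZero_clifford N φ hreal I hT hNI ψ hψ
  unfold indFun
  rw [← Finset.mul_sum, Finset.sum_comm, Finset.sum_congr rfl (fun x _ => h1 x), Finset.sum_const,
    Finset.card_univ, nsmul_eq_mul, ← Nat.card_eq_fintype_card]
  field_simp

end Cfsg.Agent.Lib.helper22
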