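import Cfsg.Agent.S4521
import Cfsg.Agent.Lib.helper5.BlockPCore
import Cfsg.Agent.Lib.helper5.BlockQuot
import Cfsg.Agent.Lib.helper5.BlockNormal
import Cfsg.Agent.Lib.helper23.GenDeg
import Cfsg.Agent.Lib.helper23.GalConj
import Cfsg.Agent.Lib.helper10.PSolv
import Cfsg.Agent.Lib.helper16.PSolv
import Cfsg.Agent.Lib.helper9.PPrimeCore
import Cfsg.Agent.Lib.helper15.PCore

set_option autoImplicit false
open Cfsg

namespace Cfsg.Agent.Lib.helper22.FongB0

open Cfsg.Agent.Lib.helper23 Cfsg.Agent.Lib.helper24 Cfsg.Agent.Lib.helper5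
open scoped ComplexConjugate

theorem all_principal_of_centralizer {G : Type*} [Group G] [Fintype G] {p : ℕ} [Fact p.Prime]
    {M : Ideal Cfsg.AlgInt} (hM : Cfsg.IsPModular p M) (U : Subgroup G) [U.Normal]
    (hU : IsPGroup p U) (hC : Subgroup.centralizer (U : Set G) ≤ U) (χ : IrrCharacter G) :
    χ ∈ Cfsg.principalBlock M G := by
  classical
  have hp : p.Prime := Fact.out
  have : Fintype (IrrCharacter G) := Fintype.ofFinite _
  rw [Cfsg.Agent.S4521.principal_iff_sum hM χ]
  intro h0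
  have hMp := Cfsg.Agent.Lib.helper23.isPModular_isPrime hM
  have hχ1 := irr_one_ne_zero χ
  have hcl := isCharacter_conj_class (isCharacter_of_isIrrCharacter χ.2)
  have hsum : ∑ g : G, regInd p G g * χ.1 g / χ.1 1 = 0 := by
    rw [← Finset.sum_div, h0, zero_div]
  rw [sum_eq_sum_conjClasses (fun g => regInd p G g * χ.1 g / χ.1 1)
    (fun g h => by
      show regInd p G (h * g * h⁻¹) * χ.1 (h * g * h⁻¹) / χ.1 1 = regInd p G g * χ.1 g / χ.1 1
      rw [regInd_isClassFunction g h, hcl g h]),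
    ← Finset.add_sum_erase Finset.univ _ (Finset.mem_univ (ConjClasses.mk (1 : G)))] at hsum
  have hout : Quotient.out (ConjClasses.mk (1 : G)) = 1 := (out_eq_one_iff _).mpr rfl
  have hreg1 : regInd p G (1 : G) = 1 :=
    regInd_of_reg (by rw [orderOf_one]; exact hp.one_lt.ne' ∘ Nat.dvd_one.mp)
  have hidx1 : (Subgroup.centralizer ({(1 : G)} : Set G)).index = 1 := by
    have : Subgroup.centralizer ({(1 : G)} : Set G) = ⊤ := by
      rw [eq_top_iff]
      intro x _
      rw [Subgroup.mem_centralizer_iff]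
      intro y hy
      rw [Set.mem_singleton_iff] at hy
      rw [hy, one_mul, mul_one]
    rw [this, Subgroup.index_top]
  rw [hout, hreg1, hidx1, Nat.cast_one, one_mul, one_mul, div_self hχ1] at hsum
  have hrest : Cfsg.MemLocalIdeal M (∑ c ∈ Finset.univ.erase (ConjClasses.mk (1 : G)),
      ((Subgroup.centralizer ({Quotient.out c} : Set G)).index : ℂ) *
        (regInd p G (Quotient.out c) * χ.1 (Quotient.out c) / χ.1 1)) := by
    apply memLocalIdeal_sum hMp
    intro c hc
    have hc1 : Quotient.out c ≠ 1 := by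
      intro h
      exact (Finset.mem_erase.mp hc).1 ((out_eq_one_iff c).mp h)
    by_cases hs : p ∣ orderOf (Quotient.out c)
    · rw [regInd_of_sing hs, zero_mul, zero_div, mul_zero]
      exact memLocalIdeal_zero hMp.ne_top
    · rw [regInd_of_reg hs, one_mul]
      have hnc : Quotient.out c ∉ Subgroup.centralizer (U : Set G) := by
        intro hmem
        have hmU := hC hmem
        obtain ⟨k, hk⟩ := (IsPGroup.iff_orderOf.mp hU) ⟨Quotient.out c, hmU⟩
        rw [Subgroup.orderOf_mk] at hk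
        have hk0 : k = 0 := by
          by_contra hk0
          exact hs (by rw [hk]; exact dvd_pow_self p hk0)
        rw [hk0, pow_zero, orderOf_eq_one_iff] at hk
        exact hc1 hk
      have h1 := memLocalIdeal_centralChar_of_not_mem_centralizer hM U hU (Quotient.out c) hnc χ
      unfold Cfsg.centralChar at h1
      rw [mul_div_assoc] at h1
      exact h1
  have h1 : Cfsg.MemLocalIdeal M ((1 : ℕ) : ℂ) := by
    have e : ((1 : ℕ) : ℂ) = -(∑ c ∈ Finset.univ.erase (ConjClasses.mk (1 : G)),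
      ((Subgroup.centralizer ({Quotient.out c} : Set G)).index : ℂ) *
        (regInd p G (Quotient.out c) * χ.1 (Quotient.out c) / χ.1 1)) := by
      rw [Nat.cast_one]
      linear_combination hsum
    rw [e]
    exact memLocalIdeal_neg hrest
  rw [memLocalIdeal_natCast_iff hM] at h1
  exact hp.one_lt.ne' (Nat.dvd_one.mp h1)

theorem mem_principalBlock_iff_pSolvable {G : Type*} [Group G] [Finite G] {p : ℕ} [Fact p.Prime]
    {M : Ideal Cfsg.AlgInt} (hM : Cfsg.IsPModular p M) (hsolv : Cfsg.IsPSolvable p G)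
    (χ : IrrCharacter G) :
    χ ∈ Cfsg.principalBlock M G ↔ ∀ n ∈ Cfsg.pPrimeCore p G, χ.1 n = χ.1 1 := by
  classical
  have hp : p.Prime := Fact.out
  have : Fintype G := Fintype.ofFinite G
  have : Fintype (IrrCharacter G) := Fintype.ofFinite _
  have hMp := Cfsg.Agent.Lib.helper23.isPModular_isPrime hM
  have hKn : (Cfsg.pPrimeCore p G).Normal := Cfsg.Agent.Lib.helper9.ppc_normal p G
  have hKcop : ¬ p ∣ Nat.card (Cfsg.pPrimeCore p G) := by
    intro h
    have h2 := Cfsg.Agent.Lib.helper9.pPrimeCore_coprime p G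
    have h3 : p ∣ Nat.gcd (Nat.card (Cfsg.pPrimeCore p G)) p := Nat.dvd_gcd h dvd_rfl
    rw [Nat.Coprime] at h2
    rw [h2] at h3
    exact hp.one_lt.ne' (Nat.dvd_one.mp h3)
  constructor
  · intro hχ
    exact kernel_of_sameBlock hM (Cfsg.pPrimeCore p G) hKcop (χ := trivIrr G) (ψ := χ) hχ
      (fun n _ => rfl)
  · intro hker
    obtain ⟨χ', hirr, hχ'⟩ := isIrrCharacter_deflate (Cfsg.pPrimeCore p G) χ.2 hker
    have : Fintype (G ⧸ Cfsg.pPrimeCore p G) := Fintype.ofFinite _
    have hsolv' : Cfsg.IsPSolvable p (G ⧸ Cfsg.pPrimeCore p G) :=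
      Cfsg.Agent.Lib.helper16.isPSolvable_of_surjective (QuotientGroup.mk' (Cfsg.pPrimeCore p G))
        (QuotientGroup.mk'_surjective _) hsolv
    have hcore : Cfsg.pPrimeCore p (G ⧸ Cfsg.pPrimeCore p G) = ⊥ :=
      Cfsg.Agent.Lib.helper9.pPrimeCore_quotient_eq_bot p G
    have hcent := Cfsg.Agent.Lib.helper10.centralizer_pCore_le_of_pSolvable hsolv' hcore
    have hUn : (Cfsg.pCore p (G ⧸ Cfsg.pPrimeCore p G)).Normal := Cfsg.pCore_normal p _
    have h1 : (⟨χ', hirr⟩ : IrrCharacter (G ⧸ Cfsg.pPrimeCore p G)) ∈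
        Cfsg.principalBlock M (G ⧸ Cfsg.pPrimeCore p G) :=
      all_principal_of_centralizer hM (Cfsg.pCore p (G ⧸ Cfsg.pPrimeCore p G))
        (Cfsg.Agent.Lib.helper15.pCore_isPGroup p _) hcent ⟨χ', hirr⟩
    have h2 : Cfsg.SameBlock M (fun _ : G ⧸ Cfsg.pPrimeCore p G => (1 : ℂ)) χ' := h1
    have h3 := sameBlock_comp_mk hMp (Cfsg.pPrimeCore p G) h2
    have e : (χ' ∘ (QuotientGroup.mk : G → G ⧸ Cfsg.pPrimeCore p G)) = χ.1 := by
      funext g
      exact hχ' g
    rw [e] at h3
    exact h3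

end Cfsg.Agent.Lib.helper22.FongB0
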