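import Cfsg.Agent.Lib.helper22.DegP
import Cfsg.Agent.Lib.helper23.CharInt

set_option autoImplicit false

namespace Cfsg.Agent.Lib.helper22

open Cfsg Cfsg.Agent.Lib.helper24
open scoped ComplexConjugate commutatorElement

universe u

variable {G : Type u} [Group G]

theorem two_classes_extract [Finite G] (χ : IrrCharacter G)
    (hχ : Nat.card {C : ConjClasses G // ∃ g ∈ C.carrier, χ.1 g ≠ 0} = 2) :
    ∃ g : G, g ≠ 1 ∧ χ.1 g ≠ 0 ∧ ∀ x : G, χ.1 x ≠ 0 → x = 1 ∨ IsConj x g := by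
  have h1 : ∃ g ∈ (ConjClasses.mk (1 : G)).carrier, χ.1 g ≠ 0 :=
    ⟨1, ConjClasses.mem_carrier_mk, irr_one_ne_zero χ⟩
  obtain ⟨⟨C₀, hC₀⟩, hne, huniq⟩ := (Nat.card_eq_two_iff'
    (⟨ConjClasses.mk 1, h1⟩ : {C : ConjClasses G // ∃ g ∈ C.carrier, χ.1 g ≠ 0})).mp hχ
  obtain ⟨g, hgC, hg0⟩ := hC₀
  have hgC' : ConjClasses.mk g = C₀ := ConjClasses.mem_carrier_iff_mk_eq.mp hgC
  refine ⟨g, ?_, hg0, ?_⟩
  · rintro rfl
    apply hne
    apply Subtype.ext
    exact hgC'.symm
  · intro x hx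
    by_cases hx1 : x = 1
    · exact Or.inl hx1
    · right
      have hmem : ∃ y ∈ (ConjClasses.mk x).carrier, χ.1 y ≠ 0 :=
        ⟨x, ConjClasses.mem_carrier_mk, hx⟩
      have hne' : (⟨ConjClasses.mk x, hmem⟩ :
          {C : ConjClasses G // ∃ g ∈ C.carrier, χ.1 g ≠ 0}) ≠ ⟨ConjClasses.mk 1, h1⟩ := by
        intro h
        have h2 := congrArg Subtype.val h
        have h3 : IsConj x 1 := ConjClasses.mk_eq_mk_iff_isConj.mp h2
        exact hx1 (isConj_one_left.mp h3)
      have h4 := huniq _ hne'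
      have h5 : ConjClasses.mk x = C₀ := congrArg Subtype.val h4
      exact ConjClasses.mk_eq_mk_iff_isConj.mp (h5.trans hgC'.symm)

theorem sum_two_classes [Fintype G] (g : G) (hg : g ≠ 1) (F : G → ℂ)
    (hF : ∀ x, IsConj g x → F x = F g) (hsupp : ∀ x, x ≠ 1 → ¬ IsConj g x → F x = 0) :
    ∑ x : G, F x = F 1 + (Nat.card {y : G // IsConj g y} : ℂ) * F g := by
  classical
  have h1 : ∀ x : G, F x = (if x = 1 then F 1 else 0) + (if IsConj g x then F g else 0) := by
    intro x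
    by_cases hx1 : x = 1
    · subst hx1
      have : ¬ IsConj g 1 := fun h => hg (isConj_one_left.mp h)
      rw [if_pos rfl, if_neg this, add_zero]
    · rw [if_neg hx1, zero_add]
      by_cases hc : IsConj g x
      · rw [if_pos hc]
        exact hF x hc
      · rw [if_neg hc]
        exact hsupp x hx1 hc
  rw [Finset.sum_congr rfl (fun x _ => h1 x), Finset.sum_add_distrib,
    Finset.sum_ite_eq' Finset.univ (1 : G) (fun _ => F 1), if_pos (Finset.mem_univ _),
    ← Finset.sum_filter, Finset.sum_const, nsmul_eq_mul, Nat.card_eq_fintype_card,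
    Fintype.card_subtype]

theorem card_isConj_dvd [Finite G] (g : G) :
    Nat.card {y : G // IsConj g y} ∣ Nat.card G := by
  classical
  have := Fintype.ofFinite G
  have h1 := Cfsg.Agent.Lib.helper23.card_isConj_eq_index g
  have h2 : Nat.card {y : G // IsConj g y} = (Subgroup.centralizer ({g} : Set G)).index := by
    rw [← h1, Nat.card_eq_fintype_card, Fintype.card_subtype]
  rw [h2]
  exact Subgroup.index_dvd_card _

theorem gagola_core [Finite G] (hG : 2 < Nat.card G) (χ : IrrCharacter G)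
    (hχ : Nat.card {C : ConjClasses G // ∃ g ∈ C.carrier, χ.1 g ≠ 0} = 2) :
    ∃ g : G, g ≠ 1 ∧ χ.1 g ≠ 0 ∧ (∀ x : G, χ.1 x ≠ 0 → x = 1 ∨ IsConj x g) ∧
      (∀ ψ : IrrCharacter G, ψ ≠ χ → ψ.1 g = ψ.1 1) ∧
      (∀ x : G, x ≠ 1 → (∀ ψ : IrrCharacter G, ψ ≠ χ → ψ.1 x = ψ.1 1) → IsConj x g) ∧
      χ.1 g ≠ χ.1 1 := by
  classical
  have := Fintype.ofFinite G
  have := Fintype.ofFinite (IrrCharacter G)
  obtain ⟨g, hg1, hg0, hsupp⟩ := two_classes_extract χ hχ
  have hcardpos : (Nat.card G : ℂ) ≠ 0 := by exact_mod_cast (Nat.card_pos (α := G)).ne'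
  have hsum : ∀ ψ : IrrCharacter G, ∑ x : G, ψ.1 x * conj (χ.1 x)
      = ψ.1 1 * conj (χ.1 1) + (Nat.card {y : G // IsConj g y} : ℂ) * (ψ.1 g * conj (χ.1 g)) := by
    intro ψ
    apply sum_two_classes g hg1 (fun x => ψ.1 x * conj (χ.1 x))
    · intro x hx
      obtain ⟨c, hc⟩ := isConj_iff.mp hx
      show ψ.1 x * conj (χ.1 x) = ψ.1 g * conj (χ.1 g)
      rw [← hc, isClassFunction_irr ψ g c, isClassFunction_irr χ g c]
    · intro x hx1 hxc
      show ψ.1 x * conj (χ.1 x) = 0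
      have : χ.1 x = 0 := by
        by_contra h0
        rcases hsupp x h0 with h | h
        · exact hx1 h
        · exact hxc h.symm
      rw [this, map_zero, mul_zero]
  have hinner : ∀ ψ : IrrCharacter G, ψ ≠ χ →
      ψ.1 1 * conj (χ.1 1) + (Nat.card {y : G // IsConj g y} : ℂ) * (ψ.1 g * conj (χ.1 g)) = 0 := by
    intro ψ hψ
    have h1 := irr_inner_ne hψ
    unfold classInner at h1
    rw [hsum ψ] at h1
    rcases mul_eq_zero.mp h1 with h | h
    · exact absurd (inv_eq_zero.mp h) hcardpos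
    · exact h
  have hχ1 : conj (χ.1 1) = χ.1 1 := by
    rw [← charDegree_cast χ, Complex.conj_natCast]
  have htriv : χ ≠ trivIrr G := by
    intro h
    have hall : ∀ x : G, x ≠ 1 → IsConj g x := by
      intro x hx
      have h0 : χ.1 x ≠ 0 := by
        rw [h, trivIrr_apply]
        exact one_ne_zero
      rcases hsupp x h0 with h' | h'
      · exact absurd h' hx
      · exact h'.symm
    have hcard : Nat.card {y : G // IsConj g y} = Nat.card G - 1 := by
      have h2 : Nat.card {y : G // IsConj g y} = Nat.card {y : G // y ≠ 1} := by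
        apply Nat.card_congr
        refine Equiv.subtypeEquivRight ?_
        intro x
        constructor
        · intro hx hx1
          rw [hx1] at hx
          exact hg1 (isConj_one_left.mp hx)
        · exact hall x
      rw [h2, Nat.card_eq_fintype_card, Nat.card_eq_fintype_card, Fintype.card_subtype_compl,
        Fintype.card_subtype_eq]
    have hdvd := card_isConj_dvd g
    rw [hcard] at hdvd
    have h3 : Nat.card G - 1 ∣ 1 := by
      have h4 : Nat.card G - 1 ∣ Nat.card G - (Nat.card G - 1) := Nat.dvd_sub hdvd dvd_rfl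
      have h5 : Nat.card G - (Nat.card G - 1) = 1 := by omega
      rw [h5] at h4
      exact h4
    have := Nat.dvd_one.mp h3
    omega
  have hkey : (Nat.card {y : G // IsConj g y} : ℂ) * conj (χ.1 g) = - χ.1 1 := by
    have h1 := hinner (trivIrr G) (Ne.symm htriv)
    rw [trivIrr_apply, trivIrr_apply, one_mul, one_mul, hχ1] at h1
    linear_combination h1
  have hker : ∀ ψ : IrrCharacter G, ψ ≠ χ → ψ.1 g = ψ.1 1 := by
    intro ψ hψ
    have h1 := hinner ψ hψ
    have h2 : ψ.1 1 * χ.1 1 - ψ.1 g * χ.1 1 = 0 := by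
      rw [hχ1] at h1
      linear_combination h1 - ψ.1 g * hkey
    have h3 : (ψ.1 1 - ψ.1 g) * χ.1 1 = 0 := by
      rw [sub_mul]
      exact h2
    rcases mul_eq_zero.mp h3 with h | h
    · exact (sub_eq_zero.mp h).symm
    · exact absurd h (irr_one_ne_zero χ)
  refine ⟨g, hg1, hg0, hsupp, hker, ?_, ?_⟩
  · intro x hx1 hx
    have h0 : χ.1 x ≠ 0 := by
      intro hzero
      have hnc : ¬ IsConj x 1 := fun h => hx1 (isConj_one_left.mp h)
      have h1 := second_orth_of_not_isConj (G := G) hnc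
      have h2 : (∑ ψ : IrrCharacter G, ψ.1 x * conj (ψ.1 1)).re = 0 := by rw [h1]; rfl
      rw [Complex.re_sum] at h2
      have hnonneg : ∀ ψ ∈ (Finset.univ : Finset (IrrCharacter G)),
          0 ≤ (ψ.1 x * conj (ψ.1 1)).re := by
        intro ψ _
        by_cases hψ : ψ = χ
        · rw [hψ, hzero, zero_mul]
          simp
        · rw [hx ψ hψ, Complex.mul_conj]
          exact_mod_cast Complex.normSq_nonneg _
      have h3 := Finset.single_le_sum hnonneg (Finset.mem_univ (trivIrr G))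
      rw [h2, trivIrr_apply, trivIrr_apply] at h3
      simp at h3
      linarith
    rcases hsupp x h0 with h | h
    · exact absurd h hx1
    · exact h
  · intro heq
    rw [heq, hχ1] at hkey
    have h1 : ((Nat.card {y : G // IsConj g y} : ℂ) + 1) * χ.1 1 = 0 := by
      linear_combination hkey
    rcases mul_eq_zero.mp h1 with h | h
    · have h2 : ((Nat.card {y : G // IsConj g y} + 1 : ℕ) : ℂ) = 0 := by
        push_cast
        exact h
      exact absurd (Nat.cast_eq_zero.mp h2) (Nat.succ_ne_zero _)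
    · exact absurd h (irr_one_ne_zero χ)

noncomputable def gagolaKer (χ : IrrCharacter G) : Subgroup G :=
  ⨅ ψ : {ψ : IrrCharacter G // ψ ≠ χ}, irrKer ψ.1

theorem mem_gagolaKer [Finite G] (χ : IrrCharacter G) (x : G) :
    x ∈ gagolaKer χ ↔ ∀ ψ : IrrCharacter G, ψ ≠ χ → ψ.1 x = ψ.1 1 := by
  unfold gagolaKer
  rw [Subgroup.mem_iInf]
  constructor
  · intro h ψ hψ
    exact (mem_irrKer ψ x).mp (h ⟨ψ, hψ⟩)
  · intro h ψ
    exact (mem_irrKer ψ.1 x).mpr (h ψ.1 ψ.2)

instance gagolaKer_normal (χ : IrrCharacter G) : (gagolaKer χ).Normal := by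
  unfold gagolaKer
  exact Subgroup.normal_iInf_normal (fun ψ => irrKer_normal ψ.1)

theorem gagola_structure [Finite G] (hG : 2 < Nat.card G) (χ : IrrCharacter G)
    (hχ : Nat.card {C : ConjClasses G // ∃ g ∈ C.carrier, χ.1 g ≠ 0} = 2) :
    gagolaKer χ ≠ ⊥ ∧ (∀ K : Subgroup G, K.Normal → K ≠ ⊥ → gagolaKer χ ≤ K) ∧
      (∀ x : G, χ.1 x ≠ 0 ↔ x ∈ gagolaKer χ) ∧
      (∀ x ∈ gagolaKer χ, ∀ y ∈ gagolaKer χ, x ≠ 1 → y ≠ 1 → ∃ c : G, c * x * c⁻¹ = y) ∧
      (∀ x : G, χ.1 x = χ.1 1 → x = 1) := by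
  obtain ⟨g, hg1, hg0, hsupp, hker, hconj, hgne⟩ := gagola_core hG χ hχ
  have hgN : g ∈ gagolaKer χ := (mem_gagolaKer χ g).mpr hker
  have hNconj : ∀ x ∈ gagolaKer χ, x ≠ 1 → IsConj x g := by
    intro x hx hx1
    exact hconj x hx1 ((mem_gagolaKer χ x).mp hx)
  have hfaith : ∀ x : G, χ.1 x = χ.1 1 → x = 1 := by
    intro x hx
    by_contra hx1
    have h0 : χ.1 x ≠ 0 := by
      rw [hx]
      exact irr_one_ne_zero χ
    rcases hsupp x h0 with h | h
    · exact hx1 h
    · obtain ⟨c, hc⟩ := isConj_iff.mp h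
      apply hgne
      rw [← hc, isClassFunction_irr χ x c, hx]
  refine ⟨?_, ?_, ?_, ?_, hfaith⟩
  · intro hbot
    rw [hbot, Subgroup.mem_bot] at hgN
    exact hg1 hgN
  · intro K hKn hK1
    have hgK : g ∈ K := by
      by_cases hKχ : K ≤ irrKer χ
      · exfalso
        obtain ⟨k, hk1⟩ := (Subgroup.ne_bot_iff_exists_ne_one).mp hK1
        have h1 : (k : G) ∈ irrKer χ := hKχ k.2
        have h2 := hfaith k ((mem_irrKer χ k).mp h1)
        exact hk1 (Subtype.ext h2)
      · have h1 : ∀ ψ' : IrrCharacter (G ⧸ K),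
            ψ'.1 ((QuotientGroup.mk' K) g) = ψ'.1 1 := by
          intro ψ'
          have hne : irrInfl K ψ' ≠ χ := by
            intro h
            apply hKχ
            exact (irrInfl_range' K χ).mp ⟨ψ', h⟩
          have h2 := hker (irrInfl K ψ') hne
          rw [irrInfl_apply, irrInfl_apply] at h2
          exact h2
        have h3 := (isConj_iff_irr_eq ((QuotientGroup.mk' K) g) 1).mpr h1
        exact (QuotientGroup.eq_one_iff g).mp (isConj_one_left.mp h3)
    intro x hx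
    by_cases hx1 : x = 1
    · rw [hx1]
      exact Subgroup.one_mem K
    · obtain ⟨c, hc⟩ := isConj_iff.mp (hNconj x hx hx1)
      have h1 : x = c⁻¹ * g * c⁻¹⁻¹ := by
        rw [← hc]
        group
      rw [h1]
      exact hKn.conj_mem g hgK c⁻¹
  · intro x
    constructor
    · intro hx
      rcases hsupp x hx with h | h
      · rw [h]
        exact Subgroup.one_mem _
      · obtain ⟨c, hc⟩ := isConj_iff.mp h
        have h1 : x = c⁻¹ * g * c⁻¹⁻¹ := by
          rw [← hc]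
          group
        rw [h1]
        exact (gagolaKer_normal χ).conj_mem g hgN c⁻¹
    · intro hx
      by_cases hx1 : x = 1
      · rw [hx1]
        exact irr_one_ne_zero χ
      · obtain ⟨c, hc⟩ := isConj_iff.mp (hNconj x hx hx1)
        have h1 : χ.1 x = χ.1 g := by
          rw [← hc, isClassFunction_irr χ x c]
        rw [h1]
        exact hg0
  · intro x hx y hy hx1 hy1
    have h1 := hNconj x hx hx1
    have h2 := hNconj y hy hy1
    exact isConj_iff.mp (h1.trans h2.symm)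

theorem gagola_elementary [Finite G] (hG : 2 < Nat.card G) (χ : IrrCharacter G)
    (hχ : Nat.card {C : ConjClasses G // ∃ g ∈ C.carrier, χ.1 g ≠ 0} = 2) :
    ∃ p : ℕ, p.Prime ∧ IsMulCommutative (gagolaKer χ) ∧ ∀ a ∈ gagolaKer χ, a ^ p = 1 := by
  obtain ⟨hN1, -, -, hconj, -⟩ := gagola_structure hG χ hχ
  obtain ⟨⟨g, hgN⟩, hg1'⟩ := (Subgroup.ne_bot_iff_exists_ne_one).mp hN1
  have hg1 : g ≠ 1 := fun h => hg1' (Subtype.ext h)
  have hord : orderOf g ≠ 1 := fun h => hg1 (orderOf_eq_one_iff.mp h)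
  have hord0 : orderOf g ≠ 0 := (orderOf_pos g).ne'
  have hp : (orderOf g).minFac.Prime := Nat.minFac_prime hord
  have hfp : Fact (orderOf g).minFac.Prime := ⟨hp⟩
  have hh : orderOf (g ^ (orderOf g / (orderOf g).minFac)) = (orderOf g).minFac :=
    orderOf_pow_orderOf_div hord0 (Nat.minFac_dvd _)
  have hhN : g ^ (orderOf g / (orderOf g).minFac) ∈ gagolaKer χ := Subgroup.pow_mem _ hgN _
  have hh1 : g ^ (orderOf g / (orderOf g).minFac) ≠ 1 := by
    intro h
    rw [h, orderOf_one] at hh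
    exact hp.one_lt.ne hh
  have hhp : (g ^ (orderOf g / (orderOf g).minFac)) ^ (orderOf g).minFac = 1 := by
    have h1 := pow_orderOf_eq_one (g ^ (orderOf g / (orderOf g).minFac))
    rw [hh] at h1
    exact h1
  have hexp : ∀ a ∈ gagolaKer χ, a ^ (orderOf g).minFac = 1 := by
    intro a ha
    by_cases ha1 : a = 1
    · rw [ha1, one_pow]
    · obtain ⟨c, hc⟩ := hconj (g ^ (orderOf g / (orderOf g).minFac)) hhN a ha hh1 ha1
      have h2 : (c * g ^ (orderOf g / (orderOf g).minFac) * c⁻¹) ^ (orderOf g).minFac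
          = c * (g ^ (orderOf g / (orderOf g).minFac)) ^ (orderOf g).minFac * c⁻¹ := conj_pow
      rw [← hc, h2, hhp]
      group
  refine ⟨(orderOf g).minFac, hp, ?_, hexp⟩
  have hPG : IsPGroup (orderOf g).minFac (gagolaKer χ) := by
    intro a
    refine ⟨1, ?_⟩
    apply Subtype.ext
    rw [pow_one]
    exact hexp a a.2
  have hnt : Nontrivial (gagolaKer χ) := ⟨⟨⟨g, hgN⟩, 1, hg1'⟩⟩
  have hZnt := hPG.center_nontrivial
  obtain ⟨⟨z, hz⟩, hz1⟩ := exists_ne (1 : Subgroup.center (gagolaKer χ))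
  have hz1' : (z : G) ≠ 1 := by
    intro h
    apply hz1
    apply Subtype.ext
    apply Subtype.ext
    exact h
  have hcentral : ∀ a ∈ gagolaKer χ, ∀ n ∈ gagolaKer χ, a * n = n * a := by
    intro a ha n hn
    by_cases ha1 : a = 1
    · rw [ha1, one_mul, mul_one]
    · obtain ⟨c, hc⟩ := hconj (z : G) z.2 a ha hz1' ha1
      have hn' : c⁻¹ * n * c⁻¹⁻¹ ∈ gagolaKer χ := (gagolaKer_normal χ).conj_mem n hn c⁻¹
      have h1 := Subgroup.mem_center_iff.mp hz ⟨c⁻¹ * n * c⁻¹⁻¹, hn'⟩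
      have h2 : (c⁻¹ * n * c⁻¹⁻¹) * (z : G) = (z : G) * (c⁻¹ * n * c⁻¹⁻¹) :=
        congrArg Subtype.val h1
      rw [← hc]
      calc c * (z : G) * c⁻¹ * n = c * ((z : G) * (c⁻¹ * n * c⁻¹⁻¹)) * c⁻¹ := by group
        _ = c * ((c⁻¹ * n * c⁻¹⁻¹) * (z : G)) * c⁻¹ := by rw [h2]
        _ = n * (c * (z : G) * c⁻¹) := by group
  exact ⟨⟨fun a b => Subtype.ext (hcentral a a.2 b b.2)⟩⟩

end Cfsg.Agent.Lib.helper22
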