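import Cfsg.Agent.Lib.helper22.Gagola

set_option autoImplicit false

namespace Cfsg.Agent.Lib.helper22

open Cfsg Cfsg.Agent.Lib.helper24
open scoped ComplexConjugate commutatorElement

universe u

variable {G : Type u} [Group G]

theorem clifford_degree_mult [Finite G] (N : Subgroup G) [hN : N.Normal] [Fintype N]
    (χ : IrrCharacter G) {θ : N → ℂ} (hθ : IsIrrCharacter N θ)
    (hcon : classInner (fun n : N => χ.1 n) θ ≠ 0) :
    ∃ e : ℕ, e ≠ 0 ∧ classInner (fun n : N => χ.1 n) θ = e ∧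
      charDegree χ.1 = e * (conjStab N θ).index * charDegree θ := by
  classical
  have := Fintype.ofFinite G
  have hcon' := hcon
  have h1 := Cfsg.Agent.Lib.helper23.clifford_restrict N hN χ.1 χ.2 θ hθ hcon'
  obtain ⟨e, he⟩ := isCharacter_inner_irr_nat (isCharacter_restrict N (isCharacter_irr χ)) ⟨θ, hθ⟩
  have he' : classInner (fun n : N => χ.1 n) θ = e := he
  rw [he'] at h1 hcon'
  have he0 : e ≠ 0 := by
    rintro rfl
    simp at hcon'
  refine ⟨e, he0, he', ?_⟩
  set S : Set (N → ℂ) :=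
    {ψ | ∃ g : G, ψ = fun n : N => θ ⟨g * n * g⁻¹, hN.conj_mem n n.2 g⟩} with hS
  have hSfin : S.Finite := by
    have : S = Set.range (fun g : G => helper24.conjFun N θ g) := by
      ext ψ
      constructor
      · rintro ⟨g, rfl⟩
        exact ⟨g, rfl⟩
      · rintro ⟨g, rfl⟩
        exact ⟨g, rfl⟩
    rw [this]
    exact Set.finite_range _
  have h2 := congrFun h1 1
  rw [finsum_mem_eq_finite_toFinset_sum _ hSfin] at h2
  simp only [Pi.smul_apply, Finset.sum_apply, smul_eq_mul] at h2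
  have h3 : ∀ ψ ∈ hSfin.toFinset, ψ 1 = θ 1 := by
    intro ψ hψ
    rw [Set.Finite.mem_toFinset] at hψ
    obtain ⟨g, rfl⟩ := hψ
    show θ ⟨g * ((1 : N) : G) * g⁻¹, _⟩ = θ 1
    congr 1
    apply Subtype.ext
    simp
  rw [Finset.sum_congr rfl h3, Finset.sum_const, ← Set.ncard_eq_toFinset_card S hSfin] at h2
  let _ := Cfsg.Agent.S4455.conjAction N
  have h4 : S.ncard = (conjStab N θ).index := by
    have hstab : MulAction.stabilizer G (⟨θ, hθ⟩ : IrrCharacter N) = conjStab N θ := by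
      ext g
      rw [MulAction.mem_stabilizer_iff, mem_conjStab]
      constructor
      · intro h
        have h5 := congrArg Subtype.val h
        have h6 : helper24.conjFun N θ g⁻¹ = θ := h5
        have h7 : g⁻¹ ∈ conjStab N θ := h6
        have h8 := (conjStab N θ).inv_mem h7
        rw [inv_inv] at h8
        exact h8
      · intro h
        have h7 : g ∈ conjStab N θ := h
        have h8 : helper24.conjFun N θ g⁻¹ = θ := (conjStab N θ).inv_mem h7
        exact Subtype.ext h8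
    rw [← hstab, MulAction.index_stabilizer]
    have himg : S = Subtype.val '' (MulAction.orbit G (⟨θ, hθ⟩ : IrrCharacter N)) := by
      ext ψ
      constructor
      · rintro ⟨g, rfl⟩
        refine ⟨g⁻¹ • (⟨θ, hθ⟩ : IrrCharacter N), ⟨g⁻¹, rfl⟩, ?_⟩
        show helper24.conjFun N θ g⁻¹⁻¹ = _
        rw [inv_inv]
        rfl
      · rintro ⟨ψ', ⟨g, rfl⟩, rfl⟩
        exact ⟨g⁻¹, rfl⟩
    rw [himg, Set.ncard_image_of_injective _ Subtype.val_injective]
  rw [h4] at h2
  have h5 : ((charDegree χ.1 : ℕ) : ℂ)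
      = ((e * (conjStab N θ).index * charDegree θ : ℕ) : ℂ) := by
    have h6 := charDegree_cast χ
    have h7 := charDegree_cast (⟨θ, hθ⟩ : IrrCharacter N)
    have h8 : χ.1 ((1 : N) : G) = χ.1 1 := rfl
    rw [h6, ← h8, h2]
    push_cast
    rw [h7]
    simp
    ring
  exact_mod_cast h5

theorem gagola_key [Finite G] (hG : 2 < Nat.card G) (χ : IrrCharacter G)
    (hχ : Nat.card {C : ConjClasses G // ∃ g ∈ C.carrier, χ.1 g ≠ 0} = 2)
    (x : G) (hx1 : x ≠ 1) (hx0 : χ.1 x ≠ 0) :
    (Nat.card {y : G // IsConj x y} : ℂ) * χ.1 x = - χ.1 1 ∧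
      Nat.card G * Nat.card {y : G // IsConj x y}
        = charDegree χ.1 ^ 2 * (Nat.card {y : G // IsConj x y} + 1) := by
  classical
  have := Fintype.ofFinite G
  obtain ⟨g, hg1, hg0, hsupp, hker, hconj, hgne⟩ := gagola_core hG χ hχ
  have htriv : trivIrr G ≠ χ := by
    intro h
    apply hgne
    rw [← h, trivIrr_apply, trivIrr_apply]
  have hxg : IsConj x g := (hsupp x hx0).resolve_left hx1
  have hsuppx : ∀ y : G, y ≠ 1 → ¬ IsConj x y → χ.1 y = 0 := by
    intro y hy1 hyc
    by_contra h0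
    rcases hsupp y h0 with h | h
    · exact hy1 h
    · exact hyc (hxg.trans h.symm)
  have hclass : ∀ (ψ : IrrCharacter G) (y : G), IsConj x y → ψ.1 y = ψ.1 x := by
    intro ψ y hy
    obtain ⟨c, hc⟩ := isConj_iff.mp hy
    rw [← hc, isClassFunction_irr ψ x c]
  have hsum : ∀ ψ : IrrCharacter G, ∑ y : G, ψ.1 y * conj (χ.1 y)
      = ψ.1 1 * conj (χ.1 1)
        + (Nat.card {y : G // IsConj x y} : ℂ) * (ψ.1 x * conj (χ.1 x)) := by
    intro ψ
    apply sum_two_classes x hx1 (fun y => ψ.1 y * conj (χ.1 y))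
    · intro y hy
      show ψ.1 y * conj (χ.1 y) = ψ.1 x * conj (χ.1 x)
      rw [hclass ψ y hy, hclass χ y hy]
    · intro y hy1 hyc
      show ψ.1 y * conj (χ.1 y) = 0
      rw [hsuppx y hy1 hyc, map_zero, mul_zero]
  have hcardpos : (Nat.card G : ℂ) ≠ 0 := by exact_mod_cast (Nat.card_pos (α := G)).ne'
  have hχ1 : conj (χ.1 1) = χ.1 1 := by rw [← charDegree_cast χ, Complex.conj_natCast]
  have hkey : (Nat.card {y : G // IsConj x y} : ℂ) * conj (χ.1 x) = - χ.1 1 := by
    have h1 := irr_inner_ne htriv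
    unfold classInner at h1
    rw [hsum (trivIrr G)] at h1
    rcases mul_eq_zero.mp h1 with h | h
    · exact absurd (inv_eq_zero.mp h) hcardpos
    · rw [trivIrr_apply, trivIrr_apply, one_mul, one_mul, hχ1] at h
      linear_combination h
  have hkey' : (Nat.card {y : G // IsConj x y} : ℂ) * χ.1 x = - χ.1 1 := by
    have h1 := congrArg (starRingEnd ℂ) hkey
    rw [map_mul, Complex.conj_conj, Complex.conj_natCast, map_neg, hχ1] at h1
    exact h1
  refine ⟨hkey', ?_⟩
  have h2 := irr_inner_self χ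
  unfold classInner at h2
  rw [hsum χ, hχ1] at h2
  have h3 : χ.1 1 * χ.1 1
      + (Nat.card {y : G // IsConj x y} : ℂ) * (χ.1 x * conj (χ.1 x)) = (Nat.card G : ℂ) :=
    ((inv_mul_eq_one₀ hcardpos).mp h2).symm
  have h4 : ((Nat.card G * Nat.card {y : G // IsConj x y} : ℕ) : ℂ)
      = ((charDegree χ.1 ^ 2 * (Nat.card {y : G // IsConj x y} + 1) : ℕ) : ℂ) := by
    push_cast
    rw [charDegree_cast χ, ← h3]
    linear_combination ((Nat.card {y : G // IsConj x y} : ℂ) * conj (χ.1 x)) * hkey'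
      - χ.1 1 * hkey
  exact_mod_cast h4

theorem gagola_class_card [Finite G] (hG : 2 < Nat.card G) (χ : IrrCharacter G)
    (hχ : Nat.card {C : ConjClasses G // ∃ g ∈ C.carrier, χ.1 g ≠ 0} = 2)
    (N : Subgroup G) (hN : ∀ g : G, g ∈ N ↔ χ.1 g ≠ 0) (x : G) (hxN : x ∈ N) (hx1 : x ≠ 1) :
    Nat.card {y : G // IsConj x y} + 1 = Nat.card N := by
  classical
  have := Fintype.ofFinite G
  obtain ⟨g, hg1, hg0, hsupp, -, -, -⟩ := gagola_core hG χ hχ
  have hx0 : χ.1 x ≠ 0 := (hN x).mp hxN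
  have hxg : IsConj x g := (hsupp x hx0).resolve_left hx1
  have h1 : Nat.card {y : G // IsConj x y} = Nat.card {y : N // y ≠ 1} := by
    apply Nat.card_congr
    refine ⟨fun y => ⟨⟨y.1, ?_⟩, ?_⟩, fun y => ⟨y.1.1, ?_⟩, ?_, ?_⟩
    · obtain ⟨c, hc⟩ := isConj_iff.mp y.2
      rw [hN, ← hc, isClassFunction_irr χ x c]
      exact hx0
    · intro h
      have h2 : y.1 = 1 := congrArg Subtype.val h
      have h3 := y.2
      rw [h2] at h3
      exact hx1 (isConj_one_left.mp h3)
    · have h0 : χ.1 (y.1 : G) ≠ 0 := (hN _).mp y.1.2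
      rcases hsupp _ h0 with h | h
      · exact absurd (Subtype.ext h) y.2
      · exact hxg.trans h.symm
    · intro y
      rfl
    · intro y
      rfl
  rw [h1, Nat.card_eq_fintype_card, Nat.card_eq_fintype_card, Fintype.card_subtype_compl,
    Fintype.card_subtype_eq]
  have : 0 < Fintype.card N := Fintype.card_pos
  omega

theorem gagola_sylow_dvd [Finite G] (χ : IrrCharacter G) (p : ℕ) (hp : p.Prime)
    (N : Subgroup G) (hN : ∀ g : G, g ∈ N ↔ χ.1 g ≠ 0) (hNp : IsPGroup p N) (q : ℕ)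
    [hq : Fact q.Prime] (hqp : q ≠ p) (Q : Sylow q G) : Nat.card Q ∣ charDegree χ.1 := by
  classical
  have := Fintype.ofFinite G
  have := Fintype.ofFinite (Q : Subgroup G)
  obtain ⟨k, hk⟩ := isCharacter_inner_irr_nat
    (isCharacter_restrict (Q : Subgroup G) (isCharacter_irr χ)) (trivIrr (Q : Subgroup G))
  unfold classInner at hk
  have hvan : ∀ y : (Q : Subgroup G), y ≠ 1 → χ.1 (y : G) = 0 := by
    intro y hy
    by_contra h0
    have hyN : (y : G) ∈ N := (hN y).mpr h0
    obtain ⟨a, ha⟩ := hNp ⟨(y : G), hyN⟩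
    obtain ⟨b, hb⟩ := Q.isPGroup' y
    have h1 : (y : G) ^ p ^ a = 1 := congrArg Subtype.val ha
    have h2 : (y : G) ^ q ^ b = 1 := congrArg Subtype.val hb
    have hcop : Nat.Coprime (p ^ a) (q ^ b) :=
      Nat.Coprime.pow _ _ ((Nat.coprime_primes hp hq.out).mpr (Ne.symm hqp))
    have h3 : (y : G) = 1 :=
      orderOf_eq_one_iff.mp (Nat.eq_one_of_dvd_coprimes hcop (orderOf_dvd_of_pow_eq_one h1)
        (orderOf_dvd_of_pow_eq_one h2))
    exact hy (Subtype.ext h3)
  have hsum : ∑ y : (Q : Subgroup G), χ.1 (y : G) * conj ((trivIrr (Q : Subgroup G)).1 y)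
      = χ.1 1 := by
    rw [Finset.sum_eq_single (1 : (Q : Subgroup G))]
    · rw [trivIrr_apply]
      simp
    · intro y _ hy
      rw [hvan y hy, zero_mul]
    · intro h
      exact absurd (Finset.mem_univ _) h
  rw [hsum] at hk
  have hQpos : (Nat.card (Q : Subgroup G) : ℂ) ≠ 0 := by
    exact_mod_cast (Nat.card_pos (α := (Q : Subgroup G))).ne'
  have h5 : ((charDegree χ.1 : ℕ) : ℂ) = ((Nat.card (Q : Subgroup G) * k : ℕ) : ℂ) := by
    push_cast
    rw [charDegree_cast, ← hk, mul_inv_cancel_left₀ hQpos]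
  exact ⟨k, by exact_mod_cast h5⟩

theorem gagola_centralizer [Finite G] (hG : 2 < Nat.card G) (χ : IrrCharacter G)
    (hχ : Nat.card {C : ConjClasses G // ∃ g ∈ C.carrier, χ.1 g ≠ 0} = 2)
    (p : ℕ) [hp : Fact p.Prime] (N : Subgroup G) (hN : ∀ g : G, g ∈ N ↔ χ.1 g ≠ 0)
    (hNp : IsPGroup p N) (hN1 : N ≠ ⊥) (x : G) (hxN : x ∈ N) (hx1 : x ≠ 1) :
    IsPGroup p (Subgroup.centralizer ({x} : Set G)) ∧
      ¬ p ∣ (Subgroup.centralizer ({x} : Set G)).index ∧
      (Subgroup.centralizer ({x} : Set G)).index + 1 = Nat.card N := by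
  classical
  have := Fintype.ofFinite G
  have hx0 : χ.1 x ≠ 0 := (hN x).mp hxN
  obtain ⟨-, hord⟩ := gagola_key hG χ hχ x hx1 hx0
  have hc := gagola_class_card hG χ hχ N hN x hxN hx1
  have hidx : Nat.card {y : G // IsConj x y} = (Subgroup.centralizer ({x} : Set G)).index := by
    rw [← Cfsg.Agent.Lib.helper23.card_isConj_eq_index x, Nat.card_eq_fintype_card,
      Fintype.card_subtype]
  rw [hidx] at hord hc
  obtain ⟨n, hn⟩ := IsPGroup.iff_card.mp hNp
  have hn0 : n ≠ 0 := by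
    rintro rfl
    rw [pow_zero] at hn
    exact hN1 (Subgroup.card_eq_one.mp hn)
  have hpc : ¬ p ∣ (Subgroup.centralizer ({x} : Set G)).index := by
    intro h
    have h1 : p ∣ (Subgroup.centralizer ({x} : Set G)).index + 1 := by
      rw [hc, hn]
      exact dvd_pow_self p hn0
    have h2 : p ∣ 1 := (Nat.dvd_add_right h).mp h1
    exact hp.out.one_lt.ne' (Nat.dvd_one.mp h2)
  refine ⟨?_, hpc, hc⟩
  have hCI := Subgroup.card_mul_index (Subgroup.centralizer ({x} : Set G))
  have hd0 : charDegree χ.1 ≠ 0 := (charDegree_pos χ).ne'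
  have hG0 : Nat.card G ≠ 0 := (Nat.card_pos (α := G)).ne'
  have hC0 : Nat.card (Subgroup.centralizer ({x} : Set G)) ≠ 0 :=
    (Nat.card_pos (α := Subgroup.centralizer ({x} : Set G))).ne'
  have hi0 : (Subgroup.centralizer ({x} : Set G)).index ≠ 0 := Subgroup.index_ne_zero_of_finite
  have hprime : ∀ {q : ℕ}, q.Prime → q ∣ Nat.card (Subgroup.centralizer ({x} : Set G)) → q = p := by
    intro q hq hqdvd
    by_contra hqp
    have hfq : Fact q.Prime := ⟨hq⟩
    have Q : Sylow q G := default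
    have h1 := gagola_sylow_dvd χ p hp.out N hN hNp q hqp Q
    rw [Sylow.card_eq_multiplicity] at h1
    have h2 : (Nat.card G).factorization q ≤ (charDegree χ.1).factorization q :=
      (Nat.Prime.pow_dvd_iff_le_factorization hq hd0).mp h1
    have h3 := congrArg (fun m : ℕ => m.factorization q) hord
    beta_reduce at h3
    rw [hc, hn, Nat.factorization_mul hG0 hi0, Nat.factorization_mul (pow_ne_zero 2 hd0)
      (pow_ne_zero n hp.out.ne_zero), Nat.factorization_pow, Nat.factorization_pow] at h3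
    simp only [Finsupp.add_apply, Finsupp.smul_apply, smul_eq_mul] at h3
    have h4 : p.factorization q = 0 := by
      apply Nat.factorization_eq_zero_of_not_dvd
      intro h
      exact hqp ((Nat.prime_dvd_prime_iff_eq hq hp.out).mp h)
    rw [h4, mul_zero, add_zero] at h3
    have h5 := congrArg (fun m : ℕ => m.factorization q) hCI
    beta_reduce at h5
    rw [Nat.factorization_mul hC0 hi0] at h5
    simp only [Finsupp.add_apply] at h5
    have h6 : 0 < (Nat.card (Subgroup.centralizer ({x} : Set G))).factorization q :=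
      hq.factorization_pos_of_dvd hC0 hqdvd
    omega
  exact IsPGroup.of_card (Nat.eq_prime_pow_of_unique_prime_dvd hC0 hprime)

theorem gagola_comm [Finite G] (hG : 2 < Nat.card G) (χ : IrrCharacter G)
    (hχ : Nat.card {C : ConjClasses G // ∃ g ∈ C.carrier, χ.1 g ≠ 0} = 2)
    (N : Subgroup G) (hN : ∀ g : G, g ∈ N ↔ χ.1 g ≠ 0) :
    ∀ a ∈ N, ∀ b ∈ N, a * b = b * a := by
  obtain ⟨-, -, hsupp, -, -⟩ := gagola_structure hG χ hχ
  obtain ⟨p, hp, hcomm, -⟩ := gagola_elementary hG χ hχ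
  intro a ha b hb
  have ha' : a ∈ gagolaKer χ := (hsupp a).mp ((hN a).mp ha)
  have hb' : b ∈ gagolaKer χ := (hsupp b).mp ((hN b).mp hb)
  have := hcomm.1.1 ⟨a, ha'⟩ ⟨b, hb'⟩
  exact congrArg Subtype.val this

theorem gagola_stab [Finite G] (hG : 2 < Nat.card G) (χ : IrrCharacter G)
    (hχ : Nat.card {C : ConjClasses G // ∃ g ∈ C.carrier, χ.1 g ≠ 0} = 2)
    (p : ℕ) [hp : Fact p.Prime] (N : Subgroup G) [hNn : N.Normal]
    (hN : ∀ g : G, g ∈ N ↔ χ.1 g ≠ 0)
    (hNp : IsPGroup p N) (hN1 : N ≠ ⊥) (μ : IrrCharacter N)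
    (hμ : μ.1 ≠ (fun _ => (1 : ℂ))) :
    IsPGroup p (conjStab N μ.1) ∧ ¬ p ∣ (conjStab N μ.1).index := by
  classical
  have := Fintype.ofFinite G
  have hfN := Fintype.ofFinite N
  obtain ⟨⟨x, hxN⟩, hx1'⟩ := (Subgroup.ne_bot_iff_exists_ne_one).mp hN1
  have hx1 : x ≠ 1 := fun h => hx1' (Subtype.ext h)
  have hx0 : χ.1 x ≠ 0 := (hN x).mp hxN
  obtain ⟨hkey, hord⟩ := gagola_key hG χ hχ x hx1 hx0
  have hc := gagola_class_card hG χ hχ N hN x hxN hx1
  obtain ⟨hCp, hCidx, hCc⟩ := gagola_centralizer hG χ hχ p N hN hNp hN1 x hxN hx1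
  have hidx : Nat.card {y : G // IsConj x y} = (Subgroup.centralizer ({x} : Set G)).index := by
    rw [← Cfsg.Agent.Lib.helper23.card_isConj_eq_index x, Nat.card_eq_fintype_card,
      Fintype.card_subtype]
  obtain ⟨g, hg1, hg0, hsupp, -, -, -⟩ := gagola_core hG χ hχ
  have hxg : IsConj x g := (hsupp x hx0).resolve_left hx1
  have hconst : ∀ n : N, n ≠ 1 → χ.1 (n : G) = χ.1 x := by
    intro n hn
    have h0 : χ.1 (n : G) ≠ 0 := (hN _).mp n.2
    rcases hsupp _ h0 with h | h
    · exact absurd (Subtype.ext h) hn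
    · obtain ⟨c, hc'⟩ := isConj_iff.mp (h.trans hxg.symm)
      rw [← hc', isClassFunction_irr χ (n : G) c]
  have hab := gagola_comm hG χ hχ N hN
  have hcommN : IsMulCommutative N := ⟨⟨fun a b => Subtype.ext (hab a a.2 b b.2)⟩⟩
  have hμ1 : μ.1 1 = 1 := irr_one_of_comm μ
  have hμtriv : μ ≠ trivIrr N := by
    intro h
    apply hμ
    rw [h]
    rfl
  have hsumμ : ∑ n : N, conj (μ.1 n) = 0 := by
    have h1 := irr_inner_ne (Ne.symm hμtriv)
    unfold classInner at h1
    have hNpos : (Nat.card N : ℂ) ≠ 0 := by exact_mod_cast (Nat.card_pos (α := N)).ne'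
    rcases mul_eq_zero.mp h1 with h | h
    · exact absurd (inv_eq_zero.mp h) hNpos
    · rw [← h]
      apply Finset.sum_congr rfl
      intro n _
      rw [trivIrr_apply, one_mul]
  have hNpos : (Nat.card N : ℂ) ≠ 0 := by exact_mod_cast (Nat.card_pos (α := N)).ne'
  have hinner : (Nat.card N : ℂ) * classInner (fun n : N => χ.1 n) μ.1 = χ.1 1 - χ.1 x := by
    unfold classInner
    rw [mul_inv_cancel_left₀ hNpos]
    have h1 : ∀ n : N, χ.1 (n : G) * conj (μ.1 n)
        = χ.1 x * conj (μ.1 n) + (if n = 1 then (χ.1 1 - χ.1 x) * conj (μ.1 1) else 0) := by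
      intro n
      by_cases hn : n = 1
      · rw [if_pos hn, hn]
        show χ.1 1 * conj (μ.1 1) = _
        ring
      · rw [if_neg hn, add_zero, hconst n hn]
    rw [Finset.sum_congr rfl (fun n _ => h1 n), Finset.sum_add_distrib, ← Finset.mul_sum, hsumμ,
      mul_zero, zero_add, Finset.sum_ite_eq' Finset.univ (1 : N)
        (fun _ => (χ.1 1 - χ.1 x) * conj (μ.1 1)), if_pos (Finset.mem_univ _), hμ1, map_one,
      mul_one]
  have hcC : ((Nat.card {y : G // IsConj x y} : ℕ) : ℂ) + 1 = (Nat.card N : ℂ) := by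
    exact_mod_cast hc
  have hcpos : ((Nat.card {y : G // IsConj x y} : ℕ) : ℂ) ≠ 0 := by
    rw [hidx]
    exact_mod_cast (Subgroup.index_ne_zero_of_finite (H := Subgroup.centralizer ({x} : Set G)))
  have hcon : classInner (fun n : N => χ.1 n) μ.1 ≠ 0 := by
    intro h0
    rw [h0, mul_zero] at hinner
    have h1 : χ.1 1 * (Nat.card N : ℂ) = 0 := by
      rw [← hcC]
      linear_combination hkey
        - (Nat.card {y : G // IsConj x y} : ℂ) * hinner
    rcases mul_eq_zero.mp h1 with h | h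
    · exact irr_one_ne_zero χ h
    · exact hNpos h
  obtain ⟨e, he0, he, hdeg⟩ := clifford_degree_mult N χ μ.2 hcon
  have hμd : charDegree μ.1 = 1 := by
    have h1 := charDegree_cast μ
    rw [hμ1] at h1
    exact_mod_cast h1
  rw [hμd, mul_one] at hdeg
  rw [he] at hinner
  have hec : e * Nat.card {y : G // IsConj x y} = charDegree χ.1 := by
    have h1 : ((e * Nat.card {y : G // IsConj x y} : ℕ) : ℂ) = ((charDegree χ.1 : ℕ) : ℂ) := by
      push_cast
      rw [charDegree_cast χ]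
      have h2 : (e : ℂ) * (Nat.card {y : G // IsConj x y} : ℂ) * (Nat.card N : ℂ)
          = χ.1 1 * (Nat.card N : ℂ) := by
        linear_combination (Nat.card {y : G // IsConj x y} : ℂ) * hinner - hkey + χ.1 1 * hcC
      exact mul_right_cancel₀ hNpos h2
    exact_mod_cast h1
  have ht : (conjStab N μ.1).index = (Subgroup.centralizer ({x} : Set G)).index := by
    rw [← hidx]
    have h1 : e * (conjStab N μ.1).index = e * Nat.card {y : G // IsConj x y} := by
      rw [hec, hdeg]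
    exact Nat.eq_of_mul_eq_mul_left (Nat.pos_of_ne_zero he0) h1
  refine ⟨?_, by rw [ht]; exact hCidx⟩
  obtain ⟨k, hk⟩ := IsPGroup.iff_card.mp hCp
  have h1 := Subgroup.card_mul_index (conjStab N μ.1)
  have h2 := Subgroup.card_mul_index (Subgroup.centralizer ({x} : Set G))
  rw [ht] at h1
  have h3 : Nat.card (conjStab N μ.1) = Nat.card (Subgroup.centralizer ({x} : Set G)) :=
    Nat.eq_of_mul_eq_mul_right (Nat.pos_of_ne_zero Subgroup.index_ne_zero_of_finite)
      (h1.trans h2.symm)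
  exact IsPGroup.of_card (h3.trans hk)

end Cfsg.Agent.Lib.helper22
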