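import Cfsg.Agent.Lib.helper22.Gagola2

set_option autoImplicit false

namespace Cfsg.Agent.Lib.helper22

open Cfsg Cfsg.Agent.Lib.helper24
open scoped ComplexConjugate commutatorElement

universe u

variable {G : Type u} [Group G]

theorem gagola_cent_quot [Finite G] (hG : 2 < Nat.card G) (χ : IrrCharacter G)
    (hχ : Nat.card {C : ConjClasses G // ∃ g ∈ C.carrier, χ.1 g ≠ 0} = 2)
    (N : Subgroup G) [N.Normal] (hN : ∀ g : G, g ∈ N ↔ χ.1 g ≠ 0) (x : G) (hx : x ∉ N) :
    Nat.card (Subgroup.centralizer ({x} : Set G))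
      = Nat.card (Subgroup.centralizer ({(x : G ⧸ N)} : Set (G ⧸ N))) := by
  classical
  have := Fintype.ofFinite G
  have := Fintype.ofFinite (IrrCharacter G)
  have := Fintype.ofFinite (G ⧸ N)
  have := Fintype.ofFinite (IrrCharacter (G ⧸ N))
  obtain ⟨g, hg1, hg0, hsupp, hker, hconj, hgne⟩ := gagola_core hG χ hχ
  have hNg : ∀ ψ : IrrCharacter G, ψ ≠ χ → ∀ n ∈ N, ψ.1 n = ψ.1 1 := by
    intro ψ hψ n hn
    rcases hsupp n ((hN n).mp hn) with h | h
    · rw [h]
    · obtain ⟨c, hc⟩ := isConj_iff.mp h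
      rw [← hker ψ hψ, ← hc, isClassFunction_irr ψ n c]
  have hχnot : ¬ ∀ n ∈ N, χ.1 n = χ.1 1 := by
    intro h
    exact hgne (h g ((hN g).mpr hg0))
  have hχx : χ.1 x = 0 := by
    by_contra h
    exact hx ((hN x).mpr h)
  have h1 := second_orth_of_isConj (IsConj.refl x)
  have h2 := second_orth_of_isConj (IsConj.refl (x : G ⧸ N))
  have himg : Finset.univ.filter (fun ψ : IrrCharacter G => ∀ n ∈ N, ψ.1 n = ψ.1 1)
      = Finset.univ.image (irrInfl N) := by
    ext ψ
    simp only [Finset.mem_filter, Finset.mem_univ, true_and, Finset.mem_image]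
    exact (irrInfl_range N ψ).symm
  have h3 : ∑ ψ : IrrCharacter G, ψ.1 x * conj (ψ.1 x)
      = ∑ ψ ∈ Finset.univ.filter (fun ψ : IrrCharacter G => ∀ n ∈ N, ψ.1 n = ψ.1 1),
        ψ.1 x * conj (ψ.1 x) := by
    symm
    apply Finset.sum_subset (Finset.filter_subset _ _)
    intro ψ _ hψ
    have h4 : ψ = χ := by
      by_contra h5
      apply hψ
      rw [Finset.mem_filter]
      exact ⟨Finset.mem_univ _, hNg ψ h5⟩
    rw [h4, hχx, zero_mul]
  rw [h3, himg, Finset.sum_image (fun a _ b _ hab => irrInfl_injective N hab)] at h1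
  have h5 : ∀ φ : IrrCharacter (G ⧸ N), (irrInfl N φ).1 x * conj ((irrInfl N φ).1 x)
      = φ.1 (x : G ⧸ N) * conj (φ.1 (x : G ⧸ N)) := fun φ => rfl
  rw [Finset.sum_congr rfl (fun φ _ => h5 φ), h2] at h1
  exact_mod_cast h1.symm

theorem gagola_cent_sylow [Finite G] (hG : 2 < Nat.card G) (χ : IrrCharacter G)
    (hχ : Nat.card {C : ConjClasses G // ∃ g ∈ C.carrier, χ.1 g ≠ 0} = 2)
    (p : ℕ) [hp : Fact p.Prime] (N : Subgroup G) [N.Normal] (hN : ∀ g : G, g ∈ N ↔ χ.1 g ≠ 0)
    (hNp : IsPGroup p N) (P : Sylow p G) (x : ↥(P : Subgroup G)) (hx : (x : G) ∉ N) :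
    Nat.card (Subgroup.centralizer ({x} : Set ↥(P : Subgroup G))) * Nat.card N
      ∣ Nat.card (P : Subgroup G) := by
  have h1 : Nat.card (Subgroup.centralizer ({x} : Set ↥(P : Subgroup G)))
      ∣ Nat.card (Subgroup.centralizer ({(x : G)} : Set G)) := by
    have hmem : ∀ c : Subgroup.centralizer ({x} : Set ↥(P : Subgroup G)),
        ((c : ↥(P : Subgroup G)) : G) ∈ Subgroup.centralizer ({(x : G)} : Set G) := by
      intro c
      rw [Subgroup.mem_centralizer_iff]
      intro h hh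
      rw [Set.mem_singleton_iff] at hh
      have h2 := (Subgroup.mem_centralizer_iff.mp c.2) x (Set.mem_singleton x)
      rw [hh]
      exact congrArg Subtype.val h2
    let f : Subgroup.centralizer ({x} : Set ↥(P : Subgroup G)) →*
        Subgroup.centralizer ({(x : G)} : Set G) :=
      { toFun := fun c => ⟨((c : ↥(P : Subgroup G)) : G), hmem c⟩
        map_one' := rfl
        map_mul' := fun a b => rfl }
    apply Subgroup.card_dvd_of_injective f
    intro a b hab
    have h3 : ((a : ↥(P : Subgroup G)) : G) = ((b : ↥(P : Subgroup G)) : G) :=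
      congrArg (fun c : Subgroup.centralizer ({(x : G)} : Set G) => (c : G)) hab
    exact Subtype.ext (Subtype.ext h3)
  rw [gagola_cent_quot hG χ hχ N hN (x : G) hx] at h1
  have h2 : Nat.card (Subgroup.centralizer ({((x : G) : G ⧸ N)} : Set (G ⧸ N))) ∣ N.index := by
    rw [Subgroup.index_eq_card]
    exact Subgroup.card_subgroup_dvd_card _
  have h3 : Nat.card (Subgroup.centralizer ({x} : Set ↥(P : Subgroup G))) * Nat.card N
      ∣ Nat.card G := by
    rw [← Subgroup.index_mul_card N]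
    exact Nat.mul_dvd_mul (h1.trans h2) dvd_rfl
  obtain ⟨a, ha⟩ := IsPGroup.iff_card.mp
    (P.isPGroup'.to_subgroup (Subgroup.centralizer ({x} : Set ↥(P : Subgroup G))))
  obtain ⟨b, hb⟩ := IsPGroup.iff_card.mp hNp
  rw [ha, hb, ← pow_add] at h3 ⊢
  rw [Sylow.card_eq_multiplicity]
  exact pow_dvd_pow p
    ((Nat.Prime.pow_dvd_iff_le_factorization hp.out (Nat.card_pos (α := G)).ne').mp h3)

theorem gagola_center_le [Finite G] (hG : 2 < Nat.card G) (χ : IrrCharacter G)
    (hχ : Nat.card {C : ConjClasses G // ∃ g ∈ C.carrier, χ.1 g ≠ 0} = 2)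
    (p : ℕ) [hp : Fact p.Prime] (N : Subgroup G) [N.Normal] (hN : ∀ g : G, g ∈ N ↔ χ.1 g ≠ 0)
    (hNp : IsPGroup p N) (hN1 : N ≠ ⊥) (P : Sylow p G) :
    (Subgroup.center ↥(P : Subgroup G)).map (P : Subgroup G).subtype ≤ N := by
  rintro _ ⟨z, hz, rfl⟩
  by_contra hzN
  have h := gagola_cent_sylow hG χ hχ p N hN hNp P z hzN
  have h1 : Subgroup.centralizer ({z} : Set ↥(P : Subgroup G)) = ⊤ := by
    rw [Subgroup.centralizer_eq_top_iff_subset]
    intro w hw
    rw [Set.mem_singleton_iff] at hw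
    rw [hw]
    exact hz
  rw [h1, Subgroup.card_top] at h
  have h2 : Nat.card N ∣ 1 := by
    apply Nat.dvd_of_mul_dvd_mul_left (Nat.card_pos (α := (P : Subgroup G)))
    rw [mul_one]
    exact h
  exact hN1 (Subgroup.eq_bot_of_card_eq N (Nat.dvd_one.mp h2))

theorem gagola_center_eq_iff [Finite G] (hG : 2 < Nat.card G) (χ : IrrCharacter G)
    (hχ : Nat.card {C : ConjClasses G // ∃ g ∈ C.carrier, χ.1 g ≠ 0} = 2)
    (p : ℕ) [hp : Fact p.Prime] (N : Subgroup G) [hNn : N.Normal]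
    (hN : ∀ g : G, g ∈ N ↔ χ.1 g ≠ 0)
    (hNp : IsPGroup p N) (hN1 : N ≠ ⊥) (P : Sylow p G) :
    (Subgroup.center ↥(P : Subgroup G)).map (P : Subgroup G).subtype = N ↔
      (P : Subgroup G).Normal := by
  have hle := gagola_center_le hG χ hχ p N hN hNp hN1 P
  have hNP : N ≤ (P : Subgroup G) := hNp.le_sylow_of_normal P
  constructor
  · intro hZ
    have hC : ∀ y ∈ N, y ≠ 1 → Subgroup.centralizer ({y} : Set G) = P := by
      intro y hyN hy1
      obtain ⟨hCp, -, -⟩ := gagola_centralizer hG χ hχ p N hN hNp hN1 y hyN hy1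
      apply P.is_maximal' hCp
      intro q hq
      rw [Subgroup.mem_centralizer_iff]
      intro h hh
      rw [Set.mem_singleton_iff] at hh
      rw [hh]
      rw [← hZ] at hyN
      obtain ⟨z, hz, rfl⟩ := hyN
      have h2 := (Subgroup.mem_center_iff.mp hz) ⟨q, hq⟩
      exact (congrArg Subtype.val h2).symm
    obtain ⟨x, hxN, hx1⟩ : ∃ x ∈ N, x ≠ 1 := by
      by_contra hcon
      push Not at hcon
      exact hN1 ((Subgroup.eq_bot_iff_forall N).mpr hcon)
    constructor
    intro q hq g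
    rw [← hC x hxN hx1, Subgroup.mem_centralizer_iff]
    intro h hh
    rw [Set.mem_singleton_iff] at hh
    rw [hh]
    have hy : g⁻¹ * x * g ∈ N := by
      have := hNn.conj_mem x hxN g⁻¹
      rwa [inv_inv] at this
    have hy1 : g⁻¹ * x * g ≠ 1 := by
      intro h1
      apply hx1
      have : x = g * (g⁻¹ * x * g) * g⁻¹ := by group
      rw [this, h1]
      group
    have hq' : q ∈ Subgroup.centralizer ({g⁻¹ * x * g} : Set G) := by
      rw [hC _ hy hy1]
      exact hq
    have h3 := (Subgroup.mem_centralizer_iff.mp hq') _ (Set.mem_singleton _)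
    calc x * (g * q * g⁻¹) = g * (g⁻¹ * x * g * q) * g⁻¹ := by group
      _ = g * (q * (g⁻¹ * x * g)) * g⁻¹ := by rw [h3]
      _ = g * q * g⁻¹ * x := by group
  · intro hPn
    apply le_antisymm hle
    intro y hyN
    by_cases hy1 : y = 1
    · rw [hy1]
      exact one_mem _
    · obtain ⟨hCp, hCidx, -⟩ := gagola_centralizer hG χ hχ p N hN hNp hN1 y hyN hy1
      have := Sylow.unique_of_normal P hPn
      have h1 : hCp.toSylow hCidx = P := Subsingleton.elim _ _
      have h2 : Subgroup.centralizer ({y} : Set G) = P := by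
        rw [← IsPGroup.toSylow_coe hCp hCidx, h1]
      refine ⟨⟨y, hNP hyN⟩, ?_, rfl⟩
      show (⟨y, hNP hyN⟩ : ↥(P : Subgroup G)) ∈ Subgroup.center ↥(P : Subgroup G)
      rw [Subgroup.mem_center_iff]
      intro q
      have hq : (q : G) ∈ Subgroup.centralizer ({y} : Set G) := by
        rw [h2]
        exact q.2
      have h3 := (Subgroup.mem_centralizer_iff.mp hq) y (Set.mem_singleton y)
      exact Subtype.ext h3.symm

theorem gagola_ucs_step [Finite G] (hG : 2 < Nat.card G) (χ : IrrCharacter G)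
    (hχ : Nat.card {C : ConjClasses G // ∃ g ∈ C.carrier, χ.1 g ≠ 0} = 2)
    (p : ℕ) [hp : Fact p.Prime] (N : Subgroup G) [hNn : N.Normal]
    (hN : ∀ g : G, g ∈ N ↔ χ.1 g ≠ 0)
    (hNp : IsPGroup p N) (P : Sylow p G) (i : ℕ)
    (hle : Subgroup.upperCentralSeries ↥(P : Subgroup G) i ≤ N.subgroupOf (P : Subgroup G))
    (hne : Subgroup.upperCentralSeries ↥(P : Subgroup G) i ≠ N.subgroupOf (P : Subgroup G)) :
    Subgroup.upperCentralSeries ↥(P : Subgroup G) (i + 1) ≤ N.subgroupOf (P : Subgroup G) := by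
  classical
  have hNP : N ≤ (P : Subgroup G) := hNp.le_sylow_of_normal P
  intro x hx
  by_contra hxN
  rw [Subgroup.mem_subgroupOf] at hxN
  have h1 := gagola_cent_sylow hG χ hχ p N hN hNp P x hxN
  have := Fintype.ofFinite ↥(P : Subgroup G)
  have h2 : Nat.card {y : ↥(P : Subgroup G) // IsConj x y}
      = (Subgroup.centralizer ({x} : Set ↥(P : Subgroup G))).index := by
    rw [← Cfsg.Agent.Lib.helper23.card_isConj_eq_index x, Nat.card_eq_fintype_card,
      Fintype.card_subtype]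
  have hmem : ∀ y : {y : ↥(P : Subgroup G) // IsConj x y},
      y.1 * x⁻¹ ∈ Subgroup.upperCentralSeries ↥(P : Subgroup G) i := by
    intro y
    obtain ⟨c, hc⟩ := isConj_iff.mp y.2
    have h3 := Subgroup.inv_mem _ (Subgroup.mem_upperCentralSeries_succ_iff.mp hx c)
    have h4 : ⁅x, c⁆⁻¹ = y.1 * x⁻¹ := by
      rw [← hc, commutatorElement_def]
      group
    rwa [h4] at h3
  have h3 : Nat.card {y : ↥(P : Subgroup G) // IsConj x y}
      ≤ Nat.card (Subgroup.upperCentralSeries ↥(P : Subgroup G) i) := by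
    apply Nat.card_le_card_of_injective (fun y => (⟨y.1 * x⁻¹, hmem y⟩ :
      Subgroup.upperCentralSeries ↥(P : Subgroup G) i))
    intro a b hab
    have h4 : a.1 * x⁻¹ = b.1 * x⁻¹ := congrArg Subtype.val hab
    exact Subtype.ext (mul_right_cancel h4)
  have h4 := Subgroup.card_mul_index (Subgroup.centralizer ({x} : Set ↥(P : Subgroup G)))
  have hCpos : 0 < Nat.card (Subgroup.centralizer ({x} : Set ↥(P : Subgroup G))) := Nat.card_pos
  have h5 : Nat.card (Subgroup.centralizer ({x} : Set ↥(P : Subgroup G))) * Nat.card N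
      ≤ Nat.card (Subgroup.centralizer ({x} : Set ↥(P : Subgroup G)))
        * Nat.card (Subgroup.upperCentralSeries ↥(P : Subgroup G) i) := by
    calc _ ≤ Nat.card (P : Subgroup G) := Nat.le_of_dvd Nat.card_pos h1
      _ = _ := h4.symm
      _ ≤ _ := Nat.mul_le_mul_left _ (h2 ▸ h3)
  have h6 : Nat.card N ≤ Nat.card (Subgroup.upperCentralSeries ↥(P : Subgroup G) i) :=
    Nat.le_of_mul_le_mul_left h5 hCpos
  have h7 : Nat.card (N.subgroupOf (P : Subgroup G)) = Nat.card N :=
    Nat.card_congr (Subgroup.subgroupOfEquivOfLe hNP).toEquiv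
  exact hne (Subgroup.eq_of_le_of_card_ge hle (h7 ▸ h6))

theorem gagola_ucs [Finite G] (hG : 2 < Nat.card G) (χ : IrrCharacter G)
    (hχ : Nat.card {C : ConjClasses G // ∃ g ∈ C.carrier, χ.1 g ≠ 0} = 2)
    (p : ℕ) [hp : Fact p.Prime] (N : Subgroup G) [hNn : N.Normal]
    (hN : ∀ g : G, g ∈ N ↔ χ.1 g ≠ 0)
    (hNp : IsPGroup p N) (hN1 : N ≠ ⊥) (P : Sylow p G) :
    ∃ i : ℕ, Subgroup.upperCentralSeries ↥(P : Subgroup G) i = N.subgroupOf (P : Subgroup G) := by
  classical
  have hNP : N ≤ (P : Subgroup G) := hNp.le_sylow_of_normal P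
  have : Group.IsNilpotent ↥(P : Subgroup G) := P.isPGroup'.isNilpotent
  obtain ⟨c, hc⟩ := Group.IsNilpotent.nilpotent ↥(P : Subgroup G)
  have hex : ∃ i, ¬ (Subgroup.upperCentralSeries ↥(P : Subgroup G) i
      < N.subgroupOf (P : Subgroup G)) := ⟨c, by rw [hc]; exact not_top_lt⟩
  have hspec := Nat.find_spec hex
  have hmin := fun m => Nat.find_min hex (m := m)
  rcases Nat.eq_zero_or_eq_succ_pred (Nat.find hex) with h0 | h0
  · exfalso
    rw [h0, Subgroup.upperCentralSeries_zero, bot_lt_iff_ne_bot] at hspec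
    apply hspec
    intro hbot
    apply hN1
    rw [Subgroup.eq_bot_iff_forall]
    intro x hx
    have h1 : (⟨x, hNP hx⟩ : ↥(P : Subgroup G)) ∈ N.subgroupOf (P : Subgroup G) :=
      Subgroup.mem_subgroupOf.mpr hx
    rw [hbot, Subgroup.mem_bot] at h1
    exact congrArg Subtype.val h1
  · have h1 := hmin (Nat.find hex - 1) (by omega)
    rw [not_not] at h1
    have h2 := gagola_ucs_step hG χ hχ p N hN hNp P _ h1.le h1.ne
    have h3 : Nat.find hex - 1 + 1 = Nat.find hex := by omega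
    rw [h3] at h2
    exact ⟨Nat.find hex, eq_of_le_of_not_lt h2 hspec⟩

end Cfsg.Agent.Lib.helper22
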