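import Cfsg.Agent.Lib.helper22.Gagola3
import Cfsg.Agent.Lib.helper24.FrobGroup
import Cfsg.Agent.Lib.helper20.BaerSuzuki

set_option autoImplicit false

namespace Cfsg.Agent.Lib.helper22

open Cfsg Cfsg.Agent.Lib.helper24
open scoped ComplexConjugate

universe u

variable {G : Type u} [Group G]

theorem gagola_conj_coset [Finite G] (hG : 2 < Nat.card G) (χ : IrrCharacter G)
    (hχ : Nat.card {C : ConjClasses G // ∃ g ∈ C.carrier, χ.1 g ≠ 0} = 2)
    (N : Subgroup G) [N.Normal] (hN : ∀ g : G, g ∈ N ↔ χ.1 g ≠ 0) (x : G) (hx : x ∉ N)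
    (n : G) (hn : n ∈ N) : IsConj x (x * n) := by
  classical
  have := Fintype.ofFinite G
  have := Fintype.ofFinite (IrrCharacter G)
  obtain ⟨g, hg1, hg0, hsupp, hker, hconj, hgne⟩ := gagola_core hG χ hχ
  have hNg : ∀ ψ : IrrCharacter G, ψ ≠ χ → ∀ n ∈ N, ψ.1 n = ψ.1 1 := by
    intro ψ hψ n hn
    rcases hsupp n ((hN n).mp hn) with h | h
    · rw [h]
    · obtain ⟨c, hc⟩ := isConj_iff.mp h
      rw [← hker ψ hψ, ← hc, isClassFunction_irr ψ n c]
  have hxn : x * n ∉ N := by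
    intro h
    apply hx
    have h2 := N.mul_mem h (N.inv_mem hn)
    rwa [mul_inv_cancel_right] at h2
  have hval : ∀ ψ : IrrCharacter G, ψ.1 (x * n) = ψ.1 x := by
    intro ψ
    by_cases hψ : ψ = χ
    · rw [hψ]
      have h1 : χ.1 x = 0 := by
        by_contra h
        exact hx ((hN x).mpr h)
      have h2 : χ.1 (x * n) = 0 := by
        by_contra h
        exact hxn ((hN _).mpr h)
      rw [h1, h2]
    · obtain ⟨φ, rfl⟩ := (irrInfl_range N ψ).mpr (hNg ψ hψ)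
      rw [irrInfl_apply, irrInfl_apply]
      have hq : ((x * n : G) : G ⧸ N) = (x : G ⧸ N) := by
        symm
        apply QuotientGroup.eq.mpr
        rw [inv_mul_cancel_left]
        exact hn
      rw [hq]
  by_contra hc
  have h1 := second_orth_of_not_isConj hc
  have h2 := second_orth_of_isConj (IsConj.refl x)
  rw [Finset.sum_congr rfl (fun ψ _ => by rw [hval ψ])] at h1
  rw [h1] at h2
  have h3 : (Nat.card (Subgroup.centralizer ({x} : Set G)) : ℂ) ≠ 0 := by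
    exact_mod_cast (Nat.card_pos (α := Subgroup.centralizer ({x} : Set G))).ne'
  exact h3 h2.symm

theorem gagola_card_dvd_degree [Finite G] (χ : IrrCharacter G) (N : Subgroup G)
    (hN : ∀ g : G, g ∈ N ↔ χ.1 g ≠ 0) (H : Subgroup G) (hH : ∀ h ∈ H, h ∈ N → h = 1) :
    Nat.card H ∣ charDegree χ.1 := by
  classical
  have := Fintype.ofFinite G
  have := Fintype.ofFinite H
  obtain ⟨k, hk⟩ := isCharacter_inner_irr_nat (isCharacter_restrict H (isCharacter_irr χ))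
    (trivIrr H)
  have hsum : ∑ h : H, χ.1 h * conj ((trivIrr H).1 h) = χ.1 1 := by
    rw [Finset.sum_eq_single (1 : H)]
    · rw [trivIrr_apply, map_one, mul_one]
      rfl
    · intro h _ hh1
      have h0 : χ.1 (h : G) = 0 := by
        by_contra h0
        exact hh1 (Subtype.ext (hH h h.2 ((hN _).mpr h0)))
      rw [h0, zero_mul]
    · intro h
      exact absurd (Finset.mem_univ _) h
  unfold classInner at hk
  rw [hsum] at hk
  have hHpos : (Nat.card H : ℂ) ≠ 0 := by exact_mod_cast (Nat.card_pos (α := H)).ne'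
  have h1 : χ.1 1 = (k : ℂ) * (Nat.card H : ℂ) := by
    rw [← hk]
    field_simp
  refine ⟨k, ?_⟩
  have h2 : ((charDegree χ.1 : ℕ) : ℂ) = ((Nat.card H * k : ℕ) : ℂ) := by
    rw [charDegree_cast χ, h1]
    push_cast
    ring
  exact_mod_cast h2

theorem gagola_exists_ne_one (N : Subgroup G) (hN1 : N ≠ ⊥) : ∃ x ∈ N, x ≠ 1 := by
  by_contra hcon
  push Not at hcon
  exact hN1 ((Subgroup.eq_bot_iff_forall N).mpr hcon)

theorem gagola_centralizer_le_pCore [Finite G] (hG : 2 < Nat.card G) (χ : IrrCharacter G)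
    (hχ : Nat.card {C : ConjClasses G // ∃ g ∈ C.carrier, χ.1 g ≠ 0} = 2)
    (p : ℕ) [hp : Fact p.Prime] (N : Subgroup G) [hNn : N.Normal]
    (hN : ∀ g : G, g ∈ N ↔ χ.1 g ≠ 0) (hNp : IsPGroup p N) (hN1 : N ≠ ⊥) :
    Subgroup.centralizer (N : Set G) ≤ Cfsg.pCore p G := by
  obtain ⟨x, hxN, hx1⟩ := gagola_exists_ne_one N hN1
  obtain ⟨hCp, -, -⟩ := gagola_centralizer hG χ hχ p N hN hNp hN1 x hxN hx1
  have hle : Subgroup.centralizer (N : Set G) ≤ Subgroup.centralizer ({x} : Set G) :=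
    Subgroup.centralizer_le (Set.singleton_subset_iff.mpr hxN)
  exact le_sSup ⟨Subgroup.normal_centralizer, hCp.to_le hle⟩

theorem gagola_orders [Finite G] (hG : 2 < Nat.card G) (χ : IrrCharacter G)
    (hχ : Nat.card {C : ConjClasses G // ∃ g ∈ C.carrier, χ.1 g ≠ 0} = 2)
    (N : Subgroup G)
    (hN : ∀ g : G, g ∈ N ↔ χ.1 g ≠ 0)
    (x : G) (hxN : x ∈ N) (hx1 : x ≠ 1) :
    Nat.card (Subgroup.centralizer ({x} : Set G)) * (Nat.card N - 1) = Nat.card G ∧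
      charDegree χ.1 ^ 2 * Nat.card N
        = Nat.card (Subgroup.centralizer ({x} : Set G)) * (Nat.card N - 1) ^ 2 := by
  classical
  have := Fintype.ofFinite G
  have hx0 : χ.1 x ≠ 0 := (hN x).mp hxN
  obtain ⟨-, hord⟩ := gagola_key hG χ hχ x hx1 hx0
  have hc := gagola_class_card hG χ hχ N hN x hxN hx1
  have hidx : Nat.card {y : G // IsConj x y} = (Subgroup.centralizer ({x} : Set G)).index := by
    rw [← Cfsg.Agent.Lib.helper23.card_isConj_eq_index x, Nat.card_eq_fintype_card,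
      Fintype.card_subtype]
  have hCI := Subgroup.card_mul_index (Subgroup.centralizer ({x} : Set G))
  have hi : (Subgroup.centralizer ({x} : Set G)).index = Nat.card N - 1 := by omega
  rw [hi] at hCI
  refine ⟨hCI, ?_⟩
  rw [hc, hidx, hi, ← hCI] at hord
  rw [← hord]
  ring

theorem gagola_psub_bound [Finite G] (hG : 2 < Nat.card G) (χ : IrrCharacter G)
    (hχ : Nat.card {C : ConjClasses G // ∃ g ∈ C.carrier, χ.1 g ≠ 0} = 2)
    (p : ℕ) [hp : Fact p.Prime] (N : Subgroup G)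
    (hN : ∀ g : G, g ∈ N ↔ χ.1 g ≠ 0) (hNp : IsPGroup p N) (hN1 : N ≠ ⊥)
    (x : G) (hxN : x ∈ N) (hx1 : x ≠ 1) (H : Subgroup G) (hHp : IsPGroup p H)
    (hH : ∀ h ∈ H, h ∈ N → h = 1) :
    Nat.card H ^ 2 * Nat.card N ∣ Nat.card (Subgroup.centralizer ({x} : Set G)) := by
  obtain ⟨-, h2⟩ := gagola_orders hG χ hχ N hN x hxN hx1
  have h3 := gagola_card_dvd_degree χ N hN H hH
  have h4 : Nat.card H ^ 2 * Nat.card N
      ∣ Nat.card (Subgroup.centralizer ({x} : Set G)) * (Nat.card N - 1) ^ 2 := by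
    rw [← h2]
    exact Nat.mul_dvd_mul (pow_dvd_pow_of_dvd h3 2) dvd_rfl
  obtain ⟨a, ha⟩ := IsPGroup.iff_card.mp hHp
  obtain ⟨b, hb⟩ := IsPGroup.iff_card.mp hNp
  have hb0 : b ≠ 0 := by
    rintro rfl
    rw [pow_zero] at hb
    exact hN1 (Subgroup.eq_bot_of_card_eq N hb)
  have hcop : Nat.Coprime (Nat.card H ^ 2 * Nat.card N) ((Nat.card N - 1) ^ 2) := by
    rw [ha, hb, ← pow_mul, ← pow_add]
    apply Nat.Coprime.pow
    rw [Nat.Prime.coprime_iff_not_dvd hp.out]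
    intro hdvd
    have h5 : p ∣ p ^ b := dvd_pow_self p hb0
    have h6 : 1 ≤ p ^ b := Nat.one_le_pow _ _ hp.out.pos
    have h7 : p ∣ 1 := by
      have h8 : p ^ b = (p ^ b - 1) + 1 := by omega
      rw [h8] at h5
      exact (Nat.dvd_add_right hdvd).mp h5
    exact hp.out.one_lt.ne' (Nat.dvd_one.mp h7)
  exact hcop.dvd_of_dvd_mul_right h4

theorem card_le_of_fiber [Finite G] {β : Type*} [Finite β] (C K : Subgroup G) (f : C → β)
    (hf : ∀ c₁ c₂ : C, f c₁ = f c₂ → (c₁ : G)⁻¹ * c₂ ∈ K) :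
    Nat.card C ≤ Nat.card β * Nat.card K := by
  classical
  let g : β → C := fun b => if h : ∃ c, f c = b then h.choose else 1
  have hg : ∀ c : C, f (g (f c)) = f c := by
    intro c
    have h : ∃ c', f c' = f c := ⟨c, rfl⟩
    simp only [g, dif_pos h]
    exact h.choose_spec
  let φ : C → β × K := fun c => (f c, ⟨((g (f c) : C) : G)⁻¹ * c, hf _ _ (hg c)⟩)
  have hφ : Function.Injective φ := by
    intro c c' h
    have h1 : f c = f c' := congrArg Prod.fst h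
    have h2 : ((g (f c) : C) : G)⁻¹ * c = ((g (f c') : C) : G)⁻¹ * c' :=
      congrArg (fun z : β × K => (z.2 : G)) h
    rw [h1] at h2
    exact Subtype.ext (mul_left_cancel h2)
  have h3 := Nat.card_le_card_of_injective φ hφ
  rwa [Nat.card_prod] at h3

theorem gagola_odd [Finite G] (hG : 2 < Nat.card G) (χ : IrrCharacter G)
    (hχ : Nat.card {C : ConjClasses G // ∃ g ∈ C.carrier, χ.1 g ≠ 0} = 2)
    (p : ℕ) [hp : Fact p.Prime] (hp2 : p ≠ 2) (N : Subgroup G) [hNn : N.Normal]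
    (hN : ∀ g : G, g ∈ N ↔ χ.1 g ≠ 0) (hNp : IsPGroup p N) (hN1 : N ≠ ⊥)
    (hcent : Subgroup.centralizer (N : Set G) ≤ N)
    (x : G) (hxN : x ∈ N) (hx1 : x ≠ 1) :
    Nat.card (Subgroup.centralizer ({x} : Set G)) ≤ Nat.card N := by
  obtain ⟨hCp, hCidx, hCc⟩ := gagola_centralizer hG χ hχ p N hN hNp hN1 x hxN hx1
  have hab := gagola_comm hG χ hχ N hN
  obtain ⟨b, hb⟩ := IsPGroup.iff_card.mp hNp
  have hodd : Odd (Nat.card N) := by
    rw [hb]
    exact Odd.pow (hp.out.odd_of_ne_two hp2)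
  have h2G : 2 ∣ Nat.card G := by
    rw [← Subgroup.card_mul_index (Subgroup.centralizer ({x} : Set G))]
    apply Dvd.dvd.mul_left
    rcases hodd with ⟨m, hm⟩
    exact ⟨m, by omega⟩
  have : Fact (Nat.Prime 2) := ⟨Nat.prime_two⟩
  obtain ⟨t, ht⟩ := exists_prime_orderOf_dvd_card' 2 h2G
  have ht2 : t * t = 1 := by
    rw [← sq, ← ht]
    exact pow_orderOf_eq_one t
  have htinv : t⁻¹ = t := inv_eq_of_mul_eq_one_left ht2
  have hfree : ∀ v ∈ N, v ≠ 1 → t ∉ Subgroup.centralizer ({v} : Set G) := by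
    intro v hv hv1 htc
    obtain ⟨hvp, -, -⟩ := gagola_centralizer hG χ hχ p N hN hNp hN1 v hv hv1
    obtain ⟨j, hj⟩ := hvp ⟨t, htc⟩
    have hj' : t ^ p ^ j = 1 := congrArg Subtype.val hj
    have h3 : 2 ∣ p ^ j := by
      rw [← ht]
      exact orderOf_dvd_of_pow_eq_one hj'
    exact hp2 ((Nat.prime_dvd_prime_iff_eq Nat.prime_two hp.out).mp
      (Nat.prime_two.dvd_of_dvd_pow h3)).symm
  have hinv : ∀ n ∈ N, t * n * t⁻¹ = n⁻¹ := by
    intro n hn
    have hn' : t * n * t⁻¹ ∈ N := hNn.conj_mem n hn t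
    by_contra hne
    have hk1 : n * (t * n * t⁻¹) ≠ 1 := by
      intro h
      exact hne (eq_inv_of_mul_eq_one_right h)
    apply hfree _ (N.mul_mem hn hn') hk1
    rw [Subgroup.mem_centralizer_iff]
    intro h hh
    rw [Set.mem_singleton_iff] at hh
    rw [hh]
    have hc := hab n hn _ hn'
    have e1 : n * (t * n * t⁻¹) * t = n * t * n := by group
    have e2 : t * (n * (t * n * t⁻¹)) = n * t * n := by
      rw [hc, htinv]
      calc t * (t * n * t * n) = (t * t) * n * t * n := by group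
        _ = n * t * n := by rw [ht2, one_mul]
    rw [e1, e2]
  have hinv' : ∀ n ∈ N, t * n = n⁻¹ * t := by
    intro n hn
    rw [← hinv n hn]
    group
  have hcomm_mem : ∀ c : G, c * t * c⁻¹ * t⁻¹ ∈ N := by
    intro c
    apply hcent
    rw [Subgroup.mem_centralizer_iff]
    intro n hn
    have hm : c⁻¹ * n * c ∈ N := by
      have h1 := hNn.conj_mem n hn c⁻¹
      rwa [inv_inv] at h1
    have e1 := hinv' n hn
    have e2 := hinv' (c⁻¹ * n * c)⁻¹ (N.inv_mem hm)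
    rw [inv_inv] at e2
    rw [htinv]
    calc n * (c * t * c⁻¹ * t) = c * ((c⁻¹ * n * c) * t) * c⁻¹ * t := by group
      _ = c * (t * (c⁻¹ * n * c)⁻¹) * c⁻¹ * t := by rw [e2]
      _ = c * t * c⁻¹ * (n⁻¹ * t) := by group
      _ = c * t * c⁻¹ * (t * n) := by rw [e1]
      _ = c * t * c⁻¹ * t * n := by group
  have hHN : ∀ h ∈ Subgroup.centralizer ({x} : Set G) ⊓ Subgroup.centralizer ({t} : Set G),
      h ∈ N → h = 1 := by
    intro h hh hhN
    by_contra h1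
    apply hfree h hhN h1
    rw [Subgroup.mem_centralizer_iff]
    intro y hy
    rw [Set.mem_singleton_iff] at hy
    rw [hy]
    exact ((Subgroup.mem_centralizer_iff.mp hh.2) t (Set.mem_singleton t)).symm
  have hHp : IsPGroup p ↥(Subgroup.centralizer ({x} : Set G) ⊓ Subgroup.centralizer ({t} : Set G)) :=
    hCp.to_le inf_le_left
  have hbound := gagola_psub_bound hG χ hχ p N hN hNp hN1 x hxN hx1 _ hHp hHN
  have hfib : Nat.card (Subgroup.centralizer ({x} : Set G)) ≤ Nat.card N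
      * Nat.card ↥(Subgroup.centralizer ({x} : Set G) ⊓ Subgroup.centralizer ({t} : Set G)) := by
    apply card_le_of_fiber (Subgroup.centralizer ({x} : Set G))
      (Subgroup.centralizer ({x} : Set G) ⊓ Subgroup.centralizer ({t} : Set G))
      (fun c => (⟨(c : G) * t * (c : G)⁻¹ * t⁻¹, hcomm_mem c⟩ : N))
    intro c₁ c₂ h
    have h1 : (c₁ : G) * t * (c₁ : G)⁻¹ * t⁻¹ = (c₂ : G) * t * (c₂ : G)⁻¹ * t⁻¹ :=
      congrArg Subtype.val h
    refine Subgroup.mem_inf.mpr ⟨Subgroup.mul_mem _ (Subgroup.inv_mem _ c₁.2) c₂.2, ?_⟩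
    rw [Subgroup.mem_centralizer_iff]
    intro y hy
    rw [Set.mem_singleton_iff] at hy
    rw [hy]
    have h2 : (c₁ : G) * t * (c₁ : G)⁻¹ = (c₂ : G) * t * (c₂ : G)⁻¹ := mul_right_cancel h1
    calc t * ((c₁ : G)⁻¹ * c₂) = (c₁ : G)⁻¹ * ((c₁ : G) * t * (c₁ : G)⁻¹) * c₂ := by group
      _ = (c₁ : G)⁻¹ * ((c₂ : G) * t * (c₂ : G)⁻¹) * c₂ := by rw [h2]
      _ = (c₁ : G)⁻¹ * c₂ * t := by group
  have hHpos : 0 < Nat.card ↥(Subgroup.centralizer ({x} : Set G) ⊓ Subgroup.centralizer ({t} : Set G)) :=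
    Nat.card_pos
  have hNpos : 0 < Nat.card N := Nat.card_pos
  have h5 := (Nat.le_of_dvd Nat.card_pos hbound).trans hfib
  have h6 : Nat.card ↥(Subgroup.centralizer ({x} : Set G) ⊓ Subgroup.centralizer ({t} : Set G)) ≤ 1 := by
    apply Nat.le_of_mul_le_mul_right _ (Nat.mul_pos hNpos hHpos)
    rw [one_mul]
    calc _ = Nat.card ↥(Subgroup.centralizer ({x} : Set G) ⊓ Subgroup.centralizer ({t} : Set G)) ^ 2
          * Nat.card N := by ring
      _ ≤ _ := h5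
  have h7 : Nat.card ↥(Subgroup.centralizer ({x} : Set G) ⊓ Subgroup.centralizer ({t} : Set G)) = 1 := by
    omega
  rw [h7, mul_one] at hfib
  exact hfib

theorem zpowers_isPGroup {Q : Type*} [Group Q] (p : ℕ) (g : Q) (k : ℕ) (h : g ^ p ^ k = 1) :
    IsPGroup p (Subgroup.zpowers g) := by
  rintro ⟨y, hy⟩
  obtain ⟨i, rfl⟩ := Subgroup.mem_zpowers_iff.mp hy
  refine ⟨k, Subtype.ext ?_⟩
  show (g ^ i) ^ p ^ k = 1
  rw [← zpow_natCast, ← zpow_mul, mul_comm, zpow_mul, zpow_natCast, h, one_zpow]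

theorem dihedral_isPGroup {Q : Type*} [Group Q] (a b : Q) (ha : a * a = 1)
    (hb : b * b = 1) (k : ℕ) (hw : (a * b) ^ 2 ^ k = 1) :
    IsPGroup 2 (Subgroup.closure ({a, b} : Set Q)) := by
  have ainv : a⁻¹ = a := inv_eq_of_mul_eq_one_left ha
  have binv : b⁻¹ = b := inv_eq_of_mul_eq_one_left hb
  have hA : IsPGroup 2 (Subgroup.zpowers a) := by
    apply zpowers_isPGroup 2 a 1
    rw [pow_one, sq]
    exact ha
  have hW : IsPGroup 2 (Subgroup.zpowers (a * b)) := zpowers_isPGroup 2 (a * b) k hw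
  have hconj : a * (a * b) * a⁻¹ = (a * b)⁻¹ := by
    rw [mul_inv_rev, binv, ainv]
    calc a * (a * b) * a = (a * a) * b * a := by group
      _ = b * a := by rw [ha, one_mul]
  have hfwd : ∀ h ∈ Subgroup.zpowers (a * b), a * h * a⁻¹ ∈ Subgroup.zpowers (a * b) := by
    intro h hh
    obtain ⟨i, rfl⟩ := Subgroup.mem_zpowers_iff.mp hh
    have e : a * (a * b) ^ i * a⁻¹ = ((a * b)⁻¹) ^ i := by
      rw [← hconj, conj_zpow]
    rw [e]
    exact Subgroup.zpow_mem _ (Subgroup.inv_mem _ (Subgroup.mem_zpowers _)) i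
  have hnorm : Subgroup.zpowers a ≤ Subgroup.normalizer (Subgroup.zpowers (a * b) : Set Q) := by
    rw [Subgroup.zpowers_le, Subgroup.mem_normalizer_iff]
    intro h
    constructor
    · exact hfwd h
    · intro hh
      have h1 := hfwd _ hh
      have e : a * (a * h * a⁻¹) * a⁻¹ = h := by
        rw [ainv]
        calc a * (a * h * a) * a = (a * a) * h * (a * a) := by group
          _ = h := by rw [ha, one_mul, mul_one]
      rwa [e] at h1
  have hsup := IsPGroup.to_sup_of_normal_right' hA hW hnorm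
  apply hsup.to_le
  rw [Subgroup.closure_le]
  intro y hy
  rcases hy with rfl | hy
  · exact (le_sup_left : Subgroup.zpowers y ≤ _) (Subgroup.mem_zpowers y)
  · rw [Set.mem_singleton_iff] at hy
    rw [hy]
    have e : a⁻¹ * (a * b) = b := by group
    have h1 : a⁻¹ * (a * b) ∈ Subgroup.zpowers a ⊔ Subgroup.zpowers (a * b) :=
      Subgroup.mul_mem _
        ((le_sup_left : Subgroup.zpowers a ≤ _) (Subgroup.inv_mem _ (Subgroup.mem_zpowers a)))
        ((le_sup_right : Subgroup.zpowers (a * b) ≤ _) (Subgroup.mem_zpowers (a * b)))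
    rwa [e] at h1

theorem gagola_dihedral [Finite G] (N : Subgroup G) [hNn : N.Normal] (hNp : IsPGroup 2 N)
    (a b : G) (ha : a * a ∈ N) (hb : b * b ∈ N)
    (hnot : ¬ IsPGroup 2 (Subgroup.closure ({a, b} : Set G))) :
    ∃ u : G, u ∉ N ∧ (∃ r : ℕ, Odd r ∧ u ^ r = 1) ∧ a * u * a⁻¹ * u ∈ N := by
  obtain ⟨k, r, hr, hkr⟩ := Nat.exists_eq_two_pow_mul_odd (Nat.card_pos (α := G)).ne'
  have haq : (a : G ⧸ N) * (a : G ⧸ N) = 1 := by
    rw [← QuotientGroup.mk_mul]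
    exact (QuotientGroup.eq_one_iff _).mpr ha
  have hbq : (b : G ⧸ N) * (b : G ⧸ N) = 1 := by
    rw [← QuotientGroup.mk_mul]
    exact (QuotientGroup.eq_one_iff _).mpr hb
  refine ⟨(a * b) ^ 2 ^ k, ?_, ⟨r, hr, ?_⟩, ?_⟩
  · intro hu
    apply hnot
    have hq : IsPGroup 2 (Subgroup.closure ({(a : G ⧸ N), (b : G ⧸ N)} : Set (G ⧸ N))) := by
      apply dihedral_isPGroup _ _ haq hbq k
      rw [← QuotientGroup.mk_mul, ← QuotientGroup.mk_pow]
      exact (QuotientGroup.eq_one_iff _).mpr hu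
    have hcomap := hq.comap_of_ker_isPGroup (QuotientGroup.mk' N)
      (by rw [QuotientGroup.ker_mk']; exact hNp)
    apply hcomap.to_le
    rw [Subgroup.closure_le]
    intro y hy
    rw [SetLike.mem_coe, Subgroup.mem_comap]
    apply Subgroup.subset_closure
    rcases hy with rfl | hy
    · left
      rfl
    · right
      rw [Set.mem_singleton_iff] at hy
      rw [hy]
      rfl
  · rw [← pow_mul, ← hkr]
    exact pow_card_eq_one'
  · rw [← QuotientGroup.eq_one_iff]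
    have ainv : (a : G ⧸ N)⁻¹ = (a : G ⧸ N) := inv_eq_of_mul_eq_one_left haq
    have binv : (b : G ⧸ N)⁻¹ = (b : G ⧸ N) := inv_eq_of_mul_eq_one_left hbq
    have hconj : (a : G ⧸ N) * ((a : G ⧸ N) * (b : G ⧸ N)) * (a : G ⧸ N)⁻¹
        = ((a : G ⧸ N) * (b : G ⧸ N))⁻¹ := by
      rw [mul_inv_rev, binv, ainv]
      calc (a : G ⧸ N) * ((a : G ⧸ N) * (b : G ⧸ N)) * (a : G ⧸ N)
          = ((a : G ⧸ N) * (a : G ⧸ N)) * (b : G ⧸ N) * (a : G ⧸ N) := by group
        _ = (b : G ⧸ N) * (a : G ⧸ N) := by rw [haq, one_mul]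
    have e : (a : G ⧸ N) * ((a : G ⧸ N) * (b : G ⧸ N)) ^ 2 ^ k * (a : G ⧸ N)⁻¹
        = (((a : G ⧸ N) * (b : G ⧸ N)) ^ 2 ^ k)⁻¹ := by
      rw [← inv_pow, ← hconj, conj_pow]
    rw [QuotientGroup.mk_mul, QuotientGroup.mk_mul, QuotientGroup.mk_mul, QuotientGroup.mk_inv,
      QuotientGroup.mk_pow, QuotientGroup.mk_mul, e, inv_mul_cancel]

theorem gagola_invert_lift [Finite G] (hG : 2 < Nat.card G) (χ : IrrCharacter G)
    (hχ : Nat.card {C : ConjClasses G // ∃ g ∈ C.carrier, χ.1 g ≠ 0} = 2)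
    (p : ℕ) [hp : Fact p.Prime] (N : Subgroup G) [hNn : N.Normal]
    (hN : ∀ g : G, g ∈ N ↔ χ.1 g ≠ 0) (hNp : IsPGroup p N) (hN1 : N ≠ ⊥)
    (a u : G) (hu : u ≠ 1) (r : ℕ) (hr : r.Coprime p) (hur : u ^ r = 1) (ha : a * a ∈ N)
    (hau : a * u * a⁻¹ * u ∈ N) :
    ∃ n ∈ N, (n * a) * (n * a) = 1 := by
  have hfree : ∀ k ∈ N, u * k * u⁻¹ = k → k = 1 := by
    intro k hk hku
    by_contra hk1
    obtain ⟨hCp, -, -⟩ := gagola_centralizer hG χ hχ p N hN hNp hN1 k hk hk1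
    have hmem : u ∈ Subgroup.centralizer ({k} : Set G) := by
      rw [Subgroup.mem_centralizer_iff]
      intro y hy
      rw [Set.mem_singleton_iff] at hy
      rw [hy]
      calc k * u = (u * k * u⁻¹) * u := by rw [hku]
        _ = u * k := by group
    obtain ⟨j, hj⟩ := hCp ⟨u, hmem⟩
    have hj' : u ^ p ^ j = 1 := congrArg Subtype.val hj
    have h1 : orderOf u ∣ r := orderOf_dvd_of_pow_eq_one hur
    have h2 : orderOf u ∣ p ^ j := orderOf_dvd_of_pow_eq_one hj'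
    have h3 : orderOf u = 1 :=
      Nat.Coprime.eq_one_of_dvd (Nat.Coprime.coprime_dvd_left h1 (Nat.Coprime.pow_right j hr)) h2
    exact hu (orderOf_eq_one_iff.mp h3)
  have hφmem : ∀ n : N, u * (n : G)⁻¹ * u⁻¹ * n ∈ N := by
    intro n
    exact N.mul_mem (hNn.conj_mem _ (N.inv_mem n.2) u) n.2
  have hinj : Function.Injective (fun n : N => (⟨u * (n : G)⁻¹ * u⁻¹ * n, hφmem n⟩ : N)) := by
    intro n₁ n₂ h
    have h1 : u * (n₁ : G)⁻¹ * u⁻¹ * n₁ = u * (n₂ : G)⁻¹ * u⁻¹ * n₂ := congrArg Subtype.val h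
    have h2 : u * ((n₂ : G) * (n₁ : G)⁻¹) * u⁻¹ = (n₂ : G) * (n₁ : G)⁻¹ := by
      calc u * ((n₂ : G) * (n₁ : G)⁻¹) * u⁻¹
          = u * n₂ * u⁻¹ * (u * (n₁ : G)⁻¹ * u⁻¹ * n₁) * (n₁ : G)⁻¹ := by group
        _ = u * n₂ * u⁻¹ * (u * (n₂ : G)⁻¹ * u⁻¹ * n₂) * (n₁ : G)⁻¹ := by rw [h1]
        _ = (n₂ : G) * (n₁ : G)⁻¹ := by group
    have h3 := hfree _ (N.mul_mem n₂.2 (N.inv_mem n₁.2)) h2
    exact Subtype.ext (eq_of_mul_inv_eq_one h3).symm
  have hsurj := Finite.injective_iff_surjective.mp hinj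
  have hn₀ : u * (a * u * a⁻¹) ∈ N := by
    have h1 := hNn.conj_mem _ hau u
    have e : u * (a * u * a⁻¹ * u) * u⁻¹ = u * (a * u * a⁻¹) := by group
    rwa [e] at h1
  obtain ⟨n₁, hn₁⟩ := hsurj ⟨u * (a * u * a⁻¹), hn₀⟩
  have hn₁' : u * (n₁ : G)⁻¹ * u⁻¹ * n₁ = u * (a * u * a⁻¹) := congrArg Subtype.val hn₁
  have e : (n₁ : G)⁻¹ * u⁻¹ * n₁ = a * u * a⁻¹ := by
    apply mul_left_cancel (a := u)
    rw [← hn₁']
    group
  have hconj : ((n₁ : G) * a) * u * ((n₁ : G) * a)⁻¹ = u⁻¹ := by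
    calc ((n₁ : G) * a) * u * ((n₁ : G) * a)⁻¹ = n₁ * (a * u * a⁻¹) * (n₁ : G)⁻¹ := by group
      _ = n₁ * ((n₁ : G)⁻¹ * u⁻¹ * n₁) * (n₁ : G)⁻¹ := by rw [e]
      _ = u⁻¹ := by group
  refine ⟨n₁, n₁.2, ?_⟩
  have hsN : ((n₁ : G) * a) * ((n₁ : G) * a) ∈ N := by
    have e2 : ((n₁ : G) * a) * ((n₁ : G) * a) = n₁ * (a * n₁ * a⁻¹) * (a * a) := by group
    rw [e2]
    exact N.mul_mem (N.mul_mem n₁.2 (hNn.conj_mem _ n₁.2 a)) ha
  apply hfree _ hsN
  have h1 : ((n₁ : G) * a) * u = u⁻¹ * ((n₁ : G) * a) := by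
    rw [← hconj]
    group
  have h2 : ((n₁ : G) * a) * u⁻¹ = u * ((n₁ : G) * a) := by
    calc ((n₁ : G) * a) * u⁻¹ = u * (u⁻¹ * ((n₁ : G) * a)) * u⁻¹ := by group
      _ = u * (((n₁ : G) * a) * u) * u⁻¹ := by rw [h1]
      _ = u * ((n₁ : G) * a) := by group
  calc u * (((n₁ : G) * a) * ((n₁ : G) * a)) * u⁻¹
      = (u * ((n₁ : G) * a)) * (((n₁ : G) * a) * u⁻¹) := by group
    _ = (((n₁ : G) * a) * u⁻¹) * (u * ((n₁ : G) * a)) := by rw [h2]
    _ = ((n₁ : G) * a) * ((n₁ : G) * a) := by group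

theorem gagola_exponent [Finite G] (hG : 2 < Nat.card G) (χ : IrrCharacter G)
    (hχ : Nat.card {C : ConjClasses G // ∃ g ∈ C.carrier, χ.1 g ≠ 0} = 2)
    (p : ℕ) [hp : Fact p.Prime] (N : Subgroup G)
    (hN : ∀ g : G, g ∈ N ↔ χ.1 g ≠ 0) (hNp : IsPGroup p N) (hN1 : N ≠ ⊥) :
    ∀ a ∈ N, a ^ p = 1 := by
  obtain ⟨-, -, hsupp, -, -⟩ := gagola_structure hG χ hχ
  obtain ⟨q, hq, -, hexp⟩ := gagola_elementary hG χ hχ
  have hNK : ∀ a : G, a ∈ N ↔ a ∈ gagolaKer χ := fun a => (hN a).trans (hsupp a)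
  obtain ⟨x, hxN, hx1⟩ := gagola_exists_ne_one N hN1
  have hxq : x ^ q = 1 := hexp x ((hNK x).mp hxN)
  obtain ⟨j, hj⟩ := hNp ⟨x, hxN⟩
  have hj' : x ^ p ^ j = 1 := congrArg Subtype.val hj
  have h1 : orderOf x = q := by
    rcases (Nat.dvd_prime hq).mp (orderOf_dvd_of_pow_eq_one hxq) with h | h
    · exact absurd (orderOf_eq_one_iff.mp h) hx1
    · exact h
  have h2 : q ∣ p ^ j := by
    rw [← h1]
    exact orderOf_dvd_of_pow_eq_one hj'
  have h3 : q = p := (Nat.prime_dvd_prime_iff_eq hq hp.out).mp (hq.dvd_of_dvd_pow h2)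
  intro a ha
  rw [← h3]
  exact hexp a ((hNK a).mp ha)

theorem gagola_two [Finite G] (hG : 2 < Nat.card G) (χ : IrrCharacter G)
    (hχ : Nat.card {C : ConjClasses G // ∃ g ∈ C.carrier, χ.1 g ≠ 0} = 2)
    (N : Subgroup G) [hNn : N.Normal]
    (hN : ∀ g : G, g ∈ N ↔ χ.1 g ≠ 0) (hNp : IsPGroup 2 N) (hN1 : N ≠ ⊥)
    (hcore : Cfsg.pCore 2 G ≤ N) (x : G) (hxN : x ∈ N) (hx1 : x ≠ 1) :
    Subgroup.centralizer ({x} : Set G) ≤ N := by
  classical
  have hp2 : Fact (Nat.Prime 2) := ⟨Nat.prime_two⟩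
  obtain ⟨hCp, -, -⟩ := gagola_centralizer hG χ hχ 2 N hN hNp hN1 x hxN hx1
  intro c hc
  by_contra hcN
  obtain ⟨j, hj⟩ := hCp ⟨c, hc⟩
  have hj' : c ^ 2 ^ j = 1 := congrArg Subtype.val hj
  have hex : ∃ i, c ^ 2 ^ i ∈ N := ⟨j, by rw [hj']; exact N.one_mem⟩
  have hi : c ^ 2 ^ (Nat.find hex) ∈ N := Nat.find_spec hex
  have hi0 : Nat.find hex ≠ 0 := by
    intro h0
    rw [h0, pow_zero, pow_one] at hi
    exact hcN hi
  obtain ⟨i', hi'⟩ := Nat.exists_eq_succ_of_ne_zero hi0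
  have hyN : c ^ 2 ^ i' ∉ N := Nat.find_min hex (by omega)
  have hyy : c ^ 2 ^ i' * c ^ 2 ^ i' ∈ N := by
    have e : c ^ 2 ^ i' * c ^ 2 ^ i' = c ^ 2 ^ (Nat.find hex) := by
      rw [← pow_add, hi', Nat.succ_eq_add_one, pow_succ, mul_two]
    rw [e]
    exact hi
  generalize c ^ 2 ^ i' = y at hyN hyy
  have hBS : ∃ a b : G, (∃ g : G, a = g * y * g⁻¹) ∧ (∃ g : G, b = g * y * g⁻¹) ∧
      ¬ IsPGroup 2 (Subgroup.closure ({a, b} : Set G)) := by
    by_contra hcon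
    push Not at hcon
    have hKn : ∀ g : G, ∀ a ∈ {a : G | ∃ g : G, a = g * y * g⁻¹}, g * a * g⁻¹ ∈
        {a : G | ∃ g : G, a = g * y * g⁻¹} := by
      rintro g _ ⟨h, rfl⟩
      exact ⟨g * h, by group⟩
    have hKP : ∀ P : Sylow 2 G, {a : G | ∃ g : G, a = g * y * g⁻¹} ⊆ (P : Set G) := fun P =>
      Cfsg.Agent.Lib.helper20.baer_suzuki_set _ hKn (fun a ha b hb => hcon a b ha hb) P
    have hMp : IsPGroup 2 (Subgroup.normalClosure ({y} : Set G)) := by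
      apply (default : Sylow 2 G).isPGroup'.to_le
      unfold Subgroup.normalClosure
      rw [Subgroup.closure_le]
      intro a ha
      rw [Group.mem_conjugatesOfSet_iff] at ha
      obtain ⟨b, hb, hba⟩ := ha
      rw [Set.mem_singleton_iff] at hb
      obtain ⟨g, hg⟩ := isConj_iff.mp hba
      apply hKP default
      exact ⟨g, by rw [← hg, hb]⟩
    have hle : Subgroup.normalClosure ({y} : Set G) ≤ Cfsg.pCore 2 G :=
      le_sSup ⟨Subgroup.normalClosure_normal, hMp⟩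
    exact hyN (hcore (hle (Subgroup.subset_normalClosure (Set.mem_singleton y))))
  obtain ⟨a, b, ⟨g₁, rfl⟩, ⟨g₂, rfl⟩, hnot⟩ := hBS
  have haN : g₁ * y * g₁⁻¹ ∉ N := by
    intro h
    apply hyN
    have h1 := hNn.conj_mem _ h g₁⁻¹
    have e : g₁⁻¹ * (g₁ * y * g₁⁻¹) * g₁⁻¹⁻¹ = y := by group
    rwa [e] at h1
  have haa : (g₁ * y * g₁⁻¹) * (g₁ * y * g₁⁻¹) ∈ N := by
    have e : (g₁ * y * g₁⁻¹) * (g₁ * y * g₁⁻¹) = g₁ * (y * y) * g₁⁻¹ := by group
    rw [e]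
    exact hNn.conj_mem _ hyy g₁
  have hbb : (g₂ * y * g₂⁻¹) * (g₂ * y * g₂⁻¹) ∈ N := by
    have e : (g₂ * y * g₂⁻¹) * (g₂ * y * g₂⁻¹) = g₂ * (y * y) * g₂⁻¹ := by group
    rw [e]
    exact hNn.conj_mem _ hyy g₂
  obtain ⟨u, huN, ⟨r, hr, hur⟩, hau⟩ := gagola_dihedral N hNp _ _ haa hbb hnot
  have hu1 : u ≠ 1 := by
    rintro rfl
    exact huN N.one_mem
  obtain ⟨n, hn, hna⟩ := gagola_invert_lift hG χ hχ 2 N hN hNp hN1 _ u hu1 r
    hr.coprime_two_right hur haa hau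
  have hexp := gagola_exponent hG χ hχ 2 N hN hNp hN1
  have ha'N : n * (g₁ * y * g₁⁻¹) ∉ N := by
    intro h
    apply haN
    have h1 := N.mul_mem (N.inv_mem hn) h
    rwa [inv_mul_cancel_left] at h1
  generalize n * (g₁ * y * g₁⁻¹) = a' at hna ha'N
  have ha'inv : a'⁻¹ = a' := inv_eq_of_mul_eq_one_left hna
  have hcent : a' ∈ Subgroup.centralizer (N : Set G) := by
    rw [Subgroup.mem_centralizer_iff]
    intro m hm
    have hconj := gagola_conj_coset hG χ hχ N hN a' ha'N m hm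
    obtain ⟨c', hc'⟩ := isConj_iff.mp hconj
    have h1 : (a' * m) * (a' * m) = 1 := by
      rw [← hc']
      calc c' * a' * c'⁻¹ * (c' * a' * c'⁻¹) = c' * (a' * a') * c'⁻¹ := by group
        _ = 1 := by rw [hna]; group
    have h2 : m * m = 1 := by
      rw [← sq]
      exact hexp m hm
    calc m * a' = a' * (a' * m * (a' * m)) * m := by
          rw [show a' * (a' * m * (a' * m)) * m = (a' * a') * m * a' * (m * m) by group, hna, h2,
            one_mul, mul_one]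
      _ = a' * m := by rw [h1, mul_one]
  exact ha'N (hcore (gagola_centralizer_le_pCore hG χ hχ 2 N hN hNp hN1 hcent))

end Cfsg.Agent.Lib.helper22
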