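import Mathlib
import Cfsg.Agent.Lib.helper23.PTruncHeight
import Cfsg.Agent.Lib.helper23.Galois
import Cfsg.Agent.Lib.helper24.CharReg

set_option autoImplicit false

namespace Cfsg.Agent.Lib.helper22

open Cfsg Cfsg.Agent.Lib.helper24 Cfsg.Agent.Lib.helper23 Cfsg.Agent.Lib.helper5
open scoped ComplexConjugate

universe u

theorem gow_multiset_sq (R : Multiset ℂ) (hR : ∀ μ ∈ R, IsIntegral ℤ μ) :
    ∃ E : ℂ, IsIntegral ℤ E ∧ R.sum ^ 2 = (R.map (fun μ => μ ^ 2)).sum + 2 * E := by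
  induction R using Multiset.induction_on with
  | empty => exact ⟨0, isIntegral_zero, by simp⟩
  | cons a s ih =>
    obtain ⟨E, hE, hEq⟩ := ih (fun μ hμ => hR μ (Multiset.mem_cons_of_mem hμ))
    have ha : IsIntegral ℤ a := hR a (Multiset.mem_cons_self a s)
    have hs : IsIntegral ℤ s.sum :=
      IsIntegral.multiset_sum (fun μ hμ => hR μ (Multiset.mem_cons_of_mem hμ))
    refine ⟨E + a * s.sum, hE.add (ha.mul hs), ?_⟩
    rw [Multiset.sum_cons, Multiset.map_cons, Multiset.sum_cons, add_sq, hEq]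
    ring

theorem gow_char_sq {G : Type u} [Group G] [Finite G] (χ : IrrCharacter G) (g : G) :
    IsIntegral ℤ ((χ.1 g ^ 2 - χ.1 (g * g)) / 2) := by
  obtain ⟨n, ρ, _, hρ⟩ := χ.2
  obtain ⟨R, hR, hsum⟩ := genrep_power_sums ρ g
  have hint : ∀ μ ∈ R, IsIntegral ℤ μ := by
    intro μ hμ
    have h1 := hR μ hμ
    have hpos : 0 < orderOf g := orderOf_pos g
    exact IsIntegral.of_pow hpos (by rw [h1]; exact isIntegral_one)
  obtain ⟨E, hE, hEq⟩ := gow_multiset_sq R hint
  have h1 := hsum 1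
  have h2 := hsum 2
  rw [hρ] at h1 h2
  simp only [pow_one, Multiset.map_id'] at h1
  rw [pow_two] at h2
  have : (χ.1 g ^ 2 - χ.1 (g * g)) / 2 = E := by
    rw [h1, h2, hEq]
    ring
  rw [this]
  exact hE

theorem gow_sum_sq {G : Type u} [Group G] [Fintype G] (f : G → ℂ) :
    (∑ g : G, if 2 ∣ orderOf g then (0 : ℂ) else f (g * g))
      = ∑ g : G, if 2 ∣ orderOf g then (0 : ℂ) else f g := by
  classical
  have key : ∀ F : G → ℂ, (∑ g : G, if 2 ∣ orderOf g then (0 : ℂ) else F g)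
      = ∑ g ∈ Finset.univ.filter (fun g : G => ¬ 2 ∣ orderOf g), F g := by
    intro F
    rw [Finset.sum_filter]
    apply Finset.sum_congr rfl
    intro g _
    by_cases h : 2 ∣ orderOf g <;> simp [h]
  rw [key, key]
  refine Finset.sum_nbij' (fun g => g * g) (fun h => h ^ ((orderOf h + 1) / 2)) ?_ ?_ ?_ ?_ ?_
  · intro g hg
    rw [Finset.mem_filter] at hg ⊢
    refine ⟨Finset.mem_univ _, ?_⟩
    have hodd : Nat.Coprime (orderOf g) 2 := by
      rw [Nat.coprime_comm, Nat.Prime.coprime_iff_not_dvd Nat.prime_two]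
      exact hg.2
    rw [← pow_two, (Nat.Coprime.orderOf_pow hodd)]
    exact hg.2
  · intro h hh
    rw [Finset.mem_filter] at hh ⊢
    refine ⟨Finset.mem_univ _, ?_⟩
    intro hd
    exact hh.2 (hd.trans (orderOf_pow_dvd _))
  · intro g hg
    rw [Finset.mem_filter] at hg
    have hodd : Nat.Coprime (orderOf g) 2 := by
      rw [Nat.coprime_comm, Nat.Prime.coprime_iff_not_dvd Nat.prime_two]
      exact hg.2
    have ho : orderOf (g * g) = orderOf g := by
      rw [← pow_two, (Nat.Coprime.orderOf_pow hodd)]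
    show (g * g) ^ ((orderOf (g * g) + 1) / 2) = g
    rw [ho, ← pow_two, ← pow_mul]
    have h2 : 2 * ((orderOf g + 1) / 2) = orderOf g + 1 := by
      have := hg.2
      omega
    rw [h2, pow_succ, pow_orderOf_eq_one, one_mul]
  · intro h hh
    rw [Finset.mem_filter] at hh
    show h ^ ((orderOf h + 1) / 2) * h ^ ((orderOf h + 1) / 2) = h
    rw [← pow_add]
    have h2 : (orderOf h + 1) / 2 + (orderOf h + 1) / 2 = orderOf h + 1 := by
      have := hh.2
      omega
    rw [h2, pow_succ, pow_orderOf_eq_one, one_mul]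
  · intro g _
    rfl

theorem gow_core {G : Type u} [Group G] [Fintype G] [Fintype (IrrCharacter G)]
    (M : Ideal AlgInt) (hM : IsPModular 2 M) (χ₀ ψ ψ' : IrrCharacter G)
    (hψ : ψ ∈ blockOf M χ₀.1) (hψ' : ψ' ∈ blockOf M χ₀.1)
    (hodd : Odd (charDegree ψ.1)) (hodd' : Odd (charDegree ψ'.1))
    (hconj : ∀ g : G, ¬ 2 ∣ orderOf g → ψ'.1 g = conj (ψ.1 g)) :
    trivIrr G ∈ blockOf M χ₀.1 := by
  classical
  have : Fact (Nat.Prime 2) := ⟨Nat.prime_two⟩
  by_contra h1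
  have hB : IsPBlock M (blockOf M χ₀.1) := ⟨χ₀, rfl⟩
  have hf0 : (charDegree ψ.1).factorization 2 = 0 :=
    Nat.factorization_eq_zero_of_not_dvd (fun h => (Nat.not_even_iff_odd.mpr hodd) (even_iff_two_dvd.mpr h))
  have hf0' : (charDegree ψ'.1).factorization 2 = 0 :=
    Nat.factorization_eq_zero_of_not_dvd (fun h => (Nat.not_even_iff_odd.mpr hodd') (even_iff_two_dvd.mpr h))
  have hh0 : blockHeight 2 (blockOf M χ₀.1) ψ.1 = 0 := by
    unfold blockHeight
    rw [hf0]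
    exact Nat.zero_sub _
  obtain ⟨n, hn, hn0, hnv⟩ := ((height_zero_iff hM _ hB ψ hψ).2.mp hh0) ψ' hψ'
  rw [hf0'] at hnv
  have hnodd : ¬ (2 : ℤ) ∣ n := by
    intro hd
    have := (padicValInt_dvd_iff (p := 2) 1 n).mp (by simpa using hd)
    rcases this with h | h
    · exact hn0 h
    · omega
  have hT := card_mul_inner_ptrunc 2 ψ.1 ψ'.1
  rw [hn] at hT
  have hT' : (∑ g : G, if 2 ∣ orderOf g then (0 : ℂ) else ψ.1 g * conj (ψ'.1 g))
      = ∑ g : G, if 2 ∣ orderOf g then (0 : ℂ) else ψ.1 g ^ 2 := by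
    apply Finset.sum_congr rfl
    intro g _
    by_cases hg : 2 ∣ orderOf g
    · simp [hg]
    · simp only [hg, if_false]
      rw [hconj g hg, Complex.conj_conj, pow_two]
  rw [hT'] at hT
  have hZ := card_mul_inner_ptrunc 2 ψ.1 (trivIrr G).1
  rw [inner_ptrunc_eq_zero_of_not_mem hM χ₀ ψ (trivIrr G) hψ h1, mul_zero] at hZ
  have h2a : ((2 ^ (Nat.card G).factorization 2 : ℕ) : ℂ) ≠ 0 := by
    exact_mod_cast (pow_pos (by norm_num : 0 < 2) _).ne'
  have hZ' : (∑ g : G, if 2 ∣ orderOf g then (0 : ℂ) else ψ.1 g) = 0 := by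
    have h3 := (mul_eq_zero.mp hZ.symm).resolve_left h2a
    refine Eq.trans (Finset.sum_congr rfl ?_) h3
    intro g _
    by_cases hg : 2 ∣ orderOf g
    · simp [hg]
    · simp [hg, trivIrr_apply]
  have hZ2 := (gow_sum_sq (fun g => ψ.1 g)).trans hZ'
  have hE : IsIntegral ℤ (∑ g : G, if 2 ∣ orderOf g then (0 : ℂ)
      else (ψ.1 g ^ 2 - ψ.1 (g * g)) / 2) := by
    apply IsIntegral.sum
    intro g _
    by_cases hg : 2 ∣ orderOf g
    · simp only [hg, if_true]
      exact isIntegral_zero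
    · simp only [hg, if_false]
      exact gow_char_sq ψ g
  have hEeq : (∑ g : G, if 2 ∣ orderOf g then (0 : ℂ) else (ψ.1 g ^ 2 - ψ.1 (g * g)) / 2)
      = (∑ g : G, if 2 ∣ orderOf g then (0 : ℂ) else ψ.1 g ^ 2) / 2 := by
    have : (∑ g : G, if 2 ∣ orderOf g then (0 : ℂ) else (ψ.1 g ^ 2 - ψ.1 (g * g)) / 2)
        = ((∑ g : G, if 2 ∣ orderOf g then (0 : ℂ) else ψ.1 g ^ 2)
          - (∑ g : G, if 2 ∣ orderOf g then (0 : ℂ) else ψ.1 (g * g))) / 2 := by
      rw [← Finset.sum_sub_distrib, Finset.sum_div]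
      apply Finset.sum_congr rfl
      intro g _
      by_cases hg : 2 ∣ orderOf g
      · simp [hg]
      · simp [hg]
    rw [this, hZ2, sub_zero]
  rw [hEeq] at hE
  obtain ⟨m, hm⟩ : ∃ m : ℕ, Nat.card G = 2 ^ (Nat.card G).factorization 2 * m ∧ ¬ 2 ∣ m := by
    refine ⟨Nat.card G / 2 ^ (Nat.card G).factorization 2, ?_, ?_⟩
    · exact (Nat.mul_div_cancel' (Nat.ordProj_dvd _ _)).symm
    · exact Nat.not_dvd_ordCompl Nat.prime_two Nat.card_pos.ne'
  obtain ⟨hm1, hm2⟩ := hm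
  have hT2 : ((m : ℂ) * (n : ℂ)) = (∑ g : G, if 2 ∣ orderOf g then (0 : ℂ) else ψ.1 g ^ 2) := by
    have hc : (Nat.card G : ℂ) = ((2 ^ (Nat.card G).factorization 2 : ℕ) : ℂ) * (m : ℂ) := by
      exact_mod_cast congrArg (Nat.cast (R := ℂ)) hm1
    rw [hc, mul_assoc] at hT
    exact mul_left_cancel₀ h2a hT
  rw [← hT2] at hE
  have hq : IsIntegral ℤ ((((m : ℤ) * n : ℤ) / 2 : ℚ) : ℂ) := by
    convert hE using 1
    push_cast
    ring
  obtain ⟨z, hz⟩ := rat_of_isIntegral_complex hq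
  have hz2 : (m : ℤ) * n = 2 * z := by
    have : ((z : ℚ)) * 2 = ((m : ℤ) * n : ℤ) := by
      rw [hz]
      field_simp
    have h3 : ((z * 2 : ℤ) : ℚ) = (((m : ℤ) * n : ℤ) : ℚ) := by
      push_cast
      push_cast at this
      exact this
    have h4 : z * 2 = (m : ℤ) * n := by exact_mod_cast h3
    omega
  have hdvd : (2 : ℤ) ∣ (m : ℤ) * n := ⟨z, hz2⟩
  rcases (Int.prime_two.dvd_mul.mp hdvd) with h | h
  · exact hm2 (by exact_mod_cast h)
  · exact hnodd h

theorem gow_principal {G : Type u} [Group G] [Finite G]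
    (M : Ideal AlgInt) (hM : IsPModular 2 M) (B : Set (IrrCharacter G)) (hB : IsPBlock M B)
    (hdef : blockDefect 2 B = (Nat.card G).factorization 2)
    (hstab : ∀ ψ ∈ B, ∃ ψ' ∈ B, ψ'.1 1 = ψ.1 1 ∧
      ∀ g : G, ¬ 2 ∣ orderOf g → ψ'.1 g = conj (ψ.1 g)) :
    B = principalBlock M G := by
  classical
  have := Fintype.ofFinite G
  have := Fintype.ofFinite (IrrCharacter G)
  obtain ⟨χ₀, rfl⟩ := hB
  have hMp := isPModular_isPrime hM
  have hMne := isPModular_ne_top hM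
  have hne : ((fun χ : IrrCharacter G => (charDegree (χ : G → ℂ)).factorization 2) ''
      (blockOf M χ₀.1)).Nonempty := ⟨_, χ₀, mem_blockOf_self hMne χ₀, rfl⟩
  obtain ⟨ψ, hψ, hψs⟩ := Nat.sInf_mem hne
  have hle := factorization_charDegree_le 2 ψ
  unfold blockDefect at hdef
  have h0 : (charDegree ψ.1).factorization 2 = 0 := by
    have hψs' : (charDegree ψ.1).factorization 2 = sInf ((fun χ : IrrCharacter G =>
        (charDegree (χ : G → ℂ)).factorization 2) '' (blockOf M χ₀.1)) := hψs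
    omega
  have hodd : Odd (charDegree ψ.1) := by
    rcases (Nat.factorization_eq_zero_iff _ _).mp h0 with h | h | h
    · exact absurd Nat.prime_two h
    · exact Nat.not_even_iff_odd.mp (fun he => h (even_iff_two_dvd.mp he))
    · exact absurd h (charDegree_ne_zero' ψ)
  obtain ⟨ψ', hψ', h1, hc⟩ := hstab ψ hψ
  have hodd' : Odd (charDegree ψ'.1) := by
    have : charDegree ψ'.1 = charDegree ψ.1 := by
      unfold charDegree
      rw [h1]
    rw [this]
    exact hodd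
  have ht := gow_core M hM χ₀ ψ ψ' hψ hψ' hodd hodd' hc
  ext ξ
  constructor
  · intro hξ
    exact sameBlock_trans hMp (sameBlock_symm ht) hξ
  · intro hξ
    exact sameBlock_trans hMp ht hξ

end Cfsg.Agent.Lib.helper22
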