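import Mathlib
import Cfsg.Agent.Lib.helper24.CharGallagher2
import Cfsg.Agent.Lib.helper24.CharChief
import Cfsg.Agent.Lib.helper24.CharFS
import Cfsg.Agent.Lib.helper24.CharLin
import Cfsg.Agent.Lib.helper23.GalConj
import Cfsg.Agent.Lib.helper23.CharInt
import Cfsg.Agent.Lib.helper24.CharCyclicExt
import Cfsg.Agent.Lib.helper24.CharProj
import Cfsg.Agent.Lib.helper24.CharNormal
import Cfsg.Agent.Lib.helper24.CharBrauer4
import Cfsg.Agent.Lib.helper24.CharClifford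

set_option autoImplicit false

namespace Cfsg.Agent.Lib.helper22

open Cfsg Cfsg.Agent.Lib.helper23 Cfsg.Agent.Lib.helper24
open scoped ComplexConjugate

universe u

theorem pow_succ_mem_of_odd_index {G : Type u} [Group G] [Finite G] (N : Subgroup G) [N.Normal]
    (hidx : Odd N.index) (k : ℕ) (hk₂ : ∀ g : G, Odd (orderOf g) → g ^ k = g⁻¹) (g : G) :
    g ^ (k + 1) ∈ N := by
  obtain ⟨a, m', hm', ho⟩ := Nat.exists_eq_two_pow_mul_odd (orderOf_pos g).ne'
  have h1 : orderOf (g ^ (2 ^ a)) = m' := by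
    rw [orderOf_pow_of_dvd (pow_ne_zero a two_ne_zero) (by rw [ho]; exact Dvd.intro _ rfl), ho,
      Nat.mul_div_cancel_left _ (pow_pos two_pos a)]
  have h2 : (g ^ (2 ^ a)) ^ k = (g ^ (2 ^ a))⁻¹ := hk₂ _ (by rw [h1]; exact hm')
  have h3 : (g ^ (k + 1)) ^ (2 ^ a) = 1 := by
    rw [← pow_mul, mul_comm, pow_mul, pow_succ, h2, inv_mul_cancel]
  rw [← QuotientGroup.eq_one_iff]
  have h4 : ((g ^ (k + 1) : G) : G ⧸ N) ^ (2 ^ a) = 1 := by
    rw [← QuotientGroup.mk_pow, h3]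
    rfl
  have h5 : orderOf ((g ^ (k + 1) : G) : G ⧸ N) ∣ 2 ^ a := orderOf_dvd_of_pow_eq_one h4
  have h6 : orderOf ((g ^ (k + 1) : G) : G ⧸ N) ∣ N.index := by
    rw [Subgroup.index_eq_card]
    exact orderOf_dvd_natCard _
  have hcop : Nat.Coprime (2 ^ a) N.index :=
    Nat.Coprime.pow_left a (Nat.coprime_two_left.mpr hidx)
  have h7 : orderOf ((g ^ (k + 1) : G) : G ⧸ N) = 1 := Nat.eq_one_of_dvd_coprimes hcop h5 h6
  exact orderOf_eq_one_iff.mp h7

theorem fixed_ext_of_ext {G : Type u} [Group G] [Fintype G] (N : Subgroup G) [hN : N.Normal]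
    [Fintype N] (hidx : Odd N.index) (k : ℕ) (hk : Nat.Coprime k (Nat.card G))
    (hk₂ : ∀ g : G, Odd (orderOf g) → g ^ k = g⁻¹)
    (θ : N → ℂ) (hθ : IsIrrCharacter N θ) (hθσ : ∀ n : N, θ (n ^ k) = θ n)
    (χ₀ : G → ℂ) (hχ₀ : IsIrrCharacter G χ₀) (hext : ∀ n : N, χ₀ n = θ n) :
    ∃ χ : G → ℂ, IsIrrCharacter G χ ∧ (∀ n : N, χ n = θ n) ∧ (∀ g : G, χ (g ^ k) = χ g) ∧
      ∀ χ' : G → ℂ, IsIrrCharacter G χ' → classInner (fun n : N => χ' n) θ ≠ 0 →
        (∀ g : G, χ' (g ^ k) = χ' g) → χ' = χ := by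
  classical
  have hpm := pow_succ_mem_of_odd_index N hidx k hk₂
  have hθeq : (fun n : N => χ₀ n) = θ := funext hext
  have hχ₀N : IsIrrCharacter N (fun n : N => χ₀ n) := by rw [hθeq]; exact hθ
  have hσirr : IsIrrCharacter G (fun g => χ₀ (g ^ k)) := isIrrCharacter_pow_coprime hχ₀ k hk
  have hgal := gallagher_quotient N χ₀ hχ₀ hχ₀N
  have hσmem : (fun g => χ₀ (g ^ k)) ∈ {ψ : G → ℂ | IsIrrCharacter G ψ ∧
      classInner (fun n : N => ψ n) (fun n : N => χ₀ n) ≠ 0} := by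
    refine ⟨hσirr, ?_⟩
    have h1 : (fun n : N => χ₀ ((n : G) ^ k)) = θ := by
      funext n
      rw [← hθσ n, ← hext (n ^ k)]
      rfl
    rw [h1, hθeq, isIrrCharacter_inner_self hθ]
    exact one_ne_zero
  obtain ⟨μ, ⟨hμirr, hμN⟩, hμeq⟩ := hgal.surjOn hσmem
  have hχ₀1 : χ₀ 1 ≠ 0 := irr_one_ne_zero ⟨χ₀, hχ₀⟩
  have hμ1 : μ 1 = 1 := by
    have h1 := congrFun hμeq 1
    simp only [Pi.mul_apply, one_pow] at h1
    exact mul_right_cancel₀ hχ₀1 (by rw [h1, one_mul])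
  obtain ⟨lam, hlam⟩ : ∃ lam : G →* ℂˣ, ∀ g, (lam g : ℂ) = μ g :=
    ⟨irrLinHom ⟨μ, hμirr⟩ hμ1, fun g => rfl⟩
  have hlamN : ∀ n ∈ N, lam n = 1 := by
    intro n hn
    apply Units.ext
    rw [hlam, hμN n hn, hμ1]
    rfl
  have hlamk : ∀ g, lam (g ^ k) = (lam g)⁻¹ := by
    intro g
    have h1 : lam (g ^ (k + 1)) = 1 := hlamN _ (hpm g)
    rw [pow_succ, map_mul] at h1
    exact eq_inv_of_mul_eq_one_left h1
  have hlamm : ∀ g, (lam g) ^ N.index = 1 := by
    intro g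
    rw [← map_pow]
    exact hlamN _ (Subgroup.pow_index_mem N g)
  obtain ⟨j, hj⟩ := hidx
  obtain ⟨lam', hlam'⟩ : ∃ lam' : G →* ℂˣ, ∀ g, lam' g = (lam g) ^ (j + 1) :=
    ⟨lam ^ (j + 1), fun g => rfl⟩
  have hχ₁ : IsIrrCharacter G (fun g => (lam' g : ℂ) * χ₀ g) := isIrrCharacter_hom_mul lam' hχ₀
  have hχ₁N : ∀ n : N, (lam' (n : G) : ℂ) * χ₀ n = θ n := by
    intro n
    rw [hlam', hlamN _ n.2, one_pow, Units.val_one, one_mul, hext]
  have hχ₁σ : ∀ g : G, (lam' (g ^ k) : ℂ) * χ₀ (g ^ k) = (lam' g : ℂ) * χ₀ g := by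
    intro g
    have h1 : χ₀ (g ^ k) = μ g * χ₀ g := (congrFun hμeq g).symm
    rw [h1, ← hlam, ← mul_assoc, ← Units.val_mul]
    congr 2
    rw [hlam', hlam', hlamk]
    have h2 := hlamm g
    rw [hj] at h2
    rw [inv_pow, inv_mul_eq_iff_eq_mul, ← pow_add]
    have h3 : j + 1 + (j + 1) = 2 * j + 1 + 1 := by ring
    rw [h3, pow_succ, h2, one_mul]
  refine ⟨fun g => (lam' g : ℂ) * χ₀ g, hχ₁, hχ₁N, hχ₁σ, ?_⟩
  intro χ' hχ' hover hσ'
  have hχ₁Neq : (fun n : N => (lam' (n : G) : ℂ) * χ₀ n) = θ := funext hχ₁N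
  have hχ₁Nirr : IsIrrCharacter N (fun n : N => (fun g => (lam' g : ℂ) * χ₀ g) n) := by
    show IsIrrCharacter N (fun n : N => (lam' (n : G) : ℂ) * χ₀ n)
    rw [hχ₁Neq]
    exact hθ
  have hgal₁ := gallagher_quotient N (fun g => (lam' g : ℂ) * χ₀ g) hχ₁ hχ₁Nirr
  have hχ'mem : χ' ∈ {ψ : G → ℂ | IsIrrCharacter G ψ ∧
      classInner (fun n : N => ψ n) (fun n : N => (fun g => (lam' g : ℂ) * χ₀ g) n) ≠ 0} := by
    refine ⟨hχ', ?_⟩
    show classInner (fun n : N => χ' n) (fun n : N => (lam' (n : G) : ℂ) * χ₀ n) ≠ 0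
    rw [hχ₁Neq]
    exact hover
  obtain ⟨β, ⟨hβirr, hβN⟩, hβeq⟩ := hgal₁.surjOn hχ'mem
  have hβσirr : IsIrrCharacter G (fun g => β (g ^ k)) := isIrrCharacter_pow_coprime hβirr k hk
  have hβσmem : (fun g => β (g ^ k)) ∈ {β : G → ℂ | IsIrrCharacter G β ∧ ∀ n ∈ N, β n = β 1} := by
    refine ⟨hβσirr, ?_⟩
    intro n hn
    show β (n ^ k) = β (1 ^ k)
    rw [one_pow]
    exact hβN _ (Subgroup.pow_mem N hn k)
  have hβσeq : (fun β : G → ℂ => β * fun g => (lam' g : ℂ) * χ₀ g) (fun g => β (g ^ k))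
      = (fun β : G → ℂ => β * fun g => (lam' g : ℂ) * χ₀ g) β := by
    show (fun g => β (g ^ k)) * (fun g => (lam' g : ℂ) * χ₀ g) = β * fun g => (lam' g : ℂ) * χ₀ g
    have hβeq' : β * (fun g => (lam' g : ℂ) * χ₀ g) = χ' := hβeq
    rw [hβeq']
    funext g
    have h1 := congrFun hβeq' (g ^ k)
    simp only [Pi.mul_apply] at h1 ⊢
    rw [← hχ₁σ g, h1, hσ']
  have hβfix : (fun g => β (g ^ k)) = β := hgal₁.injOn hβσmem ⟨hβirr, hβN⟩ hβσeq
  have hβreal : ∀ g : G, (β g).im = 0 := by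
    intro g
    have h1 : β (g ^ k) = β g := congrFun hβfix g
    have h2 : g ^ k = g ^ (k + 1) * g⁻¹ := by rw [pow_succ, mul_inv_cancel_right]
    have h3 : β (g ^ (k + 1) * g⁻¹) = β g⁻¹ :=
      irr_mul_of_mem_ker hβirr (hβN _ (hpm g)) g⁻¹
    rw [h2, h3, isCharacter_inv (isCharacter_of_isIrrCharacter hβirr)] at h1
    exact Complex.conj_eq_iff_im.mp h1
  obtain ⟨β', hβ'irr, hβ'⟩ := isIrrCharacter_deflate N hβirr hβN
  have := Fintype.ofFinite (G ⧸ N)
  have hoddq : Odd (Nat.card (G ⧸ N)) := by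
    rw [← Subgroup.index_eq_card, hj]
    exact ⟨j, rfl⟩
  have hβ'real : ∀ q : G ⧸ N, ((⟨β', hβ'irr⟩ : IrrCharacter (G ⧸ N)).1 q).im = 0 := by
    intro q
    obtain ⟨g, rfl⟩ := QuotientGroup.mk_surjective q
    show (β' (g : G ⧸ N)).im = 0
    rw [hβ']
    exact hβreal g
  have hβ'triv := irr_real_of_odd hoddq ⟨β', hβ'irr⟩ hβ'real
  have hβone : ∀ g : G, β g = 1 := by
    intro g
    rw [← hβ' g]
    have h1 := congrArg (fun χ : IrrCharacter (G ⧸ N) => χ.1 (g : G ⧸ N)) hβ'triv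
    exact h1
  rw [← hβeq]
  funext g
  show β g * ((lam' g : ℂ) * χ₀ g) = (lam' g : ℂ) * χ₀ g
  rw [hβone g, one_mul]

theorem sub_setting {G : Type u} [Group G] [Finite G] (N : Subgroup G) [hN : N.Normal]
    (H : Subgroup G) (hNH : N ≤ H) (hidx : Odd N.index) (k : ℕ)
    (hk : Nat.Coprime k (Nat.card G)) (hk₂ : ∀ g : G, Odd (orderOf g) → g ^ k = g⁻¹)
    (θ : N → ℂ) (hθ : IsIrrCharacter N θ) (hθσ : ∀ n : N, θ (n ^ k) = θ n) :
    Odd (N.subgroupOf H).index ∧ Nat.Coprime k (Nat.card H) ∧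
      (∀ h : H, Odd (orderOf h) → h ^ k = h⁻¹) ∧
      IsIrrCharacter (N.subgroupOf H)
        (fun x => θ ⟨((x : H) : G), Subgroup.mem_subgroupOf.mp x.2⟩) ∧
      (∀ x : N.subgroupOf H,
        (fun x : N.subgroupOf H => θ ⟨((x : H) : G), Subgroup.mem_subgroupOf.mp x.2⟩) (x ^ k)
          = (fun x : N.subgroupOf H => θ ⟨((x : H) : G), Subgroup.mem_subgroupOf.mp x.2⟩) x) := by
  refine ⟨?_, ?_, ?_, ?_, ?_⟩
  · exact Odd.of_dvd_nat hidx (Subgroup.relIndex_dvd_index_of_normal N H)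
  · exact Nat.Coprime.coprime_dvd_right (Subgroup.card_subgroup_dvd_card H) hk
  · intro h ho
    apply Subtype.ext
    rw [Subgroup.coe_pow, Subgroup.coe_inv]
    exact hk₂ h (by rwa [Subgroup.orderOf_coe])
  · exact isIrrCharacter_comp_equiv (Subgroup.subgroupOfEquivOfLe hNH) hθ
  · intro x
    have h1 := hθσ ⟨((x : H) : G), Subgroup.mem_subgroupOf.mp x.2⟩
    exact h1

theorem sub_inv {G : Type u} [Group G] (N : Subgroup G) [hN : N.Normal] (H : Subgroup G)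
    (θ : N → ℂ) (hinv : ∀ h ∈ H, ∀ n : N, θ ⟨h * n * h⁻¹, hN.conj_mem n n.2 h⟩ = θ n)
    (t : H) (x : N.subgroupOf H) (hmem : t * (x : H) * t⁻¹ ∈ N.subgroupOf H) :
    (fun x : N.subgroupOf H => θ ⟨((x : H) : G), Subgroup.mem_subgroupOf.mp x.2⟩)
        ⟨t * (x : H) * t⁻¹, hmem⟩
      = (fun x : N.subgroupOf H => θ ⟨((x : H) : G), Subgroup.mem_subgroupOf.mp x.2⟩) x :=
  hinv t t.2 ⟨((x : H) : G), Subgroup.mem_subgroupOf.mp x.2⟩

theorem ext_of_prime_power_index_aux (k : ℕ) : ∀ (d : ℕ) (G : Type u) [Group G] [Finite G]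
    (N : Subgroup G) [hN : N.Normal], N.index = d → Odd N.index →
    (∃ q a : ℕ, q.Prime ∧ N.index = q ^ a) → Nat.Coprime k (Nat.card G) →
    (∀ g : G, Odd (orderOf g) → g ^ k = g⁻¹) → ∀ (θ : N → ℂ), IsIrrCharacter N θ →
    (∀ (g : G) (n : N), θ ⟨g * n * g⁻¹, hN.conj_mem n n.2 g⟩ = θ n) →
    (∀ n : N, θ (n ^ k) = θ n) → ∃ χ : G → ℂ, IsIrrCharacter G χ ∧ ∀ n : N, χ n = θ n := by
  intro d
  induction d using Nat.strong_induction_on with
  | _ d ih =>
    intro G _ _ N hN hd hodd hpp hk hk₂ θ hθ hinv hθσ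
    classical
    obtain ⟨q, a, hq, hqa⟩ := hpp
    by_cases hN1 : N = ⊤
    · let e : G ≃* N := (Subgroup.topEquiv.symm).trans (MulEquiv.subgroupCongr hN1.symm)
      refine ⟨θ ∘ e, isIrrCharacter_comp_equiv e hθ, ?_⟩
      intro n
      show θ (e n) = θ n
      congr 1
    · have : Fact q.Prime := ⟨hq⟩
      have hcard : Nat.card (G ⧸ N) = q ^ a := by rw [← Subgroup.index_eq_card]; exact hqa
      have hpg : IsPGroup q (G ⧸ N) := IsPGroup.of_card hcard
      have hnt : Nontrivial (G ⧸ N) := by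
        rw [← Finite.one_lt_card_iff_nontrivial, ← Subgroup.index_eq_card]
        have h1 := Subgroup.index_eq_one.not.mpr hN1
        have h2 := Subgroup.index_ne_zero_of_finite (H := N)
        omega
      have hcnt := hpg.center_nontrivial
      have hqc : q ∣ Nat.card (Subgroup.center (G ⧸ N)) := by
        have hpc : IsPGroup q (Subgroup.center (G ⧸ N)) := hpg.to_subgroup _
        obtain ⟨b, hb⟩ := IsPGroup.iff_card.mp hpc
        have hb0 : b ≠ 0 := by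
          intro h0
          rw [h0, pow_zero] at hb
          have h3 := Finite.one_lt_card_iff_nontrivial.mpr hcnt
          omega
        rw [hb]
        exact dvd_pow_self q hb0
      obtain ⟨zc, hzc⟩ := exists_prime_orderOf_dvd_card' q hqc
      obtain ⟨w, hw⟩ := QuotientGroup.mk_surjective (zc : G ⧸ N)
      have hCn : (Subgroup.zpowers (zc : G ⧸ N)).Normal := zpowers_normal_of_center zc.2
      obtain ⟨Z, hZdef⟩ : ∃ Z : Subgroup G,
          Z = (Subgroup.zpowers (zc : G ⧸ N)).comap (QuotientGroup.mk' N) := ⟨_, rfl⟩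
      have hZmem : ∀ x : G, x ∈ Z ↔ (x : G ⧸ N) ∈ Subgroup.zpowers (zc : G ⧸ N) := by
        intro x
        rw [hZdef]
        rfl
      have hZn : Z.Normal := by
        rw [hZdef]
        exact Subgroup.Normal.comap hCn _
      have hNZ : N ≤ Z := by
        intro n hn
        rw [hZmem, (QuotientGroup.eq_one_iff n).mpr hn]
        exact Subgroup.one_mem _
      have hwZ : w ∈ Z := by
        rw [hZmem, hw]
        exact Subgroup.mem_zpowers _
      have hwN : w ∉ N := by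
        intro h
        have h1 : (zc : G ⧸ N) = 1 := by rw [← hw]; exact (QuotientGroup.eq_one_iff w).mpr h
        have h2 : zc = 1 := Subtype.ext h1
        rw [h2, orderOf_one] at hzc
        exact hq.one_lt.ne' hzc.symm
      have hlt : Z.index < d := by
        rw [← hd, ← Subgroup.relIndex_mul_index hNZ]
        have h1 : N.relIndex Z ≠ 1 := by
          intro h
          exact hwN (Subgroup.relIndex_eq_one.mp h hwZ)
        have h2 : N.relIndex Z ≠ 0 := by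
          intro h0
          have h5 := Subgroup.relIndex_mul_index hNZ
          rw [h0, zero_mul] at h5
          exact Subgroup.index_ne_zero_of_finite h5.symm
        have h3 : 0 < Z.index := Nat.pos_of_ne_zero Subgroup.index_ne_zero_of_finite
        have h4 : 2 ≤ N.relIndex Z := by omega
        nlinarith
      have hZodd : Odd Z.index := Odd.of_dvd_nat hodd (Subgroup.index_dvd_of_le hNZ)
      have hZpp : ∃ q' a' : ℕ, q'.Prime ∧ Z.index = q' ^ a' := by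
        have h1 : Z.index ∣ q ^ a := by rw [← hqa]; exact Subgroup.index_dvd_of_le hNZ
        obtain ⟨b, _, hb⟩ := (Nat.dvd_prime_pow hq).mp h1
        exact ⟨q, b, hq, hb⟩
      have hcyc : IsCyclic (↥Z ⧸ N.subgroupOf Z) := by
        refine ⟨⟨((⟨w, hwZ⟩ : Z) : ↥Z ⧸ N.subgroupOf Z), ?_⟩⟩
        intro y
        obtain ⟨x, rfl⟩ := QuotientGroup.mk_surjective y
        have hx := (hZmem x).mp x.2
        obtain ⟨i, hi⟩ := Subgroup.mem_zpowers_iff.mp hx
        refine ⟨i, ?_⟩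
        show ((⟨w, hwZ⟩ : Z) : ↥Z ⧸ N.subgroupOf Z) ^ i = (x : ↥Z ⧸ N.subgroupOf Z)
        rw [← QuotientGroup.mk_zpow, QuotientGroup.eq, Subgroup.mem_subgroupOf]
        have h1 : (((w ^ i : G) : G ⧸ N)) = ((x : G) : G ⧸ N) := by
          rw [QuotientGroup.mk_zpow, hw, hi]
        have h2 := QuotientGroup.eq.mp h1
        simpa using h2
      obtain ⟨hodd', hk', hk₂', hθ', hθσ'⟩ := sub_setting N Z hNZ hodd k hk hk₂ θ hθ hθσ
      have hinv' := sub_inv N Z θ (fun h _ n => hinv h n)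
      have hNn' : (N.subgroupOf Z).Normal := inferInstance
      obtain ⟨ψ₀, hψ₀, hψ₀N⟩ := exists_irr_extension_cyclic (G := ↥Z) (N.subgroupOf Z) hcyc
        (fun x => θ ⟨((x : Z) : G), Subgroup.mem_subgroupOf.mp x.2⟩) hθ'
        (fun g n => hinv' g n _)
      have := Fintype.ofFinite Z
      have := Fintype.ofFinite (N.subgroupOf Z)
      obtain ⟨ψ, hψ, hψN, hψσ, hψuniq⟩ := fixed_ext_of_ext (G := ↥Z) (N.subgroupOf Z) hodd' k hk'
        hk₂' (fun x => θ ⟨((x : Z) : G), Subgroup.mem_subgroupOf.mp x.2⟩) hθ' hθσ' ψ₀ hψ₀ hψ₀N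
      have hψinv : ∀ (g : G) (z : Z), ψ ⟨g * z * g⁻¹, hZn.conj_mem z z.2 g⟩ = ψ z := by
        intro g z
        have h1 : Cfsg.Agent.Lib.helper24.conjFun Z ψ g = ψ := by
          apply hψuniq _ (Cfsg.Agent.Lib.helper24.conjFun_isIrr Z hψ g)
          · have h2 : (fun n : N.subgroupOf Z => Cfsg.Agent.Lib.helper24.conjFun Z ψ g n)
                = (fun x : N.subgroupOf Z => θ ⟨((x : Z) : G), Subgroup.mem_subgroupOf.mp x.2⟩) := by
              funext x
              rw [Cfsg.Agent.Lib.helper24.conjFun_apply]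
              have hx : (g * ((x : Z) : G) * g⁻¹) ∈ N :=
                hN.conj_mem _ (Subgroup.mem_subgroupOf.mp x.2) g
              have h3 := hψN ⟨⟨g * ((x : Z) : G) * g⁻¹, hZn.conj_mem _ (x : Z).2 g⟩,
                Subgroup.mem_subgroupOf.mpr hx⟩
              exact h3.trans (hinv g ⟨_, Subgroup.mem_subgroupOf.mp x.2⟩)
            rw [h2, isIrrCharacter_inner_self hθ']
            exact one_ne_zero
          · intro z'
            rw [Cfsg.Agent.Lib.helper24.conjFun_apply, Cfsg.Agent.Lib.helper24.conjFun_apply]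
            have h4 : (⟨g * ((z' ^ k : Z) : G) * g⁻¹, hZn.conj_mem _ (z' ^ k).2 g⟩ : Z)
                = (⟨g * (z' : G) * g⁻¹, hZn.conj_mem _ z'.2 g⟩ : Z) ^ k := by
              apply Subtype.ext
              show g * ((z' : G) ^ k) * g⁻¹ = (g * (z' : G) * g⁻¹) ^ k
              rw [conj_pow]
            rw [h4, hψσ]
        have h5 := congrFun h1 z
        rwa [Cfsg.Agent.Lib.helper24.conjFun_apply] at h5
      obtain ⟨χ, hχ, hχZ⟩ := ih Z.index hlt G Z rfl hZodd hZpp hk hk₂ ψ hψ hψinv hψσ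
      refine ⟨χ, hχ, fun n => ?_⟩
      have h1 := hχZ ⟨n, hNZ n.2⟩
      rw [h1]
      exact hψN ⟨⟨n, hNZ n.2⟩, Subgroup.mem_subgroupOf.mpr n.2⟩

theorem ext_of_odd_index {G : Type u} [Group G] [Finite G] (N : Subgroup G) [hN : N.Normal]
    (hidx : Odd N.index) (k : ℕ) (hk : Nat.Coprime k (Nat.card G))
    (hk₂ : ∀ g : G, Odd (orderOf g) → g ^ k = g⁻¹) (θ : N → ℂ) (hθ : IsIrrCharacter N θ)
    (hinv : ∀ (g : G) (n : N), θ ⟨g * n * g⁻¹, hN.conj_mem n n.2 g⟩ = θ n)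
    (hθσ : ∀ n : N, θ (n ^ k) = θ n) : ∃ χ : G → ℂ, IsIrrCharacter G χ ∧ ∀ n : N, χ n = θ n := by
  apply ext_of_sylow_ext N θ hθ hinv
  intro p hp
  have : Fact p.Prime := ⟨hp⟩
  obtain ⟨S⟩ : Nonempty (Sylow p (G ⧸ N)) := inferInstance
  obtain ⟨P, hPdef⟩ : ∃ P : Subgroup G,
      P = (S : Subgroup (G ⧸ N)).comap (QuotientGroup.mk' N) := ⟨_, rfl⟩
  have hNP : N ≤ P := by
    intro n hn
    rw [hPdef, Subgroup.mem_comap]
    have h1 : QuotientGroup.mk' N n = 1 := (QuotientGroup.eq_one_iff n).mpr hn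
    rw [h1]
    exact Subgroup.one_mem _
  have hidxP : P.index = (S : Subgroup (G ⧸ N)).index := by
    rw [hPdef]
    exact Subgroup.index_comap_of_surjective _ (QuotientGroup.mk'_surjective N)
  have hrel : ∃ a : ℕ, N.relIndex P = p ^ a := by
    obtain ⟨a, ha⟩ := IsPGroup.iff_card.mp S.2
    refine ⟨a, ?_⟩
    have h1 : N = (⊥ : Subgroup (G ⧸ N)).comap (QuotientGroup.mk' N) := by
      rw [MonoidHom.comap_bot, QuotientGroup.ker_mk']
    have h2 : N.relIndex P = ((⊥ : Subgroup (G ⧸ N)).comap (QuotientGroup.mk' N)).relIndex P := by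
      rw [← h1]
    rw [h2, Subgroup.relIndex_comap, hPdef,
      Subgroup.map_comap_eq_self_of_surjective (QuotientGroup.mk'_surjective N),
      Subgroup.relIndex_bot_left, ha]
  obtain ⟨a, ha⟩ := hrel
  obtain ⟨hodd', hk', hk₂', hθ', hθσ'⟩ := sub_setting N P hNP hidx k hk hk₂ θ hθ hθσ
  have hinv' := sub_inv N P θ (fun h _ n => hinv h n)
  have hNn' : (N.subgroupOf P).Normal := inferInstance
  obtain ⟨η, hη, hηN⟩ := ext_of_prime_power_index_aux k (N.subgroupOf P).index ↥P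
    (N.subgroupOf P) rfl hodd' ⟨p, a, hp, ha⟩ hk' hk₂' _ hθ' (fun g n => hinv' g n _) hθσ'
  refine ⟨P, hNP, η, ?_, ⟨a, ha⟩, hη,
    fun n => hηN ⟨⟨n, hNP n.2⟩, Subgroup.mem_subgroupOf.mpr n.2⟩⟩
  rw [hidxP]
  exact ((Nat.Prime.coprime_iff_not_dvd hp).mpr S.not_dvd_index).symm

theorem exists_unique_fixed_ext {G : Type u} [Group G] [Fintype G] (N : Subgroup G)
    [hN : N.Normal] [Fintype N] (hidx : Odd N.index) (k : ℕ) (hk : Nat.Coprime k (Nat.card G))
    (hk₂ : ∀ g : G, Odd (orderOf g) → g ^ k = g⁻¹) (θ : N → ℂ) (hθ : IsIrrCharacter N θ)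
    (hinv : ∀ (g : G) (n : N), θ ⟨g * n * g⁻¹, hN.conj_mem n n.2 g⟩ = θ n)
    (hθσ : ∀ n : N, θ (n ^ k) = θ n) :
    ∃ χ : G → ℂ, IsIrrCharacter G χ ∧ (∀ n : N, χ n = θ n) ∧ (∀ g : G, χ (g ^ k) = χ g) ∧
      ∀ χ' : G → ℂ, IsIrrCharacter G χ' → classInner (fun n : N => χ' n) θ ≠ 0 →
        (∀ g : G, χ' (g ^ k) = χ' g) → χ' = χ := by
  obtain ⟨χ₀, hχ₀, hext⟩ := ext_of_odd_index N hidx k hk hk₂ θ hθ hinv hθσ
  exact fixed_ext_of_ext N hidx k hk hk₂ θ hθ hθσ χ₀ hχ₀ hext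

theorem extendByZero_pow {G : Type u} [Group G] [Finite G] (H : Subgroup G) (k : ℕ)
    (hk : Nat.Coprime k (Nat.card G)) (f : H → ℂ) (y : G) :
    extendByZero H (fun h => f (h ^ k)) y = extendByZero H f (y ^ k) := by
  by_cases hy : y ∈ H
  · rw [extendByZero_apply_mem _ _ hy, extendByZero_apply_mem _ _ (Subgroup.pow_mem H hy k)]
    rfl
  · have hy' : y ^ k ∉ H := by
      intro h
      apply hy
      have hcop : Nat.Coprime k (orderOf y) :=
        Nat.Coprime.coprime_dvd_right (orderOf_dvd_natCard y) hk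
      obtain ⟨m, hm⟩ := exists_pow_eq_self_of_coprime hcop
      rw [← hm]
      exact Subgroup.pow_mem H h m
    rw [extendByZero_apply_not_mem _ _ hy, extendByZero_apply_not_mem _ _ hy']

theorem indFun_pow {G : Type u} [Group G] [Fintype G] (H : Subgroup G) (k : ℕ)
    (hk : Nat.Coprime k (Nat.card G)) (f : H → ℂ) (g : G) :
    indFun H (fun h => f (h ^ k)) g = indFun H f (g ^ k) := by
  unfold indFun
  congr 1
  apply Finset.sum_congr rfl
  intro x _
  rw [extendByZero_pow H k hk f]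
  congr 1
  have h1 := conj_pow (a := x⁻¹) (b := g) (i := k)
  rw [inv_inv] at h1
  exact h1

theorem exists_unique_fixed_over {G : Type u} [Group G] [Fintype G] (N : Subgroup G)
    [hN : N.Normal] [Fintype N] (hidx : Odd N.index) (k : ℕ) (hk : Nat.Coprime k (Nat.card G))
    (hk₂ : ∀ g : G, Odd (orderOf g) → g ^ k = g⁻¹) (θ : N → ℂ) (hθ : IsIrrCharacter N θ)
    (hθσ : ∀ n : N, θ (n ^ k) = θ n) :
    ∃ χ : G → ℂ, IsIrrCharacter G χ ∧ classInner (fun n : N => χ n) θ ≠ 0 ∧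
      (∀ g : G, χ (g ^ k) = χ g) ∧
      ((∀ (g : G) (n : N), θ ⟨g * n * g⁻¹, hN.conj_mem n n.2 g⟩ = θ n) → ∀ n : N, χ n = θ n) ∧
      ∀ χ' : G → ℂ, IsIrrCharacter G χ' → classInner (fun n : N => χ' n) θ ≠ 0 →
        (∀ g : G, χ' (g ^ k) = χ' g) → χ' = χ := by
  classical
  obtain ⟨T, hTdef⟩ : ∃ T : Subgroup G, T = Cfsg.Agent.Lib.helper24.conjStab N θ := ⟨_, rfl⟩
  have hT : ∀ g : G, g ∈ T ↔ ∀ n : N, θ ⟨g * n * g⁻¹, hN.conj_mem (n : G) n.2 g⟩ = θ n := by
    intro g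
    rw [hTdef, mem_conjStab]
    constructor
    · intro h n
      exact congrFun h n
    · intro h
      funext n
      exact h n
  have hNT : N ≤ T := by
    intro n hn
    rw [hTdef, mem_conjStab]
    exact conjFun_of_mem N (isCharacter_conj_class (isCharacter_of_isIrrCharacter hθ)) hn
  have := Fintype.ofFinite T
  have := Fintype.ofFinite (IrrCharacter T)
  have := Fintype.ofFinite (N.subgroupOf T)
  obtain ⟨hodd', hk', hk₂', hθ', hθσ'⟩ := sub_setting N T hNT hidx k hk hk₂ θ hθ hθσ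
  have hinv' := sub_inv N T θ (fun h hh n => (hT h).mp hh n)
  have hNn' : (N.subgroupOf T).Normal := inferInstance
  obtain ⟨ψ, hψ, hψN, hψσ, hψuniq⟩ := exists_unique_fixed_ext (G := ↥T) (N.subgroupOf T) hodd' k
    hk' hk₂' _ hθ' (fun g n => hinv' g n _) hθσ'
  obtain ⟨c, hfib, hind, hirr, horth⟩ := clifford_correspondence N θ hθ T hT hNT
  have hψrestr : (fun n : N => ψ ⟨(n : G), hNT n.2⟩) = θ := by
    funext n
    exact hψN ⟨⟨n, hNT n.2⟩, Subgroup.mem_subgroupOf.mpr n.2⟩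
  have hc1 : c ⟨ψ, hψ⟩ = 1 := by
    have h1 := hfib ⟨ψ, hψ⟩
    rw [hψrestr, isIrrCharacter_inner_self hθ] at h1
    exact_mod_cast h1.symm
  have hχirr : IsIrrCharacter G (indFun T ψ) := hirr ⟨ψ, hψ⟩ (by rw [hc1]; exact one_ne_zero)
  have hover : ∀ ψ' : IrrCharacter T, c ψ' ≠ 0 →
      classInner (fun n : N => indFun T ψ'.1 n) θ ≠ 0 := by
    intro ψ' hc
    have h1 : classInner (indFun N θ) (indFun T ψ'.1) = (c ψ' : ℂ) := by
      rw [hind, classInner_sum_left, Finset.sum_eq_single ψ']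
      · rw [classInner_smul_left, isIrrCharacter_inner_self (hirr ψ' hc), mul_one]
      · intro ψ'' _ hne
        rw [classInner_smul_left]
        by_cases hc'' : c ψ'' = 0
        · rw [hc'', Nat.cast_zero, zero_mul]
        · rw [horth ψ'' ψ' hc'' hc hne, mul_zero]
      · intro h
        exact absurd (Finset.mem_univ _) h
    rw [frobenius_reciprocity N θ
      (isCharacter_conj_class (isCharacter_of_isIrrCharacter (hirr ψ' hc)))] at h1
    intro h0
    have h2 := classInner_conj_symm (fun n : N => indFun T ψ'.1 n) θ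
    rw [h0, map_zero] at h2
    rw [h2] at h1
    exact hc (by exact_mod_cast h1.symm)
  have hχσ : ∀ g : G, indFun T ψ (g ^ k) = indFun T ψ g := by
    intro g
    rw [← indFun_pow T k hk ψ g]
    congr 1
    funext t
    exact hψσ t
  have huniq : ∀ χ' : G → ℂ, IsIrrCharacter G χ' → classInner (fun n : N => χ' n) θ ≠ 0 →
      (∀ g : G, χ' (g ^ k) = χ' g) → χ' = indFun T ψ := by
    intro χ' hχ' hover' hσ'
    obtain ⟨ψ', hψ', hindψ', hinner⟩ := clifford_correspondence_surj N θ hθ T hT hNT χ' hχ' hover'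
    have hc' : c ⟨ψ', hψ'⟩ ≠ 0 := by
      intro h0
      have h1 := hfib ⟨ψ', hψ'⟩
      rw [h0, Nat.cast_zero] at h1
      exact hover' (by rw [← hinner]; exact h1)
    have hψ'σirr : IsIrrCharacter T (fun t => ψ' (t ^ k)) := isIrrCharacter_pow_coprime hψ' k hk'
    have hcσ : c ⟨_, hψ'σirr⟩ ≠ 0 := by
      intro h0
      have h1 := hfib ⟨_, hψ'σirr⟩
      rw [h0, Nat.cast_zero] at h1
      have h2 : classInner (fun n : N => ψ' ((⟨(n : G), hNT n.2⟩ : T) ^ k)) θ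
          = classInner (fun n : N => ψ' ⟨(n : G), hNT n.2⟩) θ := by
        unfold classInner
        congr 1
        have hkN : Nat.Coprime (Nat.card N) k :=
          (Nat.Coprime.coprime_dvd_right (Subgroup.card_subgroup_dvd_card N) hk).symm
        rw [← Equiv.sum_comp (powCoprime hkN) (fun n : N => ψ' ⟨(n : G), hNT n.2⟩ * conj (θ n))]
        apply Finset.sum_congr rfl
        intro n _
        rw [powCoprime_apply, hθσ]
        rfl
      have h3 := hfib ⟨ψ', hψ'⟩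
      exact hc' (by
        have h4 : (c ⟨ψ', hψ'⟩ : ℂ) = 0 := by
          rw [← h3, ← h2]
          exact h1
        exact_mod_cast h4)
    have hindσ : indFun T (fun t => ψ' (t ^ k)) = indFun T ψ' := by
      funext g
      rw [indFun_pow T k hk ψ' g, hindψ', hσ']
    have heq : (⟨_, hψ'σirr⟩ : IrrCharacter T) = ⟨ψ', hψ'⟩ := by
      by_contra hne
      have h1 := horth _ _ hcσ hc' hne
      rw [hindσ, isIrrCharacter_inner_self (hirr ⟨ψ', hψ'⟩ hc')] at h1
      exact one_ne_zero h1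
    have hψ'fix : ∀ t : T, ψ' (t ^ k) = ψ' t := fun t => congrFun (congrArg Subtype.val heq) t
    have hψ'over : classInner (fun x : N.subgroupOf T => ψ' (x : T))
        (fun x : N.subgroupOf T => θ ⟨((x : T) : G), Subgroup.mem_subgroupOf.mp x.2⟩) ≠ 0 := by
      have h1 := classInner_comp_equiv (Subgroup.subgroupOfEquivOfLe hNT)
        (fun n : N => ψ' ⟨(n : G), hNT n.2⟩) θ
      have h2 : ((fun n : N => ψ' ⟨(n : G), hNT n.2⟩) ∘ (Subgroup.subgroupOfEquivOfLe hNT))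
          = (fun x : N.subgroupOf T => ψ' (x : T)) := rfl
      have h3 : (θ ∘ (Subgroup.subgroupOfEquivOfLe hNT))
          = (fun x : N.subgroupOf T => θ ⟨((x : T) : G), Subgroup.mem_subgroupOf.mp x.2⟩) := rfl
      rw [h2, h3] at h1
      rw [h1, hinner]
      exact hover'
    have h5 := hψuniq ψ' hψ' hψ'over hψ'fix
    rw [← hindψ', h5]
  refine ⟨indFun T ψ, hχirr, hover ⟨ψ, hψ⟩ (by rw [hc1]; exact one_ne_zero), hχσ, ?_, huniq⟩
  intro hinv n
  obtain ⟨χ₁, hχ₁, hχ₁N, hχ₁σ, _⟩ := exists_unique_fixed_ext N hidx k hk hk₂ θ hθ hinv hθσ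
  have h1 : χ₁ = indFun T ψ := by
    apply huniq χ₁ hχ₁ _ hχ₁σ
    have h2 : (fun n : N => χ₁ n) = θ := funext hχ₁N
    rw [h2, isIrrCharacter_inner_self hθ]
    exact one_ne_zero
  rw [← h1]
  exact hχ₁N n

end Cfsg.Agent.Lib.helper22
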