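import Mathlib
import Cfsg.Agent.Lib.helper5.BlockDefect2
import Cfsg.Agent.Lib.helper5.BlockQuot

set_option autoImplicit false

namespace Cfsg.Agent.Lib.helper22

open Cfsg Cfsg.Agent.Lib.helper5 Cfsg.Agent.Lib.helper23 Cfsg.Agent.Lib.helper24
open scoped ComplexConjugate

universe u

variable {G : Type u} [Group G]

theorem centralizer_le_comap (N : Subgroup G) [N.Normal] (g : G) :
    Subgroup.centralizer ({g} : Set G)
      ≤ (Subgroup.centralizer ({(g : G ⧸ N)} : Set (G ⧸ N))).comap (QuotientGroup.mk' N) := by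
  intro x hx
  rw [Subgroup.mem_comap, Subgroup.mem_centralizer_iff]
  intro y hy
  rw [Set.mem_singleton_iff] at hy
  subst hy
  have h1 := Subgroup.mem_centralizer_iff.mp hx g rfl
  show (g : G ⧸ N) * (x : G ⧸ N) = (x : G ⧸ N) * (g : G ⧸ N)
  rw [← QuotientGroup.mk_mul, ← QuotientGroup.mk_mul, h1]

theorem centralChar_comp_mk_relIndex (N : Subgroup G) [N.Normal] (g : G) (θ : G ⧸ N → ℂ) :
    Cfsg.centralChar (θ ∘ (QuotientGroup.mk : G → G ⧸ N)) g
      = (((Subgroup.centralizer ({g} : Set G)).relIndex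
          ((Subgroup.centralizer ({(g : G ⧸ N)} : Set (G ⧸ N))).comap (QuotientGroup.mk' N)) : ℕ) : ℂ)
        * Cfsg.centralChar θ (g : G ⧸ N) := by
  have hle := centralizer_le_comap N g
  have hidx : ((Subgroup.centralizer ({(g : G ⧸ N)} : Set (G ⧸ N))).comap
      (QuotientGroup.mk' N)).index = (Subgroup.centralizer ({(g : G ⧸ N)} : Set (G ⧸ N))).index :=
    Subgroup.index_comap_of_surjective _ (QuotientGroup.mk'_surjective N)
  have hmul := Subgroup.relIndex_mul_index hle
  unfold Cfsg.centralChar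
  simp only [Function.comp_apply, QuotientGroup.mk_one]
  rw [← hmul, hidx]
  push_cast
  ring

theorem exists_sylow_image_aux {G' : Type u} [Group G'] [Finite G] [Finite G'] {p : ℕ}
    [Fact p.Prime] (f : G →* G')
    (hf : Function.Surjective f) (C : Subgroup G) (Cb : Subgroup G') (hle : C ≤ Cb.comap f)
    (hr : ¬ p ∣ C.relIndex (Cb.comap f)) (Pg : Sylow p C) :
    ∃ Du : Sylow p Cb, (Du : Subgroup Cb).map Cb.subtype
        = ((Pg : Subgroup C).map C.subtype).map f := by
  have hp : p.Prime := Fact.out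
  set D := Cb.comap f with hD
  set P := (Pg : Subgroup C).map C.subtype with hP
  have hPC : P ≤ C := sylow_map_le _ Pg
  set Q := P.map f with hQ
  have hQle : Q ≤ Cb := by
    rw [hQ, Subgroup.map_le_iff_le_comap]
    exact hPC.trans hle
  have hQp : IsPGroup p Q := (sylow_map_isPGroup _ Pg).map _
  have hidx : ¬ p ∣ (Q.subgroupOf Cb).index := by
    show ¬ p ∣ Q.relIndex Cb
    have h1 : Q.relIndex Cb = (Q.comap f).relIndex D := by
      rw [Subgroup.relIndex_comap, hD, Subgroup.map_comap_eq_self_of_surjective hf]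
    have h2 : (Q.comap f).relIndex D ∣ P.relIndex D :=
      Subgroup.relIndex_dvd_of_le_left D (Subgroup.le_comap_map _ _)
    have h3 : P.relIndex C * C.relIndex D = P.relIndex D :=
      Subgroup.relIndex_mul_relIndex P C D hPC hle
    have h4 : P.relIndex C = (Pg : Subgroup C).index := by
      show (P.subgroupOf C).index = _
      congr 1
      show P.comap C.subtype = _
      rw [hP, Subgroup.comap_map_eq_self_of_injective (Subgroup.subtype_injective _)]
    have h5 : ¬ p ∣ (Pg : Subgroup C).index := Pg.not_dvd_index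
    intro hdvd
    rw [h1] at hdvd
    have h6 := dvd_trans hdvd h2
    rw [← h3, h4] at h6
    rcases (Nat.Prime.dvd_mul hp).mp h6 with h7 | h7
    · exact h5 h7
    · exact hr h7
  have hQp' : IsPGroup p (Q.subgroupOf Cb) := hQp.comap_subtype
  refine ⟨hQp'.toSylow hidx, ?_⟩
  rw [IsPGroup.toSylow_coe, Subgroup.map_subgroupOf_eq_of_le hQle]

theorem exists_sylow_image [Finite G] {p : ℕ} [Fact p.Prime] (N : Subgroup G) [N.Normal] (g : G)
    (hr : ¬ p ∣ (Subgroup.centralizer ({g} : Set G)).relIndex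
          ((Subgroup.centralizer ({(g : G ⧸ N)} : Set (G ⧸ N))).comap (QuotientGroup.mk' N)))
    (Pg : Sylow p (Subgroup.centralizer ({g} : Set G))) :
    ∃ Du : Sylow p (Subgroup.centralizer ({(g : G ⧸ N)} : Set (G ⧸ N))),
      (Du : Subgroup (Subgroup.centralizer ({(g : G ⧸ N)} : Set (G ⧸ N)))).map
          (Subgroup.centralizer ({(g : G ⧸ N)} : Set (G ⧸ N))).subtype
        = ((Pg : Subgroup (Subgroup.centralizer ({g} : Set G))).map
            (Subgroup.centralizer ({g} : Set G)).subtype).map (QuotientGroup.mk' N) :=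
  exists_sylow_image_aux (QuotientGroup.mk' N) (QuotientGroup.mk'_surjective N) _ _
    (centralizer_le_comap N g) hr Pg

end Cfsg.Agent.Lib.helper22
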