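import Mathlib
import Cfsg.Agent.Lib.helper22.QuotDefect
import Cfsg.Agent.Lib.helper5.BlockFMT
import Cfsg.Agent.Lib.helper5.BlockReg
import Cfsg.Agent.Lib.helper5.BlockPCore
import Cfsg.Agent.Lib.helper23.BrauerFeit

set_option autoImplicit false

namespace Cfsg.Agent.Lib.helper22

open Cfsg Cfsg.Agent.Lib.helper5 Cfsg.Agent.Lib.helper23 Cfsg.Agent.Lib.helper24
open scoped ComplexConjugate

universe u

variable {G : Type u} [Group G]

noncomputable def inflIrr (N : Subgroup G) [N.Normal] (χ : IrrCharacter (G ⧸ N)) :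
    IrrCharacter G :=
  ⟨χ.1 ∘ (QuotientGroup.mk : G → G ⧸ N),
    isIrrCharacter_comp_surjective (QuotientGroup.mk' N) (QuotientGroup.mk'_surjective N) χ.2⟩

theorem inflIrr_apply (N : Subgroup G) [N.Normal] (χ : IrrCharacter (G ⧸ N)) (g : G) :
    (inflIrr N χ).1 g = χ.1 (g : G ⧸ N) := rfl

theorem coef_quot [Fintype G] [Fintype (IrrCharacter G)] (N : Subgroup G) [N.Normal]
    [Fintype (G ⧸ N)] [Fintype (IrrCharacter (G ⧸ N))] [DecidableEq (G ⧸ N)]
    (a : IrrCharacter G → ℂ) (q : G ⧸ N) :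
    coef (fun χ : IrrCharacter (G ⧸ N) => a (inflIrr N χ)) q
      = ∑ g : G, if (g : G ⧸ N) = q then coef a g else 0 := by
  classical
  set F : G ⧸ N → ℂ := fun q => ∑ g : G, if (g : G ⧸ N) = q then coef a g else 0 with hF
  have hFc : IsClassFunction (G ⧸ N) F := by
    intro q h
    obtain ⟨h', rfl⟩ := QuotientGroup.mk_surjective h
    show (∑ g : G, if (g : G ⧸ N) = (h' : G ⧸ N) * q * (h' : G ⧸ N)⁻¹ then coef a g else 0)
      = ∑ g : G, if (g : G ⧸ N) = q then coef a g else 0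
    rw [← Equiv.sum_comp (MulAut.conj h').toEquiv]
    apply Finset.sum_congr rfl
    intro g _
    simp only [MulEquiv.toEquiv_eq_coe, EquivLike.coe_coe, MulAut.conj_apply]
    rw [coef_conj]
    have hiff : (((h' * g * h'⁻¹ : G) : G ⧸ N) = (h' : G ⧸ N) * q * (h' : G ⧸ N)⁻¹)
        ↔ ((g : G ⧸ N) = q) := by
      rw [QuotientGroup.mk_mul, QuotientGroup.mk_mul, QuotientGroup.mk_inv]
      constructor
      · intro h1
        exact mul_left_cancel (mul_right_cancel h1)
      · intro h1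
        rw [h1]
    exact if_congr hiff rfl rfl
  have hcoord : coord F = fun χ : IrrCharacter (G ⧸ N) => a (inflIrr N χ) := by
    funext χ
    have h1 : a (inflIrr N χ) = coord (coef a) (inflIrr N χ) := by rw [coord_coef]
    rw [h1]
    unfold coord
    congr 1
    have h2 : ∀ q : G ⧸ N, F q * χ.1 q
        = ∑ g : G, if (g : G ⧸ N) = q then coef a g * χ.1 (g : G ⧸ N) else 0 := by
      intro q
      rw [hF]
      simp only
      rw [Finset.sum_mul]
      apply Finset.sum_congr rfl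
      intro g _
      by_cases hc : (g : G ⧸ N) = q
      · rw [if_pos hc, if_pos hc, hc]
      · rw [if_neg hc, if_neg hc, zero_mul]
    simp only [h2]
    rw [Finset.sum_comm]
    apply Finset.sum_congr rfl
    intro g _
    rw [Finset.sum_ite_eq Finset.univ (g : G ⧸ N), if_pos (Finset.mem_univ _)]
    rfl
  rw [← hcoord, coef_coord F hFc]

theorem blockCoeff_quot [Fintype G] (N : Subgroup G) [N.Normal]
    [DecidableEq (G ⧸ N)] (B : Set (IrrCharacter G)) (q : G ⧸ N) :
    blockCoeff {χ : IrrCharacter (G ⧸ N) | inflIrr N χ ∈ B} q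
      = ∑ g : G, if (g : G ⧸ N) = q then blockCoeff B g else 0 := by
  classical
  have : Fintype (G ⧸ N) := Fintype.ofFinite _
  have : Fintype (IrrCharacter G) := Fintype.ofFinite _
  have : Fintype (IrrCharacter (G ⧸ N)) := Fintype.ofFinite _
  have h1 := coef_quot N (B.indicator (fun _ => (1 : ℂ))) q
  simp only [coef_indicator] at h1
  rw [← h1, ← coef_indicator]
  congr 1

theorem singular_mul {p : ℕ} (hp : p.Prime) {x n : G} (hc : Commute x n)
    (hx : ¬ p ∣ orderOf x) (hn : ∃ k : ℕ, orderOf n = p ^ k) (hn1 : n ≠ 1) :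
    p ∣ orderOf (x * n) := by
  by_contra hcon
  obtain ⟨k, hk⟩ := hn
  have h1 : n ^ (orderOf (x * n) * orderOf x) = 1 := by
    have h2 : (x * n) ^ (orderOf (x * n) * orderOf x) = 1 := by
      rw [pow_mul, pow_orderOf_eq_one, one_pow]
    have h3 : x ^ (orderOf (x * n) * orderOf x) = 1 := by
      rw [mul_comm, pow_mul, pow_orderOf_eq_one, one_pow]
    rw [hc.mul_pow, h3, one_mul] at h2
    exact h2
  have h4 := orderOf_dvd_of_pow_eq_one h1
  rw [hk] at h4
  rcases Nat.eq_zero_or_pos k with hk0 | hk0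
  · rw [hk0, pow_zero] at hk
    exact hn1 (orderOf_eq_one_iff.mp hk)
  · have h5 : p ∣ orderOf (x * n) * orderOf x := dvd_trans (dvd_pow_self p (by omega)) h4
    rcases (Nat.Prime.dvd_mul hp).mp h5 with h6 | h6
    · exact hcon h6
    · exact hx h6

theorem exists_block_coef [Fintype G] [Fintype (IrrCharacter G)] {M : Ideal AlgInt}
    (hMp : M.IsPrime) (S : Set (IrrCharacter G))
    (hS : ∀ χ ∈ S, blockOf M χ.1 ⊆ S) (g : G)
    (h : ¬ MemLocalIdeal M (coef (S.indicator (fun _ => (1 : ℂ))) g)) :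
    ∃ χ ∈ S, ¬ MemLocalIdeal M (coef ((blockOf M χ.1).indicator (fun _ => (1 : ℂ))) g) := by
  classical
  by_contra hcon
  push Not at hcon
  apply h
  set T : Finset (Set (IrrCharacter G)) :=
    (Finset.univ.filter (fun χ : IrrCharacter G => χ ∈ S)).image (fun χ => blockOf M χ.1) with hT
  have hsum : S.indicator (fun _ => (1 : ℂ))
      = ∑ b ∈ T, (b.indicator (fun _ => (1 : ℂ)) : IrrCharacter G → ℂ) := by
    funext ψ
    rw [Finset.sum_apply]
    by_cases hψ : ψ ∈ S
    · rw [Set.indicator_of_mem hψ, Finset.sum_eq_single (blockOf M ψ.1)]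
      · rw [Set.indicator_of_mem (mem_blockOf_self hMp.ne_top ψ)]
      · intro b hb hne
        rw [hT, Finset.mem_image] at hb
        obtain ⟨χ, -, rfl⟩ := hb
        apply Set.indicator_of_notMem
        intro hmem
        exact hne (blockOf_eq_of_mem hMp hmem).symm
      · intro hnot
        exfalso
        apply hnot
        rw [hT, Finset.mem_image]
        exact ⟨ψ, Finset.mem_filter.mpr ⟨Finset.mem_univ _, hψ⟩, rfl⟩
    · rw [Set.indicator_of_notMem hψ]
      symm
      apply Finset.sum_eq_zero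
      intro b hb
      rw [hT, Finset.mem_image] at hb
      obtain ⟨χ, hχ, rfl⟩ := hb
      apply Set.indicator_of_notMem
      intro hmem
      exact hψ (hS χ (Finset.mem_filter.mp hχ).2 hmem)
  rw [hsum, coef_sum]
  apply memLocalIdeal_sum hMp
  intro b hb
  rw [hT, Finset.mem_image] at hb
  obtain ⟨χ, hχ, rfl⟩ := hb
  exact hcon χ (Finset.mem_filter.mp hχ).2

theorem defectGroup_conj_of [Finite G] {p : ℕ} [Fact p.Prime] {M : Ideal AlgInt}
    (hM : IsPModular p M) (χ₀ : IrrCharacter G) {D₁ D₂ : Subgroup G}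
    (h₁ : IsDefectGroup p M (blockOf M χ₀.1) D₁) (h₂ : IsDefectGroup p M (blockOf M χ₀.1) D₂) :
    ∃ y : G, D₂ = D₁.map (MulAut.conj y).toMonoidHom := by
  classical
  have : Fintype G := Fintype.ofFinite G
  have : Fintype (IrrCharacter G) := Fintype.ofFinite _
  have hMp := isPModular_isPrime hM
  have hc1 := card_defectGroup p hM _ ⟨χ₀, rfl⟩ D₁ h₁
  have hc2 := card_defectGroup p hM _ ⟨χ₀, rfl⟩ D₂ h₂
  obtain ⟨u, hu, P₁, rfl⟩ := h₁
  obtain ⟨v, hv, P₂, rfl⟩ := h₂
  obtain ⟨x, hx⟩ := key_conj hM χ₀ u v (hu.2.2 χ₀ (mem_blockOf_self hMp.ne_top χ₀)) hv.2.1 P₁ _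
    (sylow_map_isPGroup _ P₂) (sylow_map_le _ P₂)
  have heq := Subgroup.eq_of_le_of_card_ge hx (by rw [card_map_conj, hc1, hc2])
  refine ⟨x⁻¹, ?_⟩
  rw [← heq, map_conj_map_conj, inv_mul_cancel, map_conj_one]

theorem map_conj_map_mk (N : Subgroup G) [N.Normal] (y : G) (P : Subgroup G) :
    (P.map (MulAut.conj y).toMonoidHom).map (QuotientGroup.mk' N)
      = (P.map (QuotientGroup.mk' N)).map (MulAut.conj (y : G ⧸ N)).toMonoidHom := by
  rw [Subgroup.map_map, Subgroup.map_map]
  congr 1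

end Cfsg.Agent.Lib.helper22
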